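import Cfsg.Agent.Lib.Leech.Simple

/-!
The stabilizers of vectors of norms 32 and 48 are simple.
-/

set_option autoImplicit false
set_option maxRecDepth 10000

namespace CfsgLib.Leech

open Cfsg CfsgLib.Golay
open scoped Pointwise symmDiff

attribute [local irreducible] dL bL key keyL coord packB linL

theorem normalizer_of_conj {y : ↥Co0} (h : y * seed * y⁻¹ ∈ Subgroup.zpowers seed) :
    y ∈ Subgroup.normalizer (Subgroup.zpowers seed : Set ↥Co0) := by
  haveI := finite_Co0
  rw [Subgroup.mem_normalizer_iff_map_conj_eq]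
  refine Subgroup.eq_of_le_of_card_ge ?_ (le_of_eq ?_)
  · rw [Subgroup.map_le_iff_le_comap]
    exact Subgroup.zpowers_le.2 h
  · exact (Nat.card_congr (Subgroup.equivMapOfInjective _ _ (MulAut.conj y).injective).toEquiv)

variable {a : ↥leechLattice} (ha1 : ∀ x : ZMod 23, (a : GolayPt → ℤ) (some x) = 1)
  (ha0 : (a : GolayPt → ℤ) none ∉ ({-1, 0, 1} : Finset ℤ))

include ha1 in
theorem seed_mem_stab : seed ∈ MulAction.stabilizer ↥Co0 a :=
  seed_fix fun p => by
    cases p with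
    | none => rfl
    | some x => rw [shiftσ_some, ha1, ha1]

include ha1 ha0 in
theorem mono_stab {τ : Equiv.Perm GolayPt} {d : Finset GolayPt} (hτ : τ ∈ M24) (hd : d ∈ CS)
    (h : mono hτ hd ∈ MulAction.stabilizer ↥Co0 a) : τ none = none ∧ d = ∅ := by
  simp only [Finset.mem_insert, Finset.mem_singleton, not_or] at ha0
  have he : ∀ i, ((mono hτ hd • a : ↥leechLattice) : GolayPt → ℤ) i = (a : GolayPt → ℤ) i := fun i => by
    rw [MulAction.mem_stabilizer_iff.1 h]
  have hn : τ none = none := by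
    have := he none
    rw [mono_apply] at this
    cases hc : τ none with
    | none => rfl
    | some x => rw [hc, ha1] at this; split at this <;> omega
  refine ⟨hn, Finset.eq_empty_of_forall_notMem fun i hi => ?_⟩
  have := he i
  rw [mono_apply, if_pos hi] at this
  cases i with
  | none => rw [hn] at this; omega
  | some x =>
    rw [ha1] at this
    cases hc : τ (some x) with
    | none => exact absurd (τ.injective (hc.trans hn.symm)) (Option.some_ne_none _)
    | some z => rw [hc, ha1] at this; omega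

include ha1 in
theorem perm_mem_stab (τ : ↥(MulAction.stabilizer M24 (none : GolayPt))) :
    m24Hom τ.1 ∈ MulAction.stabilizer ↥Co0 a := by
  have h0 : τ.1.1 none = none := τ.2
  rw [MulAction.mem_stabilizer_iff]
  refine Subtype.ext (funext fun i => ?_)
  show ((mono (inv_mem τ.1.2) empty_mem_CS • a : ↥leechLattice) : GolayPt → ℤ) i = _
  rw [mono_apply, if_neg (Finset.notMem_empty _)]
  cases i with
  | none => rw [Equiv.Perm.inv_eq_iff_eq.2 h0.symm]
  | some x =>
    cases hc : (τ.1.1)⁻¹ (some x) with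
    | none => rw [Equiv.Perm.inv_eq_iff_eq, h0] at hc; exact absurd hc (Option.some_ne_none _)
    | some z => rw [ha1, ha1]

include ha1 in
/-- the point stabilizer of the permutations in the stabilizer of the vector -/
noncomputable def m23Hom : ↥(MulAction.stabilizer M24 (none : GolayPt)) →* ↥(MulAction.stabilizer ↥Co0 a) :=
  (m24Hom.comp (MulAction.stabilizer M24 (none : GolayPt)).subtype).codRestrict _ (perm_mem_stab ha1)

include ha1 ha0 in
/-- a normal subgroup of the stabilizer containing the seed is everything -/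
theorem stab_eq_top {N : Subgroup ↥(MulAction.stabilizer ↥Co0 a)} [hN : N.Normal]
    (h : (⟨seed, seed_mem_stab ha1⟩ : ↥(MulAction.stabilizer ↥Co0 a)) ∈ N) : N = ⊤ := by
  haveI := finite_Co0
  haveI := isSimpleGroup_stab_point (none : GolayPt)
  haveI : (N.comap (m23Hom ha1)).Normal := hN.comap _
  have htop : N.comap (m23Hom ha1) = ⊤ := by
    refine (inferInstance : (N.comap (m23Hom ha1)).Normal).eq_bot_or_eq_top.resolve_left fun hb => ?_
    let t : ↥(MulAction.stabilizer M24 (none : GolayPt)) :=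
      ⟨⟨shiftσ⁻¹, inv_mem shiftσ_mem⟩, show shiftσ⁻¹ none = none by
        rw [Equiv.Perm.inv_eq_iff_eq, shiftσ_none]⟩
    have h1 : t ∈ N.comap (m23Hom ha1) := by
      rw [Subgroup.mem_comap, show m23Hom ha1 t = ⟨seed, seed_mem_stab ha1⟩ from
        Subtype.ext (m24Hom_inv shiftσ_mem)]
      exact h
    rw [hb, Subgroup.mem_bot] at h1
    have h2 : shiftσ = 1 := inv_eq_one.1 (congrArg (fun u => u.1.1) h1)
    have := Equiv.ext_iff.1 h2 (some 0)
    rw [shiftσ_some] at this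
    exact absurd this (by decide)
  have hS := Subgroup.card_subgroup_dvd_card (MulAction.stabilizer ↥Co0 a)
  rw [natCard_Co0] at hS
  have hsup := SeedCrit.sup_normalizer (N := N) ((Subgroup.orderOf_mk _ _).trans orderOf_seed)
    (fun hd => absurd (hd.trans hS) (by norm_num)) h
  refine (sup_eq_left.2 ?_).symm.trans hsup
  intro y hy
  have hy1 : (y : ↥Co0) ∈ Subgroup.normalizer (Subgroup.zpowers seed : Set ↥Co0) := by
    refine normalizer_of_conj ?_
    have := (Subgroup.mem_normalizer_iff.1 hy _).1 (Subgroup.mem_zpowers _)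
    obtain ⟨k, hk⟩ := Subgroup.mem_zpowers_iff.1 this
    refine Subgroup.mem_zpowers_iff.2 ⟨k, ?_⟩
    simpa using congrArg Subtype.val hk
  obtain ⟨τ, d, hτ, hd, hyd⟩ := crossStab_eq_mono (normalizer_le_crossStab hy1)
  obtain ⟨hn, rfl⟩ := mono_stab ha1 ha0 hτ hd (hyd ▸ y.2)
  let t : ↥(MulAction.stabilizer M24 (none : GolayPt)) :=
    ⟨⟨τ⁻¹, inv_mem hτ⟩, show τ⁻¹ none = none by rw [Equiv.Perm.inv_eq_iff_eq, hn]⟩
  have ht : t ∈ N.comap (m23Hom ha1) := htop ▸ Subgroup.mem_top _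
  rwa [Subgroup.mem_comap, show m23Hom ha1 t = y from
    Subtype.ext ((m24Hom_inv hτ).trans hyd.symm)] at ht

include ha1 ha0 in
/-- outside it, a normal subgroup has no prime divisor of small exponent -/
theorem stab_no_prime {N : Subgroup ↥(MulAction.stabilizer ↥Co0 a)} [N.Normal]
    (h : (⟨seed, seed_mem_stab ha1⟩ : ↥(MulAction.stabilizer ↥Co0 a)) ∉ N) {p : ℕ} (hp : p.Prime)
    (hpN : p ∣ Nat.card N)
    (hsmall : ∀ e, p ^ e ∣ Nat.card ↥(MulAction.stabilizer ↥Co0 a) → p ^ e % 23 = 1 → e = 0) : False := by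
  haveI := finite_Co0
  have hS := Subgroup.card_subgroup_dvd_card (MulAction.stabilizer ↥Co0 a)
  rw [natCard_Co0] at hS
  have ho := (Subgroup.orderOf_mk seed (seed_mem_stab ha1)).trans orderOf_seed
  have hq2 : ¬ 23 ^ 2 ∣ Nat.card ↥(MulAction.stabilizer ↥Co0 a) := fun hd =>
    absurd (hd.trans hS) (by norm_num)
  have hp23 : p ≠ 23 := by
    rintro rfl
    exact h (SeedCrit.mem_of_dvd ho hq2 hpN)
  obtain ⟨y, hy, hy1, hc, k, hk⟩ := SeedCrit.exists_commute ho hq2 h hp hpN hsmall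
  have hc' : Commute seed (y : ↥Co0) := congrArg Subtype.val hc.eq
  obtain ⟨τ, d, hτ, hd, hyd⟩ := crossStab_eq_mono (normalizer_le_crossStab (normalizer_of_commute hc'))
  obtain ⟨-, rfl⟩ := mono_stab ha1 ha0 hτ hd (hyd ▸ y.2)
  have hk' : (y : ↥Co0) ^ p ^ k = 1 := by
    rw [← SubgroupClass.coe_pow, hk, OneMemClass.coe_one]
  rw [hyd] at hc' hk'
  obtain rfl := sign_of_commute hc' hp hp23 hk'
  exact hy1 (Subtype.ext (hyd.trans one_eq_mono.symm))

theorem natCard_stab {v : ↥leechLattice} {t : ℕ} (ht : t < 3) {c m : ℕ}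
    (hv : sqNorm (v : GolayPt → ℤ) = typeNorm t) (hc : (shell (typeNorm t)).ncard = c)
    (hm : c * m = 8315553613086720000) (hc0 : c ≠ 0) :
    Nat.card ↥(MulAction.stabilizer ↥Co0 v) = m := by
  haveI := finite_Co0
  have h := Nat.card_congr (MulAction.orbitProdStabilizerEquivGroup ↥Co0 v)
  rw [Nat.card_prod, natCard_Co0] at h
  have horb : Nat.card (MulAction.orbit ↥Co0 v) = c := by
    rw [Nat.card_coe_set_eq, ← hc,
      ← Set.ncard_image_of_injective (MulAction.orbit ↥Co0 v) Subtype.val_injective]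
    congr 1
    ext x
    constructor
    · rintro ⟨_, ⟨g, rfl⟩, rfl⟩
      exact ⟨Subtype.prop _, (sqNorm_smul g v).trans hv⟩
    · rintro ⟨hx, hn⟩
      exact ⟨⟨x, hx⟩, transitive_small (w := ⟨x, hx⟩) ht hv hn, rfl⟩
  rw [horb] at h
  exact Nat.eq_of_mul_eq_mul_left (Nat.pos_of_ne_zero hc0) (h.trans hm.symm)

theorem natCard_stab32 {v : ↥leechLattice} (hv : sqNorm (v : GolayPt → ℤ) = 32) :
    Nat.card ↥(MulAction.stabilizer ↥Co0 v) = 42305421312000 :=
  natCard_stab (t := 1) (by norm_num) hv ncard_shell32 (by norm_num) (by norm_num)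

theorem natCard_stab48 {v : ↥leechLattice} (hv : sqNorm (v : GolayPt → ℤ) = 48) :
    Nat.card ↥(MulAction.stabilizer ↥Co0 v) = 495766656000 :=
  natCard_stab (t := 2) (by norm_num) hv ncard_shell48 (by norm_num) (by norm_num)

/-- the vector with entries `-3` and `1` -/
def a32 : ↥leechLattice := ⟨_, oddVec_mem⟩

/-- the vector with entries `5` and `1` -/
def a48 : ↥leechLattice := a32 + eightL none

theorem a32_facts : (∀ x : ZMod 23, (a32 : GolayPt → ℤ) (some x) = 1) ∧
    (a32 : GolayPt → ℤ) none ∉ ({-1, 0, 1} : Finset ℤ) ∧ sqNorm (a32 : GolayPt → ℤ) = 32 := by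
  refine ⟨fun x => by simp [a32], by simp [a32], ?_⟩
  simp [a32, sqNorm, Fintype.sum_option]

theorem a48_facts : (∀ x : ZMod 23, (a48 : GolayPt → ℤ) (some x) = 1) ∧
    (a48 : GolayPt → ℤ) none ∉ ({-1, 0, 1} : Finset ℤ) ∧ sqNorm (a48 : GolayPt → ℤ) = 48 := by
  refine ⟨fun x => by simp [a48, a32, eightL, eight], by simp [a48, a32, eightL, eight], ?_⟩
  simp [a48, a32, eightL, eight, sqNorm, Fintype.sum_option]

theorem stab32_simple : IsSimpleGroup ↥(MulAction.stabilizer ↥Co0 a32) := by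
  haveI := finite_Co0
  obtain ⟨ha1, ha0, hn⟩ := a32_facts
  haveI : Nontrivial ↥(MulAction.stabilizer ↥Co0 a32) := by
    rw [← Finite.one_lt_card_iff_nontrivial, natCard_stab32 hn]; norm_num
  refine ⟨fun N hN => ?_⟩
  by_cases hs : (⟨seed, seed_mem_stab ha1⟩ : ↥(MulAction.stabilizer ↥Co0 a32)) ∈ N
  · exact Or.inr (stab_eq_top ha1 ha0 hs)
  refine Or.inl ?_
  have h2 : IsPGroup 2 N := isPGroup_two_of_card fun p hp hp2 hd =>
    two_group_of_seed_notMem (seed_mem_stab ha1) hs p hp hp2 hd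
  obtain ⟨g, hg⟩ := transitive_small (t := 1) (by norm_num) hn sqNorm_uV
  set N' := (N.map (MulAction.stabilizer ↥Co0 a32).subtype).map (MulAut.conj g).toMonoidHom with hN'
  have hle : N' ≤ uStab := by
    rintro _ ⟨_, ⟨n, -, rfl⟩, rfl⟩
    rw [mem_uStab]
    have hna : (n : ↥Co0) • a32 = a32 := n.2
    show IsDbl ((g * n * g⁻¹) • uV - uV)
    rw [← hg, mul_smul, mul_smul, inv_smul_smul, hna, sub_self]
    exact isDbl_zero
  have hnorm : ∀ u ∈ uStab, ∀ n ∈ N', u * n * u⁻¹ ∈ N' := by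
    intro u hu n hn'
    obtain ⟨_, ⟨m, hm, rfl⟩, rfl⟩ := hn'
    have hu' : u • uV = uV ∨ u • uV = -uV :=
      eq_or_neg_of_key (v := uV) (w := u • uV) (by rw [sqNorm_uV]; norm_num)
        (by rw [sqNorm_smul, sqNorm_uV]; norm_num) ((isDbl_sub_iff _ _).1 hu).symm
    obtain ⟨c, hcc, hcu⟩ : ∃ c ∈ Subgroup.center ↥Co0, (c * u) • uV = uV := by
      rcases hu' with e | e
      · exact ⟨1, one_mem _, by rw [one_mul, e]⟩
      · exact ⟨negAut, negAut_mem_center, by rw [mul_smul, e, negAut_smul, neg_neg]⟩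
    have hmem : g⁻¹ * (c * u) * g ∈ MulAction.stabilizer ↥Co0 a32 := by
      rw [MulAction.mem_stabilizer_iff, mul_smul, mul_smul, hg, hcu, inv_smul_eq_iff, hg]
    refine ⟨_, ⟨_, hN.conj_mem m hm ⟨_, hmem⟩, rfl⟩, ?_⟩
    have hcc' := Subgroup.mem_center_iff.1 hcc
    show g * (g⁻¹ * (c * u) * g * m * (g⁻¹ * (c * u) * g)⁻¹) * g⁻¹ = u * (g * m * g⁻¹) * u⁻¹
    calc g * (g⁻¹ * (c * u) * g * m * (g⁻¹ * (c * u) * g)⁻¹) * g⁻¹
        = c * (u * (g * m * g⁻¹) * u⁻¹) * c⁻¹ := by group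
      _ = _ := by rw [← hcc', mul_inv_cancel_right]
  have hc := normal_two_subgroup_uStab ((h2.map _).map _) hle hnorm
  rw [eq_bot_iff]
  intro n hn'
  have hz := hc (show _ ∈ N' from ⟨_, ⟨n, hn', rfl⟩, rfl⟩)
  have hz' : g * (n : ↥Co0) * g⁻¹ = n := by
    have := Subgroup.mem_center_iff.1 hz g⁻¹
    have e : (n : ↥Co0) = g * n * g⁻¹ := by
      calc (n : ↥Co0) = g⁻¹ * (g * n * g⁻¹) * g := by group
        _ = g * n * g⁻¹ * g⁻¹ * g := by rw [show g⁻¹ * (g * (n : ↥Co0) * g⁻¹) = _ from this]; rfl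
        _ = _ := inv_mul_cancel_right _ _
    exact e.symm
  have hnc : (n : ↥Co0) ∈ Subgroup.center ↥Co0 := hz' ▸ hz
  rw [← SetLike.mem_coe, center_eq] at hnc
  rcases hnc with e | e
  · exact Subgroup.mem_bot.2 (Subtype.ext e)
  · exfalso
    have hfix : (n : ↥Co0) • a32 = a32 := n.2
    rw [show (n : ↥Co0) = negAut from e, negAut_smul] at hfix
    have := congrFun (congrArg Subtype.val hfix) (some 0)
    rw [AddSubgroup.coe_neg, Pi.neg_apply, ha1] at this
    omega

theorem stab48_simple : IsSimpleGroup ↥(MulAction.stabilizer ↥Co0 a48) := by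
  haveI := finite_Co0
  obtain ⟨ha1, ha0, hn⟩ := a48_facts
  have hcard := natCard_stab48 hn
  haveI : Nontrivial ↥(MulAction.stabilizer ↥Co0 a48) := by
    rw [← Finite.one_lt_card_iff_nontrivial, hcard]; norm_num
  refine ⟨fun N hN => ?_⟩
  by_cases hs : (⟨seed, seed_mem_stab ha1⟩ : ↥(MulAction.stabilizer ↥Co0 a48)) ∈ N
  · exact Or.inr (stab_eq_top ha1 ha0 hs)
  refine Or.inl (Subgroup.card_eq_one.1 (Nat.eq_one_iff_not_exists_prime_dvd.2 fun p hp hd => ?_))
  refine stab_no_prime ha1 ha0 hs hp hd fun e he he' => ?_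
  rw [hcard] at he
  have key : ∀ p ∈ [2, 3, 5, 7, 11, 13, 23], ∀ e ∈ List.range 64,
      495766656000 % p ^ e = 0 → p ^ e % 23 = 1 → e = 0 := by decide +kernel
  exact key p (prime_cases hp (hd.trans ((Subgroup.card_subgroup_dvd_card N).trans
    (hcard ▸ (by norm_num : (495766656000 : ℕ) ∣ 8315553613086720000)))))
    e (List.mem_range.2 (exp_lt hp (by norm_num) (by norm_num) he)) (Nat.mod_eq_zero_of_dvd he) he'

theorem isSimple_stab_of_transitive {v a : ↥leechLattice} {t : ℕ} (ht : t < 3)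
    (hv : sqNorm (v : GolayPt → ℤ) = typeNorm t) (ha : sqNorm (a : GolayPt → ℤ) = typeNorm t)
    (h : IsSimpleGroup ↥(MulAction.stabilizer ↥Co0 a)) :
    IsSimpleGroup ↥(MulAction.stabilizer ↥Co0 v) := by
  obtain ⟨g, hg⟩ := transitive_small ht ha hv
  exact (MulAction.stabilizerEquivStabilizer hg.symm).symm.isSimpleGroup

theorem isCo2_stab {v : ↥leechLattice} (hv : sqNorm (v : GolayPt → ℤ) = 32) :
    IsCo2 ↥(MulAction.stabilizer ↥Co0 v) :=
  ⟨isSimple_stab_of_transitive (t := 1) (by norm_num) hv a32_facts.2.2 stab32_simple, natCard_stab32 hv⟩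

theorem isCo3_stab {v : ↥leechLattice} (hv : sqNorm (v : GolayPt → ℤ) = 48) :
    IsCo3 ↥(MulAction.stabilizer ↥Co0 v) :=
  ⟨isSimple_stab_of_transitive (t := 2) (by norm_num) hv a48_facts.2.2 stab48_simple, natCard_stab48 hv⟩

end CfsgLib.Leech
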