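import Cfsg.Agent.Lib.Leech.Counts
import Cfsg.Prelude.Def_SporadicCombinatorics
import Cfsg.Agent.Lib.Golay.MathieuFacts

/-!
The automorphism group of the lattice: transitivity on short vectors, crosses, order and centre.
-/

set_option autoImplicit false
set_option maxRecDepth 10000

namespace CfsgLib.Leech

open Cfsg CfsgLib.Golay
open scoped Pointwise

attribute [local irreducible] dL bL key keyL coord packB linL bits

/-- the standard vector of a type, in the lattice -/
def mainL {t : ℕ} (ht : t < 4) : ↥leechLattice := ⟨mainV t, mainV_mem ht⟩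

theorem exists_typ (v : ↥leechLattice) : ∃ t, t < 4 ∧ Typ t (key (v : GolayPt → ℤ)) :=
  classify (key_lt _)

theorem typ_of_norm {v : ↥leechLattice} {t : ℕ} (ht : t < 4)
    (h : sqNorm (v : GolayPt → ℤ) = typeNorm t) : Typ t (key (v : GolayPt → ℤ)) := by
  obtain ⟨s, hs, hT⟩ := exists_typ v
  obtain ⟨w, hw, hwk⟩ := hT.exists_vec hs
  have he := sqNorm_eq_of_key w.2 v.2 (hw ▸ typeNorm_le hs) (h ▸ typeNorm_le ht) hwk
  rwa [← typeNorm_inj hs ht (hw ▸ h ▸ he)]

theorem exists_smul_congr {v : ↥leechLattice} {t : ℕ} (ht : t < 4)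
    (h : sqNorm (v : GolayPt → ℤ) = typeNorm t) :
    ∃ g : ↥Co0, key ((g • mainL ht : ↥leechLattice) : GolayPt → ℤ) = key (v : GolayPt → ℤ) := by
  obtain ⟨g, hg⟩ := typ_of_norm ht h
  exact ⟨g, by rw [← act_key g (mainL ht)]; exact hg⟩

theorem eq_or_neg_of_key {v w : ↥leechLattice} (hv : sqNorm (v : GolayPt → ℤ) < 64)
    (hw : sqNorm (w : GolayPt → ℤ) ≤ 64) (h : key (v : GolayPt → ℤ) = key (w : GolayPt → ℤ)) :
    w = v ∨ w = -v := by
  by_contra hc
  push Not at hc
  obtain ⟨a, -, -⟩ := short_congruent v.2 w.2 hv.le hw ((key_eq_iff v.2 w.2).1 h)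
    (fun e => hc.1 (Subtype.ext e)) (fun e => hc.2 (Subtype.ext e))
  omega

theorem exists_smul_small {v : ↥leechLattice} {t : ℕ} (ht : t < 3)
    (h : sqNorm (v : GolayPt → ℤ) = typeNorm t) :
    ∃ g : ↥Co0, g • mainL (t := t) (by omega) = v := by
  have ht4 : t < 4 := by omega
  obtain ⟨g, hg⟩ := exists_smul_congr ht4 h
  have hlt : typeNorm t < 64 := by interval_cases t <;> simp [typeNorm]
  have hn : sqNorm ((g • mainL ht4 : ↥leechLattice) : GolayPt → ℤ) = typeNorm t :=
    (sqNorm_smul g _).trans (mainV_norm ht4)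
  rcases eq_or_neg_of_key (hn ▸ hlt) (h ▸ hlt.le) hg with e | e
  · exact ⟨g, e.symm⟩
  · exact ⟨negAut * g, by rw [mul_smul, negAut_smul, e]⟩

theorem transitive_small {v w : ↥leechLattice} {t : ℕ} (ht : t < 3)
    (hv : sqNorm (v : GolayPt → ℤ) = typeNorm t) (hw : sqNorm (w : GolayPt → ℤ) = typeNorm t) :
    ∃ g : ↥Co0, g • v = w := by
  obtain ⟨g, hg⟩ := exists_smul_small ht hv
  obtain ⟨k, hk⟩ := exists_smul_small ht hw
  exact ⟨k * g⁻¹, by rw [mul_smul, ← hg, inv_smul_smul, hk]⟩

/-! ### The standard cross -/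

/-- the vector with `8 s` at the point `p` -/
def eight (p : GolayPt) : GolayPt → ℤ := Pi.single p 8

theorem eight_mem (p : GolayPt) : eight p ∈ leechLattice := by
  refine mem_iff.2 ⟨0, ∅, empty_mem_CS, Pi.single p 2, ?_, ?_⟩
  · simp [Finset.sum_pi_single']
  · funext i
    simp only [mk, ind, eight, Finset.notMem_empty, if_false]
    by_cases h : i = p
    · subst h; simp
    · simp [h]

/-- the vectors of the standard cross as lattice elements -/
def eightL (p : GolayPt) : ↥leechLattice := ⟨eight p, eight_mem p⟩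

theorem dotInt_eight (v : GolayPt → ℤ) (p : GolayPt) : dotInt v (eight p) = 8 * v p := by
  simp only [dotInt, eight]
  rw [Finset.sum_eq_single p]
  · simp; ring
  · intro q _ hq; simp [hq]
  · simp

theorem dotInt_neg_eight (v : GolayPt → ℤ) (p : GolayPt) : dotInt v (-eight p) = -(8 * v p) := by
  rw [← dotInt_eight]
  simp [dotInt]

theorem sqNorm_eight (p : GolayPt) : sqNorm (eight p) = 64 := by
  rw [sqNorm_eq_dotInt, dotInt_eight]; simp [eight]

theorem key_eight (p q : GolayPt) : key (eight p) = key (eight q) := by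
  rw [key_eq_iff (eight_mem p) (eight_mem q)]
  refine ⟨fun i => (Pi.single p 4 : GolayPt → ℤ) i - (Pi.single q 4 : GolayPt → ℤ) i, ?_, ?_⟩
  · refine mem_iff.2 ⟨0, ∅, empty_mem_CS, fun i => (Pi.single p 1 : GolayPt → ℤ) i - (Pi.single q 1 : GolayPt → ℤ) i, ?_, ?_⟩
    · simp [Finset.sum_sub_distrib, Finset.sum_pi_single']
    · funext i
      simp only [mk, ind, Finset.notMem_empty, if_false]
      by_cases h : i = p <;> by_cases h' : i = q <;> simp [h, h', Pi.single_apply] <;> ring_nf <;> simp
  · funext i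
    simp only [eight, Pi.sub_apply, Pi.smul_apply, nsmul_eq_mul]
    by_cases h : i = p <;> by_cases h' : i = q <;> simp [h, h', Pi.single_apply] <;> ring_nf <;> simp

theorem mainV_three : mainV 3 = eight none := by
  funext p
  revert p
  decide +kernel

theorem mainK_three (p : GolayPt) : mainK 3 = key (eight p) := by
  rw [mainK, mainV_three, key_eight]

/-- the vectors of norm 64 in the class of the standard cross -/
theorem cross_class {w : GolayPt → ℤ} (hw : w ∈ leechLattice) (hn : sqNorm w = 64)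
    (hk : key w = mainK 3) : ∃ p, w = eight p ∨ w = -eight p := by
  by_contra hc
  push Not at hc
  have h0 : ∀ p, w p = 0 := by
    intro p
    obtain ⟨-, -, hd⟩ := short_congruent (eight_mem p) hw (sqNorm_eight p).le hn.le
      ((key_eq_iff (eight_mem p) hw).1 (by rw [hk, mainK_three p])) (hc p).1 (hc p).2
    rw [dotInt_comm, dotInt_eight] at hd
    omega
  have : w = 0 := funext h0
  rw [this, sqNorm_zero] at hn
  omega

theorem mem_stdCross_iff {w : GolayPt → ℤ} :
    w ∈ stdCross ↔ ∃ p, w = eight p ∨ w = -eight p := by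
  constructor
  · rintro ⟨p, s, rfl | rfl, rfl⟩
    · exact ⟨p, Or.inl rfl⟩
    · exact ⟨p, Or.inr (by rw [eight, ← Pi.single_neg])⟩
  · rintro ⟨p, rfl | rfl⟩
    · exact ⟨p, 8, Or.inl rfl, rfl⟩
    · exact ⟨p, -8, Or.inr rfl, by rw [eight, ← Pi.single_neg]⟩

theorem stdCross_props {w : GolayPt → ℤ} (h : w ∈ stdCross) :
    w ∈ leechLattice ∧ sqNorm w = 64 ∧ key w = mainK 3 := by
  obtain ⟨p, rfl | rfl⟩ := mem_stdCross_iff.1 h
  · exact ⟨eight_mem p, sqNorm_eight p, (mainK_three p).symm⟩
  · exact ⟨neg_mem (eight_mem p), by rw [sqNorm_neg]; exact sqNorm_eight p,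
      by rw [key_neg (eight_mem p)]; exact (mainK_three p).symm⟩

theorem ncard_stdCross : stdCross.ncard = 48 := by
  have he : stdCross = Set.range eight ∪ Set.range fun p => -eight p := by
    ext w; simp [mem_stdCross_iff, exists_or, eq_comm]
  have hinj : Function.Injective eight := by
    intro p q h
    by_contra hne
    have := congrFun h p
    simp [eight, hne] at this
  rw [he, Set.ncard_union_eq ?_ (Set.finite_range _) (Set.finite_range _),
    Set.ncard_range_of_injective hinj, Set.ncard_range_of_injective (fun p q h => hinj (neg_injective h))]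
  · simp
  · rw [Set.disjoint_left]
    rintro _ ⟨p, rfl⟩ ⟨q, h⟩
    have := congrFun h p
    by_cases hpq : p = q <;> simp [eight, hpq] at this

theorem smul_eight_mono {σ : Equiv.Perm GolayPt} (hσ : σ ∈ M24) (p : GolayPt) :
    ((mono hσ empty_mem_CS • eightL (σ p) : ↥leechLattice) : GolayPt → ℤ) = eight p := by
  rw [mono, Iso.aut_smul]
  funext i
  simp only [monoIso, monoFun, eightL, eight, Finset.notMem_empty, if_false]
  by_cases h : i = p <;> simp [h, Pi.single_apply]

theorem exists_smul_cross {w : ↥leechLattice} (hw : (w : GolayPt → ℤ) ∈ stdCross) :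
    ∃ g : ↥Co0, g • eightL none = w := by
  obtain ⟨p, hp⟩ := mem_stdCross_iff.1 hw
  obtain ⟨a, ha, hap⟩ := exists_map_point p
  obtain ⟨b, hb, hb0⟩ := exists_map_point (none : GolayPt)
  have hσ : b * a⁻¹ ∈ M24 := mul_mem hb (inv_mem ha)
  have hσp : (b * a⁻¹) p = none := by
    rw [Equiv.Perm.mul_apply, Equiv.Perm.inv_eq_iff_eq.2 hap.symm, hb0]
  have h1 := smul_eight_mono hσ p
  rw [hσp] at h1
  rcases hp with hp | hp
  · exact ⟨_, Subtype.ext (h1.trans hp.symm)⟩
  · refine ⟨negAut * mono hσ empty_mem_CS, Subtype.ext ?_⟩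
    rw [mul_smul, negAut_smul, AddSubgroup.coe_neg, h1, hp]

theorem exists_smul_eight {v : ↥leechLattice} (hv : sqNorm (v : GolayPt → ℤ) = 64) :
    ∃ g : ↥Co0, g • eightL none = v := by
  obtain ⟨g, hg⟩ := exists_smul_congr (t := 3) (by norm_num) (v := v) hv
  have hk : key ((g⁻¹ • v : ↥leechLattice) : GolayPt → ℤ) = mainK 3 := by
    have := key_smul_congr g⁻¹ hg
    rw [inv_smul_smul] at this
    exact this.symm
  obtain ⟨s, hs⟩ := exists_smul_cross (w := g⁻¹ • v)
    (mem_stdCross_iff.2 (cross_class (Subtype.prop _) ((sqNorm_smul _ _).trans hv) hk))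
  exact ⟨g * s, by rw [mul_smul, hs, smul_inv_smul]⟩

theorem transitive_64 {v w : ↥leechLattice} (hv : sqNorm (v : GolayPt → ℤ) = 64)
    (hw : sqNorm (w : GolayPt → ℤ) = 64) : ∃ g : ↥Co0, g • v = w := by
  obtain ⟨g, hg⟩ := exists_smul_eight hv
  obtain ⟨k, hk⟩ := exists_smul_eight hw
  exact ⟨k * g⁻¹, by rw [mul_smul, ← hg, inv_smul_smul, hk]⟩

theorem mem_cross_iff {x y : GolayPt → ℤ} (hx : x ∈ leechLattice) :
    y ∈ cross x ↔ y ∈ leechLattice ∧ sqNorm y = sqNorm x ∧ key x = key y :=
  ⟨fun ⟨a, b, c⟩ => ⟨a, b, (key_eq_iff hx a).2 c⟩, fun ⟨a, b, c⟩ => ⟨a, b, (key_eq_iff hx a).1 c⟩⟩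

theorem cross_eight : cross (eight none) = stdCross := by
  ext w
  rw [mem_cross_iff (eight_mem none), sqNorm_eight, ← mainK_three none]
  exact ⟨fun h => mem_stdCross_iff.2 (cross_class h.1 h.2.1 h.2.2.symm),
    fun h => ⟨(stdCross_props h).1, (stdCross_props h).2.1, (stdCross_props h).2.2.symm⟩⟩

theorem ncard_cross {x : GolayPt → ℤ} (hx : x ∈ leechLattice) (hn : sqNorm x = 64) :
    (cross x).ncard = 48 := by
  obtain ⟨g, hg⟩ := exists_smul_eight (v := ⟨x, hx⟩) hn
  have hgx : ((g • eightL none : ↥leechLattice) : GolayPt → ℤ) = x := congrArg Subtype.val hg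
  rw [← ncard_stdCross, ← cross_eight]
  refine Set.ncard_congr (fun y hy =>
    ((g⁻¹ • (⟨y, hy.1⟩ : ↥leechLattice) : ↥leechLattice) : GolayPt → ℤ)) ?_ ?_ ?_
  · intro y hy
    have hy' := (mem_cross_iff hx).1 hy
    refine (mem_cross_iff (eight_mem none)).2 ⟨Subtype.prop _, ?_, ?_⟩
    · rw [sqNorm_smul]; exact hy'.2.1.trans (hn.trans (sqNorm_eight none).symm)
    · have h := key_smul_congr g⁻¹ (v := g • eightL none) (w := ⟨y, hy.1⟩) (by rw [hgx]; exact hy'.2.2)
      rw [inv_smul_smul] at h
      exact h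
  · intro a b ha hb h
    exact congrArg Subtype.val (MulAction.injective g⁻¹ (Subtype.ext h))
  · intro b hb
    have hb' := (mem_cross_iff (eight_mem none)).1 hb
    refine ⟨((g • (⟨b, hb.1⟩ : ↥leechLattice) : ↥leechLattice) : GolayPt → ℤ),
      (mem_cross_iff hx).2 ⟨Subtype.prop _, ?_, ?_⟩, ?_⟩
    · rw [sqNorm_smul]; exact hb'.2.1.trans ((sqNorm_eight none).trans hn.symm)
    · rw [← hgx]
      exact key_smul_congr g (v := eightL none) (w := ⟨b, hb.1⟩) hb'.2.2
    · show ((g⁻¹ • g • (⟨b, hb.1⟩ : ↥leechLattice) : ↥leechLattice) : GolayPt → ℤ) = b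
      rw [inv_smul_smul]

/-! ### The stabilizer of the standard cross -/

/-- the stabilizer of the class of the standard cross -/
noncomputable def crossStab : Subgroup ↥Co0 where
  carrier := {g | act g (mainK 3) = mainK 3}
  one_mem' := act_one (mainK_lt 3)
  mul_mem' := fun {a b} (ha : act a (mainK 3) = mainK 3) (hb : act b (mainK 3) = mainK 3) => by
    show act (a * b) (mainK 3) = mainK 3
    rw [act_mul, hb, ha]
  inv_mem' := fun {a} (ha : act a (mainK 3) = mainK 3) => by
    show act a⁻¹ (mainK 3) = mainK 3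
    conv_lhs => rw [← ha]
    exact act_inv_act a (mainK_lt 3)

theorem mem_crossStab {g : ↥Co0} : g ∈ crossStab ↔ act g (mainK 3) = mainK 3 := Iff.rfl

theorem mem_crossStab_iff {g : ↥Co0} : g ∈ crossStab ↔
    ∀ v : ↥leechLattice, (v : GolayPt → ℤ) ∈ stdCross →
      ((g • v : ↥leechLattice) : GolayPt → ℤ) ∈ stdCross := by
  rw [mem_crossStab]
  constructor
  · intro h v hv
    obtain ⟨h1, h2, h3⟩ := stdCross_props hv
    refine mem_stdCross_iff.2 (cross_class (Subtype.prop _) ((sqNorm_smul g v).trans h2) ?_)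
    rw [← act_key, h3, h]
  · intro h
    rw [mainK_three none, show eight none = ((eightL none : ↥leechLattice) : GolayPt → ℤ) from rfl, act_key]
    have := h (eightL none) (mem_stdCross_iff.2 ⟨none, Or.inl rfl⟩)
    rw [(stdCross_props this).2.2, mainK_three none]
    rfl

theorem mono_mem_crossStab {σ : Equiv.Perm GolayPt} {d : Finset GolayPt} (hσ : σ ∈ M24)
    (hd : d ∈ CS) : mono hσ hd ∈ crossStab := by
  rw [mem_crossStab_iff]
  intro v hv
  rw [mono, Iso.aut_smul]
  rw [mem_stdCross_iff] at hv ⊢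
  obtain ⟨p, hp⟩ := hv
  refine ⟨σ.symm p, ?_⟩
  have he : monoFun σ d (eight p) = (if σ.symm p ∈ d then -eight (σ.symm p) else eight (σ.symm p)) := by
    funext i
    by_cases h : i = σ.symm p
    · subst h
      by_cases hd' : σ.symm p ∈ d <;> simp [monoFun, eight, hd']
    · have hne : σ i ≠ p := fun e => h (by rw [← e, Equiv.symm_apply_apply])
      by_cases hd' : σ.symm p ∈ d <;> simp [monoFun, eight, hne, h, hd']
  rcases hp with hp | hp
  · rw [show (monoIso hσ hd).f v = monoFun σ d v from rfl, hp, he]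
    split
    · exact Or.inr rfl
    · exact Or.inl rfl
  · have hneg : monoFun σ d (-eight p) = -monoFun σ d (eight p) := by
      funext i; simp only [monoFun, Pi.neg_apply]; split <;> rfl
    rw [show (monoIso hσ hd).f v = monoFun σ d v from rfl, hp, hneg, he]
    split
    · exact Or.inl (neg_neg _)
    · exact Or.inr rfl

theorem indicator_mem {c : Finset GolayPt} (hc : c ∈ CS) : (fun i => 2 * ind c i) ∈ leechLattice :=
  mem_iff.2 ⟨0, c, hc, 0, by simp, by funext i; simp [mk]⟩

theorem oddVec_mem : (fun i : GolayPt => if i = none then (-3 : ℤ) else 1) ∈ leechLattice :=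
  mem_iff.2 ⟨1, ∅, empty_mem_CS, Pi.single none (-1), by simp [Finset.sum_pi_single'], by
    funext i
    by_cases h : i = none <;> simp [mk, ind, h]⟩

theorem crossStab_eq_mono {g : ↥Co0} (hg : g ∈ crossStab) :
    ∃ (σ : Equiv.Perm GolayPt) (d : Finset GolayPt) (hσ : σ ∈ M24) (hd : d ∈ CS), g = mono hσ hd := by
  classical
  rw [mem_crossStab_iff] at hg
  have himg : ∀ p, ∃ q, ((g • eightL p : ↥leechLattice) : GolayPt → ℤ) = eight q ∨
      ((g • eightL p : ↥leechLattice) : GolayPt → ℤ) = -eight q := fun p =>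
    mem_stdCross_iff.1 (hg _ (mem_stdCross_iff.2 ⟨p, Or.inl rfl⟩))
  choose τ hτ using himg
  have hτinj : Function.Injective τ := by
    intro p p' h
    by_contra hne
    have h0 := dotInt_smul g (eightL p) (eightL p')
    have e : dotInt ((eightL p : ↥leechLattice) : GolayPt → ℤ) ((eightL p' : ↥leechLattice) : GolayPt → ℤ) = 0 := by
      rw [show ((eightL p' : ↥leechLattice) : GolayPt → ℤ) = eight p' from rfl, dotInt_eight]
      simp [eightL, eight, Ne.symm hne]
    rw [e] at h0
    rcases hτ p with ha | ha <;> rcases hτ p' with hb | hb <;>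
      rw [ha, hb, h] at h0 <;>
      simp [dotInt, eight, Pi.single_apply] at h0
  let σ : Equiv.Perm GolayPt := (Equiv.ofBijective τ (Finite.injective_iff_bijective.1 hτinj)).symm
  let d : Finset GolayPt := Finset.univ.filter fun q =>
    ((g • eightL (σ q) : ↥leechLattice) : GolayPt → ℤ) = -eight q
  have hστ : ∀ q, τ (σ q) = q := fun q => Equiv.apply_symm_apply (Equiv.ofBijective τ _) q
  have hform : ∀ v : ↥leechLattice,
      ((g • v : ↥leechLattice) : GolayPt → ℤ) = monoFun σ d (v : GolayPt → ℤ) := by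
    intro v
    funext q
    have h := dotInt_smul g v (eightL (σ q))
    rw [show ((eightL (σ q) : ↥leechLattice) : GolayPt → ℤ) = eight (σ q) from rfl, dotInt_eight] at h
    simp only [monoFun, d, Finset.mem_filter, Finset.mem_univ, true_and]
    rcases hτ (σ q) with ha | ha <;> rw [hστ] at ha <;> rw [ha] at h ⊢
    · rw [dotInt_eight] at h
      rw [if_neg fun e => by
        have := congrFun e q; simp [eight] at this]
      omega
    · rw [dotInt_neg_eight] at h
      rw [if_pos rfl]
      omega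
  clear_value d σ
  have hd : d ∈ CS := by
    have hmem : monoFun σ d (fun i : GolayPt => if i = none then (-3 : ℤ) else 1) ∈ leechLattice := by
      rw [← hform ⟨_, oddVec_mem⟩]; exact Subtype.prop _
    obtain ⟨m, -, -, hres⟩ := mem_leechLattice.1 hmem
    convert hres 3 using 1
    ext q
    rw [Finset.mem_filter]
    simp only [Finset.mem_univ, true_and, monoFun, Int.ModEq]
    by_cases hq : q ∈ d <;> by_cases hn : σ q = none <;> simp [hq, hn]
  have hσ : σ ∈ M24 := by
    rw [mem_M24_iff]
    intro s hs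
    -- use the inverse: the image of the vector of `s` gives `σ⁻¹ • s`
    have key' : ∀ c ∈ CS, σ⁻¹ • c ∈ CS := by
      intro c hc
      have hm : monoFun σ d (fun i => 2 * ind c i) ∈ leechLattice := by
        rw [← hform ⟨_, indicator_mem hc⟩]; exact Subtype.prop _
      obtain ⟨m, -, -, hres⟩ := mem_leechLattice.1 hm
      convert hres 2 using 1
      ext q
      rw [Finset.mem_filter, Finset.mem_inv_smul_finset_iff]
      simp only [Finset.mem_univ, true_and, monoFun, Int.ModEq, Equiv.Perm.smul_def, ind]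
      by_cases hq : q ∈ d <;> by_cases hn : σ q ∈ c <;> simp [hq, hn]
    have hinv : σ⁻¹ ∈ M24 := mem_M24_iff.2 key'
    exact mem_M24_iff.1 (inv_inv σ ▸ inv_mem hinv) s hs
  exact ⟨σ, d, hσ, hd, aut_ext fun v => Subtype.ext (hform v)⟩

theorem mono_inj {σ σ' : Equiv.Perm GolayPt} {d d' : Finset GolayPt} {hσ : σ ∈ M24} {hd : d ∈ CS}
    {hσ' : σ' ∈ M24} {hd' : d' ∈ CS} (h : mono hσ hd = mono hσ' hd') : σ = σ' ∧ d = d' := by
  have he : ∀ p q, monoFun σ d (eight p) q = monoFun σ' d' (eight p) q := fun p q =>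
    congrFun (congrArg (fun g : ↥Co0 => ((g • eightL p : ↥leechLattice) : GolayPt → ℤ)) h) q
  have hσeq : σ = σ' := by
    refine Equiv.ext fun q => ?_
    by_contra hne
    have := he (σ q) q
    simp only [monoFun, eight, Pi.single_eq_same, Pi.single_eq_of_ne (Ne.symm hne)] at this
    split at this <;> simp at this
  subst hσeq
  refine ⟨rfl, Finset.ext fun q => ?_⟩
  have := he (σ q) q
  simp only [monoFun, eight, Pi.single_eq_same] at this
  by_cases h1 : q ∈ d <;> by_cases h2 : q ∈ d' <;> simp [h1, h2] at this ⊢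

theorem natCard_crossStab : Nat.card crossStab = 4096 * 244823040 := by
  let f : ↥M24 × ↥CS → ↥crossStab := fun x => ⟨mono x.1.2 x.2.2, mono_mem_crossStab x.1.2 x.2.2⟩
  have hf : Function.Bijective f := by
    refine ⟨fun x y h => ?_, fun g => ?_⟩
    · obtain ⟨a, b⟩ := mono_inj (congrArg Subtype.val h)
      exact Prod.ext (Subtype.ext a) (Subtype.ext b)
    · obtain ⟨σ, d, hσ, hd, he⟩ := crossStab_eq_mono g.2
      exact ⟨(⟨σ, hσ⟩, ⟨d, hd⟩), Subtype.ext he.symm⟩
  rw [← Nat.card_eq_of_bijective f hf, Nat.card_prod, natCard_M24, Nat.card_coe_set_eq, mul_comm]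
  congr 1
  show (support₂ '' (golayCode : Set (GolayPt → ZMod 2))).ncard = 4096
  rw [Set.InjOn.ncard_image support₂_injective.injOn, ← natCard_golayCode]
  exact (Nat.card_coe_set_eq _).symm

/-! ### Order -/

/-- the action on classes as an action on a finite set -/
@[reducible] noncomputable def classAction : MulAction ↥Co0 (Fin (2 ^ 24)) where
  smul g k := ⟨act g k.val, act_lt g k.val⟩
  one_smul k := Fin.ext (act_one k.isLt)
  mul_smul g h k := Fin.ext (act_mul g h k.val)

theorem natCard_Co0 : Nat.card ↥Co0 = 8315553613086720000 := by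
  letI := classAction
  let x : Fin (2 ^ 24) := ⟨mainK 3, mainK_lt 3⟩
  have h := Nat.card_congr (MulAction.orbitProdStabilizerEquivGroup ↥Co0 x)
  rw [Nat.card_prod] at h
  have hst : Nat.card (MulAction.stabilizer ↥Co0 x) = 4096 * 244823040 := by
    rw [← natCard_crossStab]
    refine Nat.card_congr (Equiv.subtypeEquivRight fun g => ?_)
    exact Fin.ext_iff
  have horb : Nat.card (MulAction.orbit ↥Co0 x) = 8292375 := by
    rw [Nat.card_coe_set_eq, ← ncard_type3,
      ← Set.ncard_image_of_injective (MulAction.orbit ↥Co0 x) Fin.val_injective]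
    congr 1
    ext k
    constructor
    · rintro ⟨_, ⟨g, rfl⟩, rfl⟩; exact ⟨act_lt _ _, g, rfl⟩
    · rintro ⟨hk, g, rfl⟩; exact ⟨⟨_, hk⟩, ⟨g, rfl⟩, rfl⟩
  rw [horb, hst] at h
  omega

theorem finite_Co0 : Finite ↥Co0 := Nat.finite_of_card_ne_zero (by rw [natCard_Co0]; norm_num)

/-! ### Centre -/

theorem negAut_mem_center : negAut ∈ Subgroup.center ↥Co0 :=
  Subgroup.mem_center_iff.2 fun g => aut_ext fun v => by
    rw [mul_smul, mul_smul, negAut_smul, negAut_smul, smul_neg']

theorem negAut_ne_one : negAut ≠ (1 : ↥Co0) := by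
  intro h
  have := congrArg (fun g : ↥Co0 => ((g • eightL none : ↥leechLattice) : GolayPt → ℤ) none) h
  simp only [negAut_smul, one_smul] at this
  simp [eightL, eight] at this

theorem separate {p q : GolayPt} (h : p ≠ q) : ∃ d ∈ CS, p ∈ d ∧ q ∉ d := by
  obtain ⟨g, hg, h1, h2⟩ := exists_map_pair h
  refine ⟨g • dec 8394986,
    smul_mem_supports hg ⟨wd 8394986, wd_mem_of_inC (by decide +kernel), support_wd _⟩, ?_, ?_⟩
  · rw [← h1]
    exact Finset.smul_mem_smul_finset (a := g) (by rw [mem_dec]; decide +kernel)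
  · rw [← h2, show g (pt 0) = g • pt 0 from rfl, Finset.smul_mem_smul_finset_iff, mem_dec]
    decide +kernel

theorem mono_one_eight (d : Finset GolayPt) (hd : d ∈ CS) (p : GolayPt) :
    mono (one_mem M24) hd • eightL p = if p ∈ d then -eightL p else eightL p := by
  apply Subtype.ext
  rw [mono, Iso.aut_smul]
  funext i
  by_cases hp : p ∈ d <;> by_cases hi : i = p <;>
    simp [monoIso, monoFun, eightL, eight, hp, hi]

theorem center_eq : (Subgroup.center ↥Co0 : Set ↥Co0) = {1, negAut} := by
  ext g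
  constructor
  · intro hg
    rw [SetLike.mem_coe, Subgroup.mem_center_iff] at hg
    have hstab : g ∈ crossStab := by
      rw [mem_crossStab_iff]
      intro v hv
      have key1 : ∀ p, ∀ q, q ≠ p → ((g • eightL p : ↥leechLattice) : GolayPt → ℤ) q = 0 := by
        intro p q hqp
        obtain ⟨d, hd, hpd, hqd⟩ := separate (Ne.symm hqp)
        have h := congrArg (fun k : ↥Co0 => ((k • eightL p : ↥leechLattice) : GolayPt → ℤ) q)
          (hg (mono (one_mem M24) hd))
        simp only [mul_smul, mono_one_eight, hpd, if_true, smul_neg', AddSubgroup.coe_neg,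
          Pi.neg_apply] at h
        rw [mono, Iso.aut_smul] at h
        simp only [monoIso, monoFun, Equiv.Perm.one_apply, hqd, if_false] at h
        omega
      have key2 : ∀ p, ((g • eightL p : ↥leechLattice) : GolayPt → ℤ) ∈ stdCross := by
        intro p
        set w := ((g • eightL p : ↥leechLattice) : GolayPt → ℤ) with hw
        have hn : sqNorm w = 64 := (sqNorm_smul g _).trans (sqNorm_eight p)
        have h1 : sqNorm w = w p ^ 2 := by
          simp only [sqNorm]
          exact Finset.sum_eq_single p (fun q _ hq => by rw [hw, key1 p q hq]; rfl) (by simp)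
        have h8 : w p = 8 ∨ w p = -8 := by
          rw [h1] at hn
          have : (w p - 8) * (w p + 8) = 0 := by nlinarith
          rcases mul_eq_zero.1 this with h | h <;> omega
        rw [mem_stdCross_iff]
        refine ⟨p, h8.imp (fun h => ?_) fun h => ?_⟩ <;> funext q <;>
          by_cases hq : q = p <;> simp [eight, hq, h, hw ▸ key1 p q]
      obtain ⟨p, hp⟩ := mem_stdCross_iff.1 hv
      rcases hp with hp | hp
      · rw [show v = eightL p from Subtype.ext hp]; exact key2 p
      · rw [show v = -eightL p from Subtype.ext hp, smul_neg', AddSubgroup.coe_neg]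
        obtain ⟨q, hq⟩ := mem_stdCross_iff.1 (key2 p)
        exact mem_stdCross_iff.2 ⟨q, by rcases hq with hq | hq <;> simp [hq]⟩
    obtain ⟨σ, d, hσ, hd, rfl⟩ := crossStab_eq_mono hstab
    have hσ1 : σ = 1 := by
      refine Equiv.ext fun q => ?_
      by_contra hne
      obtain ⟨e, he, hse, hqe⟩ := separate hne
      have h := congrArg (fun k : ↥Co0 => ((k • eightL (σ q) : ↥leechLattice) : GolayPt → ℤ) q)
        (hg (mono (one_mem M24) he))
      simp only [mul_smul, mono_one_eight, show σ q ∈ e from hse, if_true, smul_neg',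
        AddSubgroup.coe_neg, Pi.neg_apply] at h
      rw [mono, Iso.aut_smul] at h
      have hqe' : q ∉ e := by simpa using hqe
      simp only [monoIso, monoFun, Equiv.Perm.one_apply, hqe', if_false, mono, Iso.aut_smul, eightL,
        eight, Pi.single_eq_same] at h
      split at h <;> simp at h
    subst hσ1
    rcases d.eq_empty_or_nonempty with hd0 | ⟨a, ha⟩
    · left
      subst hd0
      refine aut_ext fun v => Subtype.ext ?_
      rw [one_smul, mono, Iso.aut_smul]
      funext i; simp [monoIso, monoFun]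
    · right
      have hall : ∀ b, b ∈ d := by
        intro b
        obtain ⟨τ, hτ, hτb⟩ := exists_map_point b
        obtain ⟨ρ, hρ, hρa⟩ := exists_map_point a
        have hs : ρ * τ⁻¹ ∈ M24 := mul_mem hρ (inv_mem hτ)
        have hba : (ρ * τ⁻¹) b = a := by
          rw [Equiv.Perm.mul_apply, Equiv.Perm.inv_eq_iff_eq.2 hτb.symm, hρa]
        have h := congrArg (fun k : ↥Co0 => ((k • eightL a : ↥leechLattice) : GolayPt → ℤ) b)
          (hg (mono hs empty_mem_CS))
        simp only [mul_smul, mono_one_eight, ha, if_true, smul_neg', AddSubgroup.coe_neg,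
          Pi.neg_apply] at h
        by_contra hb
        simp only [monoIso, monoFun, Finset.notMem_empty, if_false, hb, mono, Iso.aut_smul, hba,
          Equiv.Perm.one_apply, eightL, eight, Pi.single_eq_same] at h
        omega
      have hdu : d = Finset.univ := Finset.eq_univ_of_forall hall
      subst hdu
      exact Set.mem_singleton_iff.2 rfl
  · rintro (rfl | rfl)
    · exact one_mem _
    · exact negAut_mem_center

theorem natCard_center : Nat.card (Subgroup.center ↥Co0) = 2 := by
  rw [show Nat.card (Subgroup.center ↥Co0) = (Subgroup.center ↥Co0 : Set ↥Co0).ncard from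
    Nat.card_coe_set_eq _, center_eq, Set.ncard_pair (Ne.symm negAut_ne_one)]

end CfsgLib.Leech
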