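import Cfsg.Agent.Lib.Leech.Counts
import Cfsg.Agent.Lib.Leech.Co0

/-!
The stabilizer of a cross is maximal.
-/

set_option autoImplicit false
-- the pieces are checked one after another, which keeps the peak memory low
set_option Elab.async false
set_option maxRecDepth 10000

namespace CfsgLib.Leech

open Cfsg CfsgLib.Golay

attribute [local irreducible] dL bL key keyL coord packB linL bits

theorem main_fixed : (monoGens.map fun g => g.2.2).all (fun c => comb c (mainK 3) == mainK 3) = true ∧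
    fibres.all (fun F => F.gens.all fun g => comb g.2.2 (mainK 3) == mainK 3) = true := by
  rw [mainK_eq (by norm_num : (3 : ℕ) < 4)]
  decide +kernel

theorem gen_crossStab {e : ℕ × ℕ × List ℕ} (h : genOK e = true) (hfix : comb e.2.2 (mainK 3) = mainK 3) :
    ∃ g : ↥Co0, (LoLinear g ∧ g ∈ crossStab) ∧ ∀ k, k < 2 ^ 24 → act g k = comb e.2.2 k := by
  obtain ⟨g, hg, hga⟩ := genOK_spec h
  exact ⟨g, ⟨hg, by rw [mem_crossStab, hga _ (mainK_lt 3), hfix]⟩, hga⟩

theorem base_reach_cross {F : FibreCert} (hF : F ∈ fibres) {l : ℕ} (hl : F.acc.testBit l = true) :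
    ∃ g : ↥Co0, (LoLinear g ∧ g ∈ crossStab) ∧ lo (act g F.low) = l := by
  have h := (fibres_ok hF).1
  simp only [baseOK, Bool.and_eq_true, decide_eq_true_eq, List.all_eq_true, beq_iff_eq] at h
  obtain ⟨⟨hlow, hN⟩, hw⟩ := h
  have hlt : F.low < 2 ^ 24 := lt_trans hlow (by norm_num)
  have hone : LoLinear 1 := fun k hk => by
    rw [act_one hk, act_one (lt_trans (lo_lt k) (by norm_num)), lo_idem (lo_lt k)]
  obtain ⟨g, hg, hgl, -⟩ := walkC_sound (R := fun g => LoLinear g ∧ g ∈ crossStab)
    (fun _ _ a b => ⟨a.1.mul b.1, mul_mem a.2 b.2⟩)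
    (fun cols hc => by
      obtain ⟨e, he, rfl⟩ := List.mem_map.1 hc
      exact gen_crossStab (hN e he) (beq_iff_eq.1 (List.all_eq_true.1 main_fixed.1 _ (List.mem_map.2 ⟨e, he, rfl⟩))))
    _ _ _ _ _ hw
    (fun k hk => ⟨1, ⟨hone, one_mem _⟩, by rw [List.mem_singleton.1 hk, act_one hlt]⟩)
    (fun b hb => by
      rw [Nat.one_shiftLeft, Nat.testBit_two_pow, decide_eq_true_eq] at hb
      exact ⟨1, ⟨hone, one_mem _⟩, by rw [act_one hlt, lo_idem hlow, ← hb], rfl⟩)
    l hl
  exact ⟨g, hg, hgl⟩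

theorem orb_reach_cross {F : FibreCert} (hF : F ∈ fibres) {O : OrbCert} (hO : O ∈ F.orbs) {b : ℕ}
    (hb : O.acc.testBit b = true) :
    ∃ g ∈ crossStab, lo (act g O.rep) = F.low ∧ hi (act g O.rep) = b := by
  have h := (fibres_ok hF).2
  simp only [fibreOK, Bool.and_eq_true, List.all_eq_true, beq_iff_eq] at h
  obtain ⟨⟨hg, horbs⟩, -⟩ := h
  have ho := horbs O hO
  simp only [orbOK', Bool.and_eq_true, decide_eq_true_eq, beq_iff_eq] at ho
  obtain ⟨⟨⟨-, hr⟩, hlo⟩, hw⟩ := ho
  have hr' : O.rep < 2 ^ 24 := by norm_num; exact hr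
  obtain ⟨g, hgR, hgb, hgl⟩ := walkC_sound (R := fun g => g ∈ crossStab) (fun _ _ a b => mul_mem a b)
    (fun cols hc => by
      obtain ⟨e, he, rfl⟩ := List.mem_map.1 hc
      obtain ⟨g, hg', hga⟩ := gen_crossStab (hg e he)
        (beq_iff_eq.1 (List.all_eq_true.1 (List.all_eq_true.1 main_fixed.2 F hF) e he))
      exact ⟨g, hg'.2, hga⟩)
    _ _ _ _ _ hw
    (fun k hk => ⟨1, one_mem _, by rw [List.mem_singleton.1 hk, act_one hr']⟩)
    (fun c hc => by
      rw [Nat.one_shiftLeft, Nat.testBit_two_pow, decide_eq_true_eq] at hc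
      exact ⟨1, one_mem _, by rw [act_one hr', hc], by rw [act_one hr', beq_iff_eq, hlo]⟩)
    b hb
  exact ⟨g, hgR, by simpa using hgl, hgb⟩

/-- the high parts of the chosen orbits of crosses -/
def selCross (P : ℕ → Bool) : List OrbCert → ℕ
  | [] => 0
  | O :: Os => (if O.typ = 3 ∧ P O.rep = true then O.acc else 0) ||| selCross P Os

theorem testBit_selCross (P : ℕ → Bool) : ∀ (l : List OrbCert) (b : ℕ),
    (selCross P l).testBit b = true ↔
      ∃ O ∈ l, (O.typ = 3 ∧ P O.rep = true) ∧ O.acc.testBit b = true := by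
  intro l
  induction l with
  | nil => intro b; simp [selCross]
  | cons O Os ih =>
    intro b
    rw [selCross, Nat.testBit_or, Bool.or_eq_true, ih]
    by_cases h : O.typ = 3 ∧ P O.rep = true <;> simp [h]

/-- the number of classes in the chosen orbits -/
def crossCnt (P : ℕ → Bool) : ℕ := (fibres.map fun F => bits F.acc * bits (selCross P F.orbs)).sum

theorem ncard_invariant_cross {T : Set ℕ} (hT : T ⊆ typeSet 3)
    (hinv : ∀ g ∈ crossStab, ∀ k ∈ T, act g k ∈ T) {P : ℕ → Bool}
    (hP : ∀ F ∈ fibres, ∀ O ∈ F.orbs, O.typ = 3 → (P O.rep = true ↔ O.rep ∈ T)) :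
    T.ncard = crossCnt P := by
  classical
  have hinv' : ∀ g ∈ crossStab, ∀ k, k < 2 ^ 24 → act g k ∈ T → k ∈ T := fun g hg k hk h => by
    have := hinv g⁻¹ (inv_mem hg) _ h
    rwa [act_inv_act g hk] at this
  have hfinT : T.Finite := (Set.finite_Iio (2 ^ 24)).subset fun k hk => (hT hk).1
  have hlow : ∀ F ∈ fibres, ∀ k, k < 2 ^ 24 → lo k = F.low →
      (k ∈ T ↔ (selCross P F.orbs).testBit (hi k) = true) := by
    intro F hF k hk hkl
    have hok := (fibres_ok hF).2
    have hr' : ∀ O ∈ F.orbs, O.rep < 2 ^ 24 := fun O hO => by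
      simp only [fibreOK, Bool.and_eq_true, List.all_eq_true, beq_iff_eq] at hok
      have ho := hok.1.2 O hO
      simp only [orbOK', Bool.and_eq_true, decide_eq_true_eq] at ho
      norm_num
      exact ho.1.1.2
    rw [testBit_selCross]
    constructor
    · intro hkT
      obtain ⟨O, hO, hOt, hOb⟩ := (testBit_typeAcc 3 _ _).1 ((fibre_typ hF hk hkl (by norm_num)).1 (hT hkT).2)
      obtain ⟨g, hg, hgl, hgh⟩ := orb_reach_cross hF hO hOb
      have e : act g O.rep = k := class_split (hgl.trans hkl.symm) hgh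
      exact ⟨O, hO, ⟨hOt, (hP F hF O hO hOt).2 (hinv' g hg _ (hr' O hO) (e.symm ▸ hkT))⟩, hOb⟩
    · rintro ⟨O, hO, ⟨hOt, hOP⟩, hOb⟩
      obtain ⟨g, hg, hgl, hgh⟩ := orb_reach_cross hF hO hOb
      have e : act g O.rep = k := class_split (hgl.trans hkl.symm) hgh
      exact e ▸ hinv g hg _ ((hP F hF O hO hOt).1 hOP)
  have hfib : ∀ F ∈ fibres, ∀ l, F.acc.testBit l = true →
      {k | k ∈ T ∧ lo k = l}.ncard = bits (selCross P F.orbs) := by
    intro F hF l hl
    obtain ⟨g, ⟨hgL, hgH⟩, hgl⟩ := base_reach_cross hF hl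
    have hFlow := fibres_low hF
    have h1 : {k | k ∈ T ∧ lo k = l} = (act g) ''
        ((fun h => F.low + 4096 * h) '' {h | h < 4096 ∧ (selCross P F.orbs).testBit h = true}) := by
      ext k
      constructor
      · rintro ⟨hk, hkl⟩
        have hk' : k ∈ (act g) '' fib F.low := by
          rw [act_fib hgL hFlow, hgl]; exact ⟨(hT hk).1, hkl⟩
        obtain ⟨j, ⟨hj, hjl⟩, rfl⟩ := hk'
        refine ⟨j, ⟨hi j, ⟨hi_lt hj, (hlow F hF j hj hjl).1 (hinv' g hgH j hj hk)⟩, ?_⟩, rfl⟩
        show F.low + 4096 * hi j = j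
        rw [hi, Nat.shiftRight_eq_div_pow, ← hjl, lo, show (4095 : ℕ) = 2 ^ 12 - 1 from rfl,
          Nat.and_two_pow_sub_one_eq_mod]
        omega
      · rintro ⟨_, ⟨h, ⟨hh, hb⟩, rfl⟩, rfl⟩
        have hk : F.low + 4096 * h < 2 ^ 24 := by omega
        have hkl : lo (F.low + 4096 * h) = F.low := by
          rw [lo, show (4095 : ℕ) = 2 ^ 12 - 1 from rfl, Nat.and_two_pow_sub_one_eq_mod]; omega
        have hkh : hi (F.low + 4096 * h) = h := by rw [hi, Nat.shiftRight_eq_div_pow]; omega
        exact ⟨hinv g hgH _ ((hlow F hF _ hk hkl).2 (by rw [hkh]; exact hb)),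
          fibre_bij hgL hFlow hgl _ hk hkl⟩
    rw [h1, Set.InjOn.ncard_image, Set.InjOn.ncard_image (fun a _ b _ h => by
      have h' : F.low + 4096 * a = F.low + 4096 * b := h
      omega), ncard_bits]
    rintro _ ⟨a, ⟨ha, -⟩, rfl⟩ _ ⟨b, ⟨hb, -⟩, rfl⟩ hab
    have := congrArg (act g⁻¹) hab
    rwa [act_inv_act g (by show F.low + 4096 * a < 2 ^ 24; omega),
      act_inv_act g (by show F.low + 4096 * b < 2 ^ 24; omega)] at this
  have hbase : ∀ F ∈ fibres, {k | k ∈ T ∧ F.acc.testBit (lo k) = true}.ncard =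
      bits F.acc * bits (selCross P F.orbs) := by
    intro F hF
    let s : Finset ℕ := (Finset.range 4096).filter fun l => F.acc.testBit l
    have hs : s.card = bits F.acc := by
      rw [← ncard_bits, ← Set.ncard_coe_finset]; congr 1; ext l; simp [s]
    have hfin : ∀ l, {k | k ∈ T ∧ lo k = l}.Finite := fun l => hfinT.subset fun k hk => hk.1
    have he : {k | k ∈ T ∧ F.acc.testBit (lo k) = true} =
        ((s.biUnion fun l => (hfin l).toFinset : Finset ℕ) : Set ℕ) := by
      ext k
      simp only [Set.mem_setOf_eq, Finset.coe_biUnion, Set.mem_iUnion, Set.Finite.coe_toFinset,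
        exists_prop, Finset.mem_coe, s, Finset.mem_filter, Finset.mem_range]
      constructor
      · rintro ⟨hk, hb⟩; exact ⟨lo k, ⟨lo_lt k, hb⟩, hk, rfl⟩
      · rintro ⟨l, ⟨-, hb⟩, hk, rfl⟩; exact ⟨hk, hb⟩
    rw [he, Set.ncard_coe_finset, Finset.card_biUnion]
    · rw [Finset.sum_const_nat (m := bits (selCross P F.orbs)), hs]
      intro l hl
      rw [← Set.ncard_eq_toFinset_card _ (hfin l)]
      exact hfib F hF l (Finset.mem_filter.1 hl).2
    · intro a _ b _ hab
      rw [Function.onFun, Finset.disjoint_left]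
      intro k hka hkb
      rw [Set.Finite.mem_toFinset] at hka hkb
      exact hab (hka.2.symm.trans hkb.2)
  set A := fun F : FibreCert => {k | k ∈ T ∧ F.acc.testBit (lo k) = true} with hA
  have hfin : ∀ F, (A F).Finite := fun F => hfinT.subset fun k hk => hk.1
  have hdis : ∀ F G : FibreCert, F.acc &&& G.acc = 0 → Disjoint (A F) (A G) := by
    intro F G h
    rw [Set.disjoint_left]
    rintro k ⟨-, h1⟩ ⟨-, h2⟩
    have := congrArg (fun n : ℕ => n.testBit (lo k)) h
    simp [Nat.testBit_and, h1, h2] at this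
  have he : T = A fibre0 ∪ A fibre1 ∪ A fibre2 ∪ A fibre3 := by
    ext k
    simp only [hA, Set.mem_setOf_eq, Set.mem_union]
    constructor
    · intro hk
      obtain ⟨F, hF, hFl⟩ := exists_fibre (lo_lt k)
      rcases fibres_cases hF with rfl | rfl | rfl | rfl
      exacts [Or.inl (Or.inl (Or.inl ⟨hk, hFl⟩)), Or.inl (Or.inl (Or.inr ⟨hk, hFl⟩)),
        Or.inl (Or.inr ⟨hk, hFl⟩), Or.inr ⟨hk, hFl⟩]
    · rintro (((h | h) | h) | h) <;> exact h.1
  obtain ⟨d01, d02, d03, d12, d13, d23⟩ := bases_disjoint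
  conv_lhs => rw [he]
  rw [Set.ncard_union_eq ((((hdis _ _ d03).union_left (hdis _ _ d13))).union_left (hdis _ _ d23))
      (((hfin _).union (hfin _)).union (hfin _)) (hfin _),
    Set.ncard_union_eq ((hdis _ _ d02).union_left (hdis _ _ d12)) ((hfin _).union (hfin _)) (hfin _),
    Set.ncard_union_eq (hdis _ _ d01) (hfin _) (hfin _),
    hbase fibre0 (by simp [fibres]), hbase fibre1 (by simp [fibres]), hbase fibre2 (by simp [fibres]),
    hbase fibre3 (by simp [fibres])]
  simp [crossCnt, fibres, add_assoc]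

/-- the representatives of the orbits on crosses -/
def crossReps : List ℕ :=
  ((fibres.flatMap fun F => F.orbs).filter fun O => O.typ == 3).map fun O => O.rep

/-- all lists of booleans of a length -/
def boolLists : ℕ → List (List Bool)
  | 0 => [[]]
  | n + 1 => (boolLists n).flatMap fun l => [true :: l, false :: l]

theorem mem_boolLists : ∀ l : List Bool, l ∈ boolLists l.length := by
  intro l
  induction l with
  | nil => simp [boolLists]
  | cons a l ih =>
    rw [List.length_cons, boolLists, List.mem_flatMap]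
    exact ⟨l, ih, by cases a <;> simp⟩

/-- the choice given by a list of booleans -/
def pick (b : List Bool) (k : ℕ) : Bool := b.getD (crossReps.idxOf k) false

/-- one choice of orbits does not give a proper block -/
def sumOK (b : List Bool) : Bool :=
  !pick b (keyL (mains.getD 3 [])) || 8292375 % crossCnt (pick b) != 0 || crossCnt (pick b) == 1 ||
    crossCnt (pick b) == 8292375

/-- the choices in one piece do not give a proper block -/
def sumPiece (i : ℕ) : Bool := (((boolLists crossReps.length).drop (16 * i)).take 16).all sumOK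

theorem sumPiece0 : sumPiece 0 = true := by decide +kernel

theorem sumPiece1 : sumPiece 1 = true := by decide +kernel

theorem sumPiece2 : sumPiece 2 = true := by decide +kernel

theorem sumPiece3 : sumPiece 3 = true := by decide +kernel

theorem subsum_check : ∀ b ∈ boolLists crossReps.length, pick b (keyL (mains.getD 3 [])) = true →
    8292375 % crossCnt (pick b) = 0 → crossCnt (pick b) = 1 ∨ crossCnt (pick b) = 8292375 := by
  intro b hb hp hm
  have hlen : (boolLists crossReps.length).length = 64 := by decide +kernel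
  obtain ⟨j, hj, rfl⟩ := List.getElem_of_mem hb
  rw [hlen] at hj
  have hpiece : sumPiece (j / 16) = true := by
    obtain h | h | h | h : j / 16 = 0 ∨ j / 16 = 1 ∨ j / 16 = 2 ∨ j / 16 = 3 := by omega
    all_goals rw [h]
    exacts [sumPiece0, sumPiece1, sumPiece2, sumPiece3]
  have h := List.all_eq_true.1 hpiece _ (List.mem_iff_getElem?.2 ⟨j % 16, by
    rw [List.getElem?_take_of_lt (Nat.mod_lt _ (by norm_num)), List.getElem?_drop, Nat.div_add_mod,
      List.getElem?_eq_getElem (by omega)]⟩)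
  simpa [sumOK, hp, hm, -List.getD_eq_getElem?_getD] using h

theorem crossStab_maximal : IsCoatom crossStab := by
  classical
  haveI := finite_Co0
  have hidx : crossStab.index = 8292375 := by
    have h := Subgroup.index_mul_card crossStab
    rw [natCard_crossStab, natCard_Co0] at h
    exact Nat.eq_of_mul_eq_mul_right (by norm_num : 0 < 4096 * 244823040) (h.trans (by norm_num))
  refine ⟨fun h => by rw [h, Subgroup.index_top] at hidx; omega, fun K hK => ?_⟩
  letI := classAction
  let x : Fin (2 ^ 24) := ⟨mainK 3, mainK_lt 3⟩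
  set T : Set ℕ := {k | ∃ g ∈ K, act g (mainK 3) = k} with hT
  have hTsub : T ⊆ typeSet 3 := by
    rintro k ⟨g, -, rfl⟩
    exact ⟨act_lt _ _, g, rfl⟩
  have hinv : ∀ g ∈ crossStab, ∀ k ∈ T, act g k ∈ T := by
    rintro g hg k ⟨h, hh, rfl⟩
    exact ⟨g * h, mul_mem (hK.le hg) hh, act_mul _ _ _⟩
  have hTn : T.ncard = crossStab.relIndex K := by
    have h1 : (MulAction.stabilizer K x) = crossStab.subgroupOf K := by
      ext g
      rw [MulAction.mem_stabilizer_iff, Subgroup.mem_subgroupOf, mem_crossStab]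
      exact Fin.ext_iff
    rw [Subgroup.relIndex, ← h1, MulAction.index_stabilizer,
      ← Set.ncard_image_of_injective (MulAction.orbit K x) Fin.val_injective]
    congr 1
    ext k
    constructor
    · rintro ⟨g, hg, rfl⟩; exact ⟨⟨_, act_lt _ _⟩, ⟨⟨g, hg⟩, rfl⟩, rfl⟩
    · rintro ⟨_, ⟨⟨g, hg⟩, rfl⟩, rfl⟩; exact ⟨g, hg, rfl⟩
  set b := crossReps.map fun k => decide (k ∈ T) with hb
  have hpick : ∀ k ∈ crossReps, (pick b k = true ↔ k ∈ T) := by
    intro k hk
    have hlt : crossReps.idxOf k < crossReps.length := List.idxOf_lt_length_of_mem hk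
    rw [pick, hb, List.getD_eq_getElem _ _ (by rw [List.length_map]; exact hlt), List.getElem_map,
      List.getElem_idxOf hlt, decide_eq_true_eq]
  have hreps : ∀ F ∈ fibres, ∀ O ∈ F.orbs, O.typ = 3 → O.rep ∈ crossReps := by
    intro F hF O hO ht
    exact List.mem_map.2 ⟨O, List.mem_filter.2 ⟨List.mem_flatMap.2 ⟨F, hF, hO⟩, by simp [ht]⟩, rfl⟩
  have hn : T.ncard = crossCnt (pick b) :=
    ncard_invariant_cross hTsub hinv fun F hF O hO ht => hpick _ (hreps F hF O hO ht)
  have hmain : keyL (mains.getD 3 []) ∈ crossReps := by decide +kernel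
  have hmem : mainK 3 ∈ T := ⟨1, one_mem _, act_one (mainK_lt 3)⟩
  have hdvd : T.ncard ∣ 8292375 := by
    rw [hTn, ← hidx, ← Subgroup.relIndex_mul_index hK.le]; exact dvd_mul_right _ _
  rcases subsum_check b (by
      have : b.length = crossReps.length := by rw [hb, List.length_map]
      exact this ▸ mem_boolLists b)
    ((hpick _ hmain).2 (mainK_eq (by norm_num : (3 : ℕ) < 4) ▸ hmem))
    (Nat.mod_eq_zero_of_dvd (hn ▸ hdvd)) with h | h
  · exfalso
    rw [← hn, hTn, Subgroup.relIndex_eq_one] at h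
    exact hK.not_ge h
  · rw [← hn, hTn] at h
    have h2 := Subgroup.relIndex_mul_index hK.le
    rw [h, hidx] at h2
    exact Subgroup.index_eq_one.1 (by omega)

theorem isCoatom_stdCrossStab (H : Subgroup ↥Co0)
    (hH : (H : Set ↥Co0) = {g : ↥Co0 | ∀ v : ↥leechLattice, (v : GolayPt → ℤ) ∈ stdCross →
      ((g • v : ↥leechLattice) : GolayPt → ℤ) ∈ stdCross}) : IsCoatom H := by
  have : H = crossStab := by
    apply SetLike.coe_injective
    rw [hH]
    ext g
    exact mem_crossStab_iff.symm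
  rw [this]
  exact crossStab_maximal

end CfsgLib.Leech
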