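import Cfsg.Agent.Lib.Leech.Perp

/-!
Irreducibility of the orthogonal section under the stabilizer of the short vector.
-/

set_option autoImplicit false
set_option maxRecDepth 10000

namespace CfsgLib.Leech

open Cfsg CfsgLib.Golay

attribute [local irreducible] dL bL key keyL coord packB linL

/-- check of a permutation generator -/
def permOK (e : ℕ × ℕ × List ℕ) : Bool :=
  inM24 e.1 && inC e.2.1 && (bL.map fun l => keyL (monoL e.1 e.2.1 l)) == e.2.2 &&
    comb e.2.2 Perp.uK == Perp.uK

/-- the identity permutation -/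
def idQ : ℕ := packList (List.range 24)

/-- check of a sign generator -/
def signOK (e : ℕ × List ℕ) : Bool :=
  inC e.1 && (bL.map fun l => keyL (monoL idQ e.1 l)) == e.2 && comb e.2 Perp.uK == Perp.uK

theorem idQ_ok : inM24 idQ = true := by decide +kernel

theorem toPerm_idQ : toPerm idQ = 1 := by
  refine Equiv.ext fun p => ?_
  revert p
  decide +kernel

theorem perm_all : Perp.permG.all permOK = true := by decide +kernel

theorem sign_all : Perp.signG.all signOK = true := by decide +kernel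

theorem g0_ok : autOK Perp.g0W = true ∧ Perp.g0W.map keyL = Perp.g0C ∧
    comb Perp.g0C Perp.uK = Perp.uK := by decide +kernel

theorem uK_lt : Perp.uK < 2 ^ 24 := by decide +kernel

/-- the tables of the generators -/
def spinGens : List (List ℕ) :=
  Perp.g0C :: (Perp.permG.map fun e => e.2.2) ++ (Perp.signG.map fun e => e.2)

theorem mono_congr {σ σ' : Equiv.Perm GolayPt} {d : Finset GolayPt} (hσ : σ ∈ M24) (hσ' : σ' ∈ M24)
    (hd : d ∈ CS) (h : σ = σ') : mono hσ hd = mono hσ' hd := by subst h; rfl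

theorem sign_real {e : ℕ × List ℕ} (he : e ∈ Perp.signG) :
    ∃ d : Finset GolayPt, ∃ hd : d ∈ CS, mono (one_mem M24) hd ∈ uStab ∧
      ∀ k, k < 2 ^ 24 → act (mono (one_mem M24) hd) k = comb e.2 k := by
  have h := List.all_eq_true.1 sign_all e he
  simp only [signOK, Bool.and_eq_true, beq_iff_eq] at h
  obtain ⟨⟨hC, hcols⟩, hu⟩ := h
  have hd : dec e.1 ∈ CS := ⟨wd e.1, wd_mem_of_inC hC, support_wd _⟩
  have hσ := toPerm_mem_M24 idQ_ok
  have hact : ∀ k, k < 2 ^ 24 → act (mono (one_mem M24) hd) k = comb e.2 k := fun k hk => by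
    rw [← hcols, ← act_mono idQ_ok hC hk hσ hd, mono_congr hσ (one_mem M24) hd toPerm_idQ]
  exact ⟨_, hd, mem_uStab_iff_act.2 ((hact _ uK_lt).trans hu), hact⟩

theorem gen_real {cols : List ℕ} (h : cols ∈ spinGens) :
    ∃ g ∈ uStab, ∀ k, k < 2 ^ 24 → act g k = comb cols k := by
  simp only [spinGens, List.cons_append, List.mem_cons, List.mem_append, List.mem_map] at h
  rcases h with rfl | ⟨e, he, rfl⟩ | ⟨e, he, rfl⟩
  · have hact : ∀ k, k < 2 ^ 24 → act (linIso g0_ok.1).aut k = comb Perp.g0C k := fun k hk => by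
      rw [act_lin g0_ok.1 hk, g0_ok.2.1]
    exact ⟨_, mem_uStab_iff_act.2 ((hact _ uK_lt).trans g0_ok.2.2), hact⟩
  · have h' := List.all_eq_true.1 perm_all e he
    simp only [permOK, Bool.and_eq_true, beq_iff_eq] at h'
    obtain ⟨⟨⟨hQ, hC⟩, hcols⟩, hu⟩ := h'
    have hd : dec e.2.1 ∈ CS := ⟨wd e.2.1, wd_mem_of_inC hC, support_wd _⟩
    have hσ := toPerm_mem_M24 hQ
    have hact : ∀ k, k < 2 ^ 24 → act (mono hσ hd) k = comb e.2.2 k := fun k hk => by
      rw [← hcols, ← act_mono hQ hC hk hσ hd]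
    exact ⟨_, mem_uStab_iff_act.2 ((hact _ uK_lt).trans hu), hact⟩
  · obtain ⟨d, hd, hs, hact⟩ := sign_real he
    exact ⟨_, hs, hact⟩

theorem mono_one_comm {d d' : Finset GolayPt} (hd : d ∈ CS) (hd' : d' ∈ CS) (v : ↥leechLattice) :
    mono (one_mem M24) hd • mono (one_mem M24) hd' • v =
      mono (one_mem M24) hd' • mono (one_mem M24) hd • v := by
  apply Subtype.ext
  simp only [mono, Iso.aut_smul]
  funext i
  by_cases h : i ∈ d <;> by_cases h' : i ∈ d' <;> simp [monoIso, monoFun, h, h']

theorem mono_one_sq {d : Finset GolayPt} (hd : d ∈ CS) (v : ↥leechLattice) :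
    mono (one_mem M24) hd • mono (one_mem M24) hd • v = v := by
  apply Subtype.ext
  simp only [mono, Iso.aut_smul]
  funext i
  by_cases h : i ∈ d <;> simp [monoIso, monoFun, h]

theorem exists_common_fixed {M : AddSubgroup ↥leechLattice}
    (hinv : ∀ g ∈ uStab, ∀ v ∈ M, g • v ∈ M) (hne : ∃ v ∈ M, ¬UD v) :
    ∀ L : List (ℕ × List ℕ), (∀ e ∈ L, e ∈ Perp.signG) →
      ∃ w ∈ M, ¬UD w ∧ ∀ e ∈ L, comb Perp.red1 (comb e.2 (key (w : GolayPt → ℤ)) ^^^
        key (w : GolayPt → ℤ)) = 0 := by
  have key_diff : ∀ (g : ↥Co0) (w : ↥leechLattice) (cols : List ℕ),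
      (∀ k, k < 2 ^ 24 → act g k = comb cols k) →
      key ((g • w - w : ↥leechLattice) : GolayPt → ℤ) =
        comb cols (key (w : GolayPt → ℤ)) ^^^ key (w : GolayPt → ℤ) := by
    intro g w cols h
    rw [AddSubgroup.coe_sub, sub_eq_add_neg, key_add (Subtype.prop _) (neg_mem w.2), key_neg w.2,
      ← act_key, h _ (key_lt _)]
  have red_of_ud : ∀ x : ↥leechLattice, UD x → comb Perp.red1 (key (x : GolayPt → ℤ)) = 0 := by
    intro x hx
    rcases ud_iff_key.1 hx with h | h <;> rw [h]
    · exact comb_zero_right _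
    · exact red1_ok.2.2
  intro L
  induction L with
  | nil => intro _; obtain ⟨v, hv, hvu⟩ := hne; exact ⟨v, hv, hvu, fun e he => absurd he List.not_mem_nil⟩
  | cons e L ih =>
    intro hL
    simp only [List.mem_cons, forall_eq_or_imp] at hL
    obtain ⟨w, hw, hwu, hfix⟩ := ih hL.2
    obtain ⟨d, hd, hs, hact⟩ := sign_real hL.1
    set g : ↥Co0 := mono (one_mem M24) hd with hg
    have hgfix : ∀ e' ∈ L, comb Perp.red1 (comb e'.2 (key ((g • w : ↥leechLattice) : GolayPt → ℤ)) ^^^
        key ((g • w : ↥leechLattice) : GolayPt → ℤ)) = 0 := by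
      intro e' he'
      obtain ⟨d', hd', hs', hact'⟩ := sign_real (hL.2 e' he')
      have hu : UD (mono (one_mem M24) hd' • w - w) := by
        refine ud_iff_key.2 ?_
        rw [key_diff _ _ _ hact']
        have h1 := mem_of_checks red1_ok.1 red1_ok.2.1
          (Nat.xor_lt_two_pow (by rw [← hact' _ (key_lt _)]; exact act_lt _ _) (key_lt _)) (hfix e' he')
        simpa using h1
      have h2 := red_of_ud _ (hu.smul hs)
      rw [← key_diff _ _ _ hact']
      rw [smul_sub'] at h2
      rw [hg, ← mono_one_comm hd hd' w] at *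
      exact h2
    by_cases hc : UD (g • w + w)
    · refine ⟨w, hw, hwu, fun e' he' => ?_⟩
      rcases List.mem_cons.1 he' with rfl | he'
      · rw [← key_diff _ _ _ hact]
        refine red_of_ud _ ?_
        have := hc.add (Or.inl ((isDbl_double w).neg) : UD (-(w + w)))
        convert this using 1
        abel
      · exact hfix e' he'
    · refine ⟨g • w + w, M.add_mem (hinv g hs w hw) hw, hc, fun e' he' => ?_⟩
      rcases List.mem_cons.1 he' with rfl | he'
      · rw [← key_diff _ _ _ hact, smul_add', hg, mono_one_sq hd w, ← hg,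
          show w + g • w - (g • w + w) = 0 by abel, AddSubgroup.coe_zero, key_zero, comb_zero_right]
      · have a := hgfix e' he'
        have b := hfix e' he'
        rw [comb_xor] at a b
        rw [AddSubgroup.coe_add, key_add (Subtype.prop _) w.2, comb_xor, comb_xor, comb_xor, comb_xor]
        rw [Nat.xor_eq_zero_iff] at a b ⊢
        rw [a, b]

/-- the tables of the sign changes followed by the reduction -/
def signTables : List (List ℕ × List ℕ) :=
  ((Perp.signG.map fun e => (xorL e.2 pow2L).map (comb Perp.red1)).zip Perp.signR) ++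
    [(Perp.buL, [Perp.parR])]

theorem sign_inverse : combine signTables = Perp.red2 := by decide +kernel

theorem red2_ok : chkClosed [0, Perp.uK, Perp.fixK, Perp.uK ^^^ Perp.fixK] = true ∧
    chkDiff [0, Perp.uK, Perp.fixK, Perp.uK ^^^ Perp.fixK] Perp.red2 = true := by decide +kernel

theorem exists_fixK {M : AddSubgroup ↥leechLattice} (hperp : ∀ v ∈ M, IsPerp v) (hu : uV ∈ M)
    (hinv : ∀ g ∈ uStab, ∀ v ∈ M, g • v ∈ M) (hne : ∃ v ∈ M, ¬UD v) :
    ∃ w ∈ M, key (w : GolayPt → ℤ) = Perp.fixK := by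
  obtain ⟨w, hw, hwu, hfix⟩ := exists_common_fixed hinv hne Perp.signG fun e he => he
  have h0 : comb (combine signTables) (key (w : GolayPt → ℤ)) = 0 := by
    refine comb_combine_eq_zero _ _ fun p hp => ?_
    rcases List.mem_append.1 hp with hp | hp
    · have hp' := (List.of_mem_zip (a := p.1) (b := p.2) hp).1
      obtain ⟨e, he, hep⟩ := List.mem_map.1 hp'
      rw [← hep, comb_comb, comb_xorL, comb_pow2 (key_lt _)]
      exact hfix e he
    · rw [List.mem_singleton] at hp
      subst hp
      rw [comb_buL, show bil w uV = 0 from hperp w hw]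
      rfl
  rw [sign_inverse] at h0
  have := mem_of_checks red2_ok.1 red2_ok.2 (key_lt _) h0
  simp only [List.mem_cons, List.not_mem_nil, or_false] at this
  rcases this with h | h | h | h
  · exact absurd (ud_iff_key.2 (Or.inl h)) hwu
  · exact absurd (ud_iff_key.2 (Or.inr h)) hwu
  · exact ⟨w, hw, h⟩
  · refine ⟨w + uV, M.add_mem hw hu, ?_⟩
    rw [AddSubgroup.coe_add, key_add w.2 uV.2, h, key_uV, Nat.xor_comm Perp.uK, Nat.xor_assoc,
      Nat.xor_self, Nat.xor_zero]

/-- check of the spinning chain -/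
def chainOK' : Bool :=
  (List.range Perp.chainL.length).all fun i =>
    let e := Perp.chainL.getD i (0, 0, 0)
    (i == 0 && e.1 == Perp.fixK) || (decide (e.2.1 < i) && decide (e.2.2 < spinGens.length) &&
      decide ((Perp.chainL.getD e.2.1 (0, 0, 0)).1 < 16777216) &&
      e.1 == comb (spinGens.getD e.2.2 []) (Perp.chainL.getD e.2.1 (0, 0, 0)).1)

theorem chain_checks : chainOK' = true ∧
    Perp.chainC.map (comb (Perp.uK :: Perp.chainL.map fun e => e.1)) = Perp.projL := by
  decide +kernel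

/-- an invariant subspace containing the short vector inside its orthogonal is trivial or full -/
theorem perp_irreducible {M : AddSubgroup ↥leechLattice} (hdbl : ∀ v, IsDbl v → v ∈ M)
    (hu : uV ∈ M) (hperp : ∀ v ∈ M, IsPerp v) (hinv : ∀ g ∈ uStab, ∀ v ∈ M, g • v ∈ M) :
    (∀ v ∈ M, UD v) ∨ ∀ v, IsPerp v → v ∈ M := by
  by_cases hne : ∀ v ∈ M, UD v
  · exact Or.inl hne
  refine Or.inr fun v hv => ?_
  push Not at hne
  obtain ⟨w0, hw0, hk0⟩ := exists_fixK hperp hu hinv hne
  have hchain : ∀ i, i < Perp.chainL.length →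
      ∃ w ∈ M, key (w : GolayPt → ℤ) = (Perp.chainL.getD i (0, 0, 0)).1 := by
    intro i
    induction i using Nat.strong_induction_on with
    | _ i ih =>
      intro hi
      have h := List.all_eq_true.1 chain_checks.1 i (List.mem_range.2 hi)
      simp only [Bool.or_eq_true, Bool.and_eq_true, beq_iff_eq, decide_eq_true_eq] at h
      rcases h with ⟨-, h⟩ | ⟨⟨⟨h1, h2⟩, h3⟩, h4⟩
      · exact ⟨w0, hw0, hk0.trans h.symm⟩
      · obtain ⟨w, hw, hwk⟩ := ih _ h1 (by omega)
        have hmem : spinGens.getD (Perp.chainL.getD i (0, 0, 0)).2.2 [] ∈ spinGens := by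
          rw [List.getD_eq_getElem _ _ h2]; exact List.getElem_mem _
        obtain ⟨g, hg, hact⟩ := gen_real hmem
        refine ⟨g • w, hinv g hg w hw, ?_⟩
        rw [← act_key, hwk, hact _ h3, h4]
  refine mem_of_key_comb hdbl (Perp.uK :: Perp.chainL.map fun e => e.1) ?_
    (comb Perp.chainC (key (v : GolayPt → ℤ))) v ?_
  · intro a ha
    rcases List.mem_cons.1 ha with rfl | ha
    · exact ⟨uV, hu, key_uV⟩
    · obtain ⟨e, he, rfl⟩ := List.mem_map.1 ha
      obtain ⟨i, hi, rfl⟩ := List.getElem_of_mem he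
      rw [← List.getD_eq_getElem _ (0, 0, 0) hi]
      exact hchain i hi
  · rw [← comb_comb, chain_checks.2, comb_proj hv]

/-- reduced representatives of the section -/
def Sec : Type := {k : ℕ // k < 2 ^ 24 ∧ comb Perp.red1 k = k ∧ comb Perp.buL k = 0}

theorem red1_facts : Perp.red1.map (comb Perp.red1) = Perp.red1 ∧
    Perp.red1.map (comb Perp.buL) = Perp.buL ∧ comb Perp.red1 Perp.fixK = Perp.fixK ∧
    comb Perp.buL Perp.fixK = 0 ∧ Perp.fixK ≠ 0 ∧ Perp.fixK < 2 ^ 24 ∧
    (∀ a ∈ Perp.red1, a < 2 ^ 24) := by decide +kernel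

/-- no nontrivial normal 2-subgroup of the stabilizer -/
theorem normal_two_subgroup_uStab {N : Subgroup ↥Co0} (hN : IsPGroup 2 N) (hle : N ≤ uStab)
    (hnorm : ∀ g ∈ uStab, ∀ n ∈ N, g * n * g⁻¹ ∈ N) : N ≤ Subgroup.center ↥Co0 := by
  classical
  let F : AddSubgroup ↥leechLattice :=
    { carrier := {v | IsPerp v ∧ ∀ n ∈ N, UD (n • v - v)}
      zero_mem' := ⟨by rw [IsPerp, bil_zero_left], fun n _ => by
        rw [smul_zero', sub_self]; exact ud_zero⟩
      add_mem' := fun {a b} (ha : IsPerp a ∧ _) (hb : IsPerp b ∧ _) =>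
        ⟨by rw [IsPerp, bil_add_left, show bil a uV = 0 from ha.1, show bil b uV = 0 from hb.1,
            add_zero], fun n hn => by
          have h := (ha.2 n hn).add (hb.2 n hn)
          rw [smul_add']; convert h using 1; abel⟩
      neg_mem' := fun {a} (ha : IsPerp a ∧ _) =>
        ⟨by rw [IsPerp, bil_neg_left]; exact ha.1, fun n hn => by
          have h := ha.2 n hn
          rw [smul_neg']
          rcases h with h | h
          · exact Or.inl (by convert h.neg using 1; abel)
          · exact Or.inr (by convert h.neg.add (isDbl_double uV).neg using 1; abel)⟩ }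
  have hF : (∀ v ∈ F, UD v) ∨ ∀ v, IsPerp v → v ∈ F := by
    refine perp_irreducible (M := F) (fun v hv => ⟨UD.perp (Or.inl hv), fun n _ => Or.inl ((hv.smul n).sub hv)⟩)
      ⟨isPerp_uV, fun n hn => Or.inl (hle hn)⟩ (fun v hv => hv.1) ?_
    rintro g hg v ⟨hv, hvn⟩
    refine ⟨hv.smul hg, fun n hn => ?_⟩
    have h := UD.smul hg (hvn (g⁻¹ * n * g) (by
      have := hnorm g⁻¹ (inv_mem hg) n hn; rwa [inv_inv] at this))
    rwa [smul_sub', mul_smul, mul_smul, smul_inv_smul] at h
  rcases hF with hF | hF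
  · exfalso
    obtain ⟨-, hrb, hfr, hfb, hf0, hflt, hrlt⟩ := red1_facts
    have red_lt : ∀ k, comb Perp.red1 k < 2 ^ 24 := fun k => comb_lt _ hrlt k
    have red_red : ∀ k, comb Perp.red1 (comb Perp.red1 k) = comb Perp.red1 k := fun k => by
      rw [← comb_comb, red1_facts.1]
    have bu_red : ∀ k, comb Perp.buL (comb Perp.red1 k) = comb Perp.buL k := fun k => by
      rw [← comb_comb, hrb]
    have red_eq : ∀ a b, a < 2 ^ 24 → b < 2 ^ 24 → comb Perp.red1 a = comb Perp.red1 b →
        a ^^^ b = 0 ∨ a ^^^ b = Perp.uK := fun a b ha hb h => by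
      have := mem_of_checks red1_ok.1 red1_ok.2.1 (Nat.xor_lt_two_pow ha hb)
        (by rw [comb_xor, h, Nat.xor_self])
      simpa using this
    have bu_act : ∀ g ∈ uStab, ∀ k, k < 2 ^ 24 → comb Perp.buL k = 0 →
        comb Perp.buL (act g k) = 0 := fun g hg k hk h => by
      rw [← key_vecOf hk] at h ⊢
      rw [show key (vecOf k) = key ((⟨vecOf k, vecOf_mem k⟩ : ↥leechLattice) : GolayPt → ℤ) from rfl]
        at h ⊢
      rw [comb_buL, ZMod.val_eq_zero] at h
      rw [act_key, comb_buL, ZMod.val_eq_zero]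
      exact IsPerp.smul hg h
    have act_red : ∀ g ∈ uStab, ∀ k, k < 2 ^ 24 →
        comb Perp.red1 (act g (comb Perp.red1 k)) = comb Perp.red1 (act g k) := fun g hg k hk => by
      have hx : ∀ a b, a < 2 ^ 24 → b < 2 ^ 24 → act g (a ^^^ b) = act g a ^^^ act g b := by
        intro a b ha hb
        have e : key (((⟨vecOf a, vecOf_mem a⟩ : ↥leechLattice) + ⟨vecOf b, vecOf_mem b⟩ :
            ↥leechLattice) : GolayPt → ℤ) = a ^^^ b := by
          rw [AddSubgroup.coe_add, key_add (vecOf_mem a) (vecOf_mem b), key_vecOf ha, key_vecOf hb]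
        rw [← e, act_key, smul_add', AddSubgroup.coe_add, key_add (Subtype.prop _) (Subtype.prop _),
          ← act_key, ← act_key, key_vecOf ha, key_vecOf hb]
      rcases red_eq _ _ (red_lt k) hk (red_red k) with h | h
      · rw [Nat.xor_eq_zero_iff.1 h]
      · have h' : comb Perp.red1 k = k ^^^ Perp.uK := by
          rw [← h, Nat.xor_comm (comb Perp.red1 k) k, ← Nat.xor_assoc, Nat.xor_self, Nat.zero_xor]
        rw [h', hx _ _ hk uK_lt, mem_uStab_iff_act.1 hg, comb_xor, red1_ok.2.2, Nat.xor_zero]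
    letI : MulAction ↥N Sec :=
      { smul := fun n x => ⟨comb Perp.red1 (act (n : ↥Co0) x.1), red_lt _, red_red _, by
          rw [bu_red]; exact bu_act _ (hle n.2) _ x.2.1 x.2.2.2⟩
        one_smul := fun x => Subtype.ext (by
          show comb Perp.red1 (act ((1 : ↥N) : ↥Co0) x.1) = x.1
          rw [OneMemClass.coe_one, act_one x.2.1, x.2.2.1])
        mul_smul := fun m n x => Subtype.ext (by
          show comb Perp.red1 (act ((m * n : ↥N) : ↥Co0) x.1) =
            comb Perp.red1 (act (m : ↥Co0) (comb Perp.red1 (act (n : ↥Co0) x.1)))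
          rw [Subgroup.coe_mul, act_mul, act_red _ (hle m.2) _ (act_lt _ _)]) }
    haveI : Finite Sec := Finite.of_injective (fun x : Sec => (⟨x.1, x.2.1⟩ : Fin (2 ^ 24)))
      fun a b h => Subtype.ext (congrArg Fin.val h)
    let τ : Equiv.Perm Sec := Function.Involutive.toPerm
      (fun x => ⟨x.1 ^^^ Perp.fixK, Nat.xor_lt_two_pow x.2.1 hflt,
        by rw [comb_xor, x.2.2.1, hfr], by rw [comb_xor, x.2.2.2, hfb]; rfl⟩)
      (fun x => Subtype.ext (by
        show x.1 ^^^ Perp.fixK ^^^ Perp.fixK = x.1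
        rw [Nat.xor_assoc, Nat.xor_self, Nat.xor_zero]))
    have hτ : ∀ x, τ x ≠ x := fun x h => hf0 (by
      have h' : x.1 ^^^ Perp.fixK = x.1 := congrArg Subtype.val h
      have := congrArg (fun y => x.1 ^^^ y) h'
      simpa [← Nat.xor_assoc] using this)
    have heven : 2 ∣ Nat.card Sec := by
      haveI : Fintype Sec := Fintype.ofFinite _
      rw [Nat.card_eq_fintype_card]
      haveI : Fact (Nat.Prime 2) := ⟨Nat.prime_two⟩
      have h2 : τ ^ 2 ^ 1 = 1 := Equiv.ext fun x => by
        rw [pow_one, pow_two]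
        exact Equiv.Perm.ext_iff.1 (Equiv.ext fun y => Subtype.ext (by
          show (y.1 ^^^ Perp.fixK) ^^^ Perp.fixK = y.1
          rw [Nat.xor_assoc, Nat.xor_self, Nat.xor_zero]) : τ * τ = 1) x
      have hmod := Equiv.Perm.card_compl_support_modEq (p := 2) (n := 1) h2
      have hsupp : τ.support = Finset.univ := Finset.eq_univ_of_forall fun x =>
        Equiv.Perm.mem_support.2 (hτ x)
      rw [hsupp, Finset.compl_univ, Finset.card_empty] at hmod
      exact (Nat.modEq_zero_iff_dvd.1 hmod.symm)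
    let x0 : Sec := ⟨0, by norm_num, comb_zero_right _, comb_zero_right _⟩
    have hx0 : x0 ∈ MulAction.fixedPoints ↥N Sec := fun n => Subtype.ext (by
      show comb Perp.red1 (act (n : ↥Co0) 0) = 0
      rw [← key_zero, show key (0 : GolayPt → ℤ) = key ((0 : ↥leechLattice) : GolayPt → ℤ) from rfl,
        act_key, smul_zero', AddSubgroup.coe_zero, key_zero, comb_zero_right])
    obtain ⟨b, hb, hb0⟩ :=
      hN.exists_fixed_point_of_prime_dvd_card_of_fixed_point Sec heven hx0
    let v : ↥leechLattice := ⟨vecOf b.1, vecOf_mem _⟩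
    have hvk : key (v : GolayPt → ℤ) = b.1 := key_vecOf b.2.1
    have hv : v ∈ F := by
      refine ⟨?_, fun n hn => ?_⟩
      · have := comb_buL v
        rw [hvk, b.2.2.2] at this
        exact ZMod.val_eq_zero _ |>.1 this.symm
      · refine ud_iff_key.2 ?_
        rw [AddSubgroup.coe_sub, sub_eq_add_neg, key_add (Subtype.prop _) (neg_mem v.2), key_neg v.2,
          ← act_key, hvk]
        refine red_eq _ _ (act_lt _ _) b.2.1 ?_
        rw [b.2.2.1]
        exact congrArg Subtype.val (hb ⟨n, hn⟩)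
    refine hb0 (Subtype.ext ?_)
    show 0 = b.1
    rcases ud_iff_key.1 (hF v hv) with h | h <;> rw [hvk] at h
    · exact h.symm
    · have := b.2.2.1
      rw [h, red1_ok.2.2] at this
      rw [h, ← this]
  · exact fun n hn => faithful_perp fun v hv => (hF v hv).2 n hn
where
  comb_lt (l : List ℕ) (hl : ∀ a ∈ l, a < 2 ^ 24) (k : ℕ) : comb l k < 2 ^ 24 := by
    induction l generalizing k with
    | nil => simp [comb]
    | cons r rs ih =>
      rw [comb]
      refine Nat.xor_lt_two_pow ?_ (ih (fun a ha => hl a (List.mem_cons_of_mem _ ha)) _)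
      split
      · exact hl r List.mem_cons_self
      · norm_num

end CfsgLib.Leech
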