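import Mathlib

/-!
Normal subgroups of a finite group with a self-centralising element of large prime order.
-/

set_option autoImplicit false

open scoped Pointwise

namespace CfsgLib.SeedCrit

variable {G : Type*} [Group G] [Finite G] {q : ℕ} [Fact q.Prime]

/-- a subgroup of order `q` is conjugate to any other when `q²` does not divide the group order -/
theorem exists_conj_zpowers {x z : G} (hx : orderOf x = q) (hz : orderOf z = q)
    (hq2 : ¬ q ^ 2 ∣ Nat.card G) : ∃ g : G, g * x * g⁻¹ ∈ Subgroup.zpowers z := by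
  have hq := (Fact.out : q.Prime)
  have hcard : ∀ w : G, orderOf w = q → Nat.card (Subgroup.zpowers w) =
      q ^ (Nat.card G).factorization q := by
    intro w hw
    have hdvd : q ∣ Nat.card G := hw ▸ orderOf_dvd_natCard w
    have h1 : (Nat.card G).factorization q = 1 := by
      have h0 := hq.factorization_pos_of_dvd Nat.card_pos.ne' hdvd
      by_contra h
      exact hq2 ((pow_dvd_pow q (by omega : 2 ≤ (Nat.card G).factorization q)).trans
        (Nat.ordProj_dvd _ _))
    rw [Nat.card_zpowers, hw, h1, pow_one]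
  obtain ⟨g, hg⟩ := MulAction.exists_smul_eq G (Sylow.ofCard _ (hcard x hx)) (Sylow.ofCard _ (hcard z hz))
  refine ⟨g, ?_⟩
  have h : g * x * g⁻¹ ∈ (g • Sylow.ofCard _ (hcard x hx) : Sylow q G) := by
    show g * x * g⁻¹ ∈ MulAut.conj g • (Subgroup.zpowers x)
    exact Subgroup.smul_mem_pointwise_smul x (MulAut.conj g) _ (Subgroup.mem_zpowers x)
  rwa [hg] at h

variable {x : G} (hx : orderOf x = q) (hq2 : ¬ q ^ 2 ∣ Nat.card G)
include hx hq2

/-- a normal subgroup of order divisible by `q` contains the seed -/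
theorem mem_of_dvd {N : Subgroup G} [hN : N.Normal] (h : q ∣ Nat.card N) : x ∈ N := by
  obtain ⟨z, hz⟩ := exists_prime_orderOf_dvd_card' (G := N) q h
  obtain ⟨g, hg⟩ := exists_conj_zpowers hx (z := (z : G)) (by rwa [Subgroup.orderOf_coe]) hq2
  have h1 : g * x * g⁻¹ ∈ N := Subgroup.zpowers_le.2 z.2 hg
  have h2 := hN.conj_mem _ h1 g⁻¹
  simpa [mul_assoc] using h2

/-- Frattini argument for a normal subgroup containing the seed -/
theorem sup_normalizer {N : Subgroup G} [hN : N.Normal] (hxN : x ∈ N) :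
    N ⊔ Subgroup.normalizer (Subgroup.zpowers x : Set G) = ⊤ := by
  rw [eq_top_iff]
  intro g _
  obtain ⟨n, hn, he⟩ : ∃ n ∈ N, n * g * x * (n * g)⁻¹ ∈ Subgroup.zpowers x := by
    have hy : g * x * g⁻¹ ∈ N := hN.conj_mem _ hxN g
    have ho : orderOf (g * x * g⁻¹) = q := by
      rw [← MulAut.conj_apply, MulEquiv.orderOf_eq, hx]
    have hq2' : ¬ q ^ 2 ∣ Nat.card N := fun h => hq2 (h.trans (Subgroup.card_subgroup_dvd_card N))
    obtain ⟨n, hn⟩ := exists_conj_zpowers (G := N) (x := ⟨_, hy⟩) (z := ⟨x, hxN⟩)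
      (by rw [← Subgroup.orderOf_coe]; exact ho) (by rw [← Subgroup.orderOf_coe]; exact hx) hq2'
    refine ⟨n, n.2, ?_⟩
    obtain ⟨k, hk⟩ := Subgroup.mem_zpowers_iff.1 hn
    refine Subgroup.mem_zpowers_iff.2 ⟨k, ?_⟩
    have := congrArg Subtype.val hk
    simpa [mul_assoc] using this
  have hm : n * g ∈ Subgroup.normalizer (Subgroup.zpowers x : Set G) := by
    rw [Subgroup.mem_normalizer_iff_map_conj_eq]
    refine Subgroup.eq_of_le_of_card_ge ?_ (le_of_eq ?_)
    · rw [Subgroup.map_le_iff_le_comap]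
      exact Subgroup.zpowers_le.2 he
    · exact (Nat.card_congr (Subgroup.equivMapOfInjective _ _
        (MulAut.conj (n * g)).injective).toEquiv)
  have h2 := mul_mem (Subgroup.mem_sup_left (inv_mem hn) :
    n⁻¹ ∈ N ⊔ Subgroup.normalizer (Subgroup.zpowers x : Set G)) (Subgroup.mem_sup_right hm)
  rwa [inv_mul_cancel_left] at h2

/-- outside it, the seed commutes with a nontrivial element of `p`-power order of the normal
subgroup, unless the Sylow order is one modulo `q` -/
theorem exists_commute' {N : Subgroup G} [hN : N.Normal] (hxN : x ∉ N) {p : ℕ} (hp : p.Prime)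
    (hpN : p ∣ Nat.card N)
    (hsmall : ∀ a, p ^ a ∣ Nat.card N → ¬ p ^ (a + 1) ∣ Nat.card N → p ^ a % q = 1 → a = 0) :
    ∃ y ∈ N, y ≠ 1 ∧ Commute x y ∧ ∃ k, y ^ p ^ k = 1 := by
  haveI := Fact.mk hp
  have hq := (Fact.out : q.Prime)
  obtain ⟨P⟩ := (inferInstance : Nonempty (Sylow p N))
  set K := (P : Subgroup N).map N.subtype with hK
  set M := Subgroup.normalizer (K : Set G) with hM
  have htop : M ⊔ N = ⊤ := Sylow.normalizer_sup_eq_top P
  have hqN : ¬ q ∣ Nat.card N := fun h => hxN (mem_of_dvd hx hq2 h)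
  have hqM : q ∣ Nat.card M := by
    have hsurj : Function.Surjective ((QuotientGroup.mk' N).comp M.subtype) := by
      intro c
      obtain ⟨g, rfl⟩ := QuotientGroup.mk'_surjective N c
      obtain ⟨m, hm, n, hn, rfl⟩ := Subgroup.mem_sup_of_normal_right.1 (htop ▸ Subgroup.mem_top g)
      refine ⟨⟨m, hm⟩, ?_⟩
      show QuotientGroup.mk' N m = QuotientGroup.mk' N (m * n)
      rw [map_mul, (QuotientGroup.eq_one_iff n).2 hn |> fun h => (h : QuotientGroup.mk' N n = 1),
        mul_one]
    have h1 : q ∣ Nat.card G := hx ▸ orderOf_dvd_natCard x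
    rw [Subgroup.card_eq_card_quotient_mul_card_subgroup N] at h1
    exact ((hq.dvd_mul.1 h1).resolve_right hqN).trans (Subgroup.card_dvd_of_surjective _ hsurj)
  obtain ⟨z, hz⟩ := exists_prime_orderOf_dvd_card' (G := M) q hqM
  obtain ⟨g, hg⟩ := exists_conj_zpowers hx (z := (z : G)) (by rwa [Subgroup.orderOf_coe]) hq2
  have hgx : g * x * g⁻¹ ∈ M := Subgroup.zpowers_le.2 z.2 hg
  -- the action of the seed on a conjugate of the Sylow subgroup
  have hinv : ∀ u : K, g * x * g⁻¹ * (u : G) * (g * x * g⁻¹)⁻¹ ∈ K := fun u =>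
    (Subgroup.mem_normalizer_iff.1 hgx (u : G)).1 u.2
  set w := g * x * g⁻¹ with hw
  let f : K → K := fun u => ⟨w * u * w⁻¹, hinv u⟩
  have hiter : ∀ (n : ℕ) (u : K), ((f^[n] u : K) : G) = w ^ n * u * (w ^ n)⁻¹ := by
    intro n
    induction n with
    | zero => intro u; simp
    | succ n ih =>
      intro u
      rw [Function.iterate_succ_apply', show ((f (f^[n] u) : K) : G) = w * (f^[n] u : K) * w⁻¹ from rfl,
        ih, pow_succ']
      clear_value w
      group
  have how : orderOf w = q := by rw [hw, ← MulAut.conj_apply, MulEquiv.orderOf_eq, hx]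
  have hwq : w ^ q = 1 := how ▸ pow_orderOf_eq_one w
  have hfq : f^[q] = id := funext fun u => Subtype.ext (by rw [hiter, hwq]; simp)
  obtain ⟨a, ha⟩ : ∃ a, Nat.card K = p ^ a := IsPGroup.iff_card.1 (P.2.map N.subtype)
  have hKN : K ≤ N := Subgroup.map_subtype_le _
  have ha0 : a ≠ 0 := by
    intro h0
    rw [h0, pow_zero, hK, Subgroup.card_map_of_injective (Subgroup.subtype_injective N),
      Subgroup.card_eq_one] at ha
    have := P.dvd_card_of_dvd_card hpN
    rw [ha, Subgroup.card_bot] at this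
    exact hp.ne_one (Nat.dvd_one.1 this)
  classical
  let F : Equiv.Perm K := ⟨f, f^[q - 1],
    fun u => by rw [← Function.iterate_succ_apply, Nat.succ_eq_add_one, Nat.sub_add_cancel hq.one_le, hfq]; rfl,
    fun u => by rw [← Function.iterate_succ_apply' f, Nat.succ_eq_add_one, Nat.sub_add_cancel hq.one_le, hfq]; rfl⟩
  have hF : F ^ q = 1 := Equiv.ext fun u => by
    rw [Equiv.Perm.coe_pow, Equiv.Perm.coe_one]
    exact congrFun hfq u
  have hFp : IsPGroup q (Subgroup.zpowers F) := by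
    rintro ⟨_, k, rfl⟩
    refine ⟨1, Subtype.ext ?_⟩
    rw [SubgroupClass.coe_pow, pow_one, OneMemClass.coe_one]
    show (F ^ k) ^ q = 1
    rw [← zpow_natCast (F ^ k), ← zpow_mul, mul_comm, zpow_mul, zpow_natCast, hF, one_zpow]
  have hmod := hFp.card_modEq_card_fixedPoints K
  obtain ⟨y, hy, hy1⟩ : ∃ y : K, f y = y ∧ y ≠ 1 := by
    by_contra hne
    push Not at hne
    have hone : MulAction.fixedPoints (Subgroup.zpowers F) K = {1} := by
      ext u
      rw [Set.mem_singleton_iff]
      constructor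
      · intro hu
        exact hne u (hu ⟨F, Subgroup.mem_zpowers F⟩)
      · rintro rfl ⟨_, k, rfl⟩
        show (F ^ k) 1 = 1
        exact Equiv.Perm.zpow_apply_eq_self_of_apply_eq_self (Subtype.ext (by simp [F, f])) k
    rw [hone, Nat.card_unique (α := ({1} : Set K)), ha] at hmod
    have ha' : Nat.card (P : Subgroup N) = p ^ a := by
      rw [← Subgroup.card_map_of_injective (Subgroup.subtype_injective N), ← hK, ha]
    refine ha0 (hsmall a ?_ ?_ ?_)
    · exact ha' ▸ Subgroup.card_subgroup_dvd_card (P : Subgroup N)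
    · intro hd
      have := Nat.le_of_dvd (pow_pos hp.pos a) (ha' ▸ P.pow_dvd_card_of_pow_dvd_card hd)
      exact absurd this (not_le.2 (Nat.pow_lt_pow_right hp.one_lt (Nat.lt_succ_self a)))
    · rw [Nat.ModEq, Nat.one_mod_eq_one.2 hq.ne_one] at hmod
      exact hmod
  refine ⟨g⁻¹ * y * g, ?_, ?_, ?_, a, ?_⟩
  · simpa using hN.conj_mem _ (hKN y.2) g⁻¹
  · intro h
    exact hy1 (Subtype.ext (by simpa [mul_inv_eq_one, mul_assoc, inv_mul_eq_one] using congrArg (fun t => g * t * g⁻¹) h))
  · have h1 : w * y * w⁻¹ = y := congrArg Subtype.val hy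
    rw [mul_inv_eq_iff_eq_mul, hw] at h1
    show x * (g⁻¹ * y * g) = g⁻¹ * y * g * x
    have h2 := congrArg (fun t => g⁻¹ * t * g) h1
    simpa [mul_assoc] using h2
  · have h1 : (y : G) ^ p ^ a = 1 := by
      rw [← ha, ← SubgroupClass.coe_pow, pow_card_eq_one', OneMemClass.coe_one]
    rw [show g⁻¹ * (y : G) * g = MulAut.conj g⁻¹ (y : G) by simp, ← map_pow, h1, map_one]

/-- the same, for a prime of small exponent in the group -/
theorem exists_commute {N : Subgroup G} [hN : N.Normal] (hxN : x ∉ N) {p : ℕ} (hp : p.Prime)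
    (hpN : p ∣ Nat.card N) (hsmall : ∀ a, p ^ a ∣ Nat.card G → p ^ a % q = 1 → a = 0) :
    ∃ y ∈ N, y ≠ 1 ∧ Commute x y ∧ ∃ k, y ^ p ^ k = 1 :=
  exists_commute' hx hq2 hxN hp hpN fun a ha _ h =>
    hsmall a (ha.trans (Subgroup.card_subgroup_dvd_card N)) h

end CfsgLib.SeedCrit
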