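import Cfsg.Agent.Lib.Leech.CrossLocal
import Cfsg.Agent.Lib.Leech.SimpleCrit
import Cfsg.Agent.Lib.Golay.MathieuFacts

/-!
The monomial automorphism of order 23 and its normaliser.
-/

set_option autoImplicit false
set_option maxRecDepth 10000

namespace CfsgLib.Leech

open Cfsg CfsgLib.Golay
open scoped Pointwise symmDiff

attribute [local irreducible] dL bL key keyL coord packB linL

instance fact_prime_23 : Fact (Nat.Prime 23) := ⟨by norm_num⟩

theorem mono_apply {σ : Equiv.Perm GolayPt} {d : Finset GolayPt} (hσ : σ ∈ M24) (hd : d ∈ CS)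
    (v : ↥leechLattice) (i : GolayPt) :
    ((mono hσ hd • v : ↥leechLattice) : GolayPt → ℤ) i =
      if i ∈ d then -((v : GolayPt → ℤ) (σ i)) else (v : GolayPt → ℤ) (σ i) := by
  rw [mono, Iso.aut_smul]; rfl

theorem mono_mul_nil {σ σ' : Equiv.Perm GolayPt} (hσ : σ ∈ M24) (hσ' : σ' ∈ M24) :
    mono hσ empty_mem_CS * mono hσ' empty_mem_CS = mono (mul_mem hσ' hσ) empty_mem_CS :=
  aut_ext fun v => Subtype.ext (funext fun i => by simp [mul_smul, mono_apply])

theorem sign_mul {d d' : Finset GolayPt} (hd : d ∈ CS) (hd' : d' ∈ CS) :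
    mono (one_mem M24) hd * mono (one_mem M24) hd' =
      mono (one_mem M24) (symmDiff_mem_supports hd hd') :=
  aut_ext fun v => Subtype.ext (funext fun i => by
    by_cases h : i ∈ d <;> by_cases h' : i ∈ d' <;>
      simp [mul_smul, mono_apply, Finset.mem_symmDiff, h, h'])

theorem mono_mul_sign {σ : Equiv.Perm GolayPt} {d e : Finset GolayPt} (hσ : σ ∈ M24) (hd : d ∈ CS)
    (he : e ∈ CS) (he' : σ⁻¹ • e ∈ CS) :
    mono hσ hd * mono (one_mem M24) he = mono (one_mem M24) he' * mono hσ hd :=
  aut_ext fun v => Subtype.ext (funext fun i => by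
    have : i ∈ σ⁻¹ • e ↔ σ i ∈ e := by rw [Finset.mem_inv_smul_finset_iff, Equiv.Perm.smul_def]
    by_cases h : i ∈ d <;> by_cases h' : σ i ∈ e <;>
      simp [mul_smul, mono_apply, this, h, h'])

theorem inv_sign {d : Finset GolayPt} (hd : d ∈ CS) :
    (mono (one_mem M24) hd)⁻¹ = mono (one_mem M24) hd :=
  inv_eq_of_mul_eq_one_right (by
    rw [sign_mul, one_eq_mono]
    congr 1
    exact symmDiff_self d)

/-- the rotation of the finite points -/
def shiftσ : Equiv.Perm GolayPt := Equiv.optionCongr (Equiv.addRight (1 : ZMod 23))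

theorem shiftσ_mem : shiftσ ∈ M24 := shift_mem

theorem shiftσ_none : shiftσ none = none := rfl

theorem shiftσ_some (a : ZMod 23) : shiftσ (some a) = some (a + 1) := rfl

theorem shiftσ_pow (n : ℕ) (a : ZMod 23) : (shiftσ ^ n) (some a) = some (a + n) := by
  induction n with
  | zero => simp
  | succ n ih => rw [pow_succ', Equiv.Perm.mul_apply, ih, shiftσ_some]; push_cast; rw [add_assoc]

theorem shiftσ_pow_23 : shiftσ ^ 23 = 1 := by
  refine Equiv.ext fun p => ?_
  cases p with
  | none => exact Equiv.Perm.pow_apply_eq_self_of_apply_eq_self shiftσ_none 23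
  | some a => rw [shiftσ_pow, show ((23 : ℕ) : ZMod 23) = 0 from rfl, add_zero]; rfl

/-- the seed -/
noncomputable def seed : ↥Co0 := mono shiftσ_mem empty_mem_CS

theorem seed_pow (n : ℕ) : seed ^ n = mono (pow_mem shiftσ_mem n) empty_mem_CS := by
  induction n with
  | zero => rw [pow_zero, one_eq_mono]; congr 1
  | succ n ih => rw [pow_succ', seed, ← seed, ih, seed, mono_mul_nil]; congr 1; exact (pow_succ _ _).symm

theorem orderOf_seed : orderOf seed = 23 := by
  refine orderOf_eq_prime ?_ ?_
  · rw [seed_pow, one_eq_mono]; congr 1; exact shiftσ_pow_23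
  · intro h
    rw [seed, one_eq_mono] at h
    have := congrFun (congrArg (fun σ : Equiv.Perm GolayPt => (σ : GolayPt → GolayPt)) (perm_unique h))
      (some 0)
    rw [shiftσ_some] at this
    exact absurd this (by decide)

theorem seed_mem_crossStab : seed ∈ crossStab := mono_mem_crossStab _ _

theorem seed_fix {v : ↥leechLattice}
    (h : ∀ p, (v : GolayPt → ℤ) (shiftσ p) = (v : GolayPt → ℤ) p) : seed • v = v :=
  Subtype.ext (funext fun i => by simp [seed, mono_apply, h])

theorem const_of_seed_fix {v : ↥leechLattice} (h : seed • v = v) (a : ZMod 23) :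
    (v : GolayPt → ℤ) (some a) = (v : GolayPt → ℤ) (some 0) := by
  have hn : seed ^ a.val • v = v := by
    induction a.val with
    | zero => rw [pow_zero, one_smul]
    | succ n ih => rw [pow_succ, mul_smul, h, ih]
  have := congrFun (congrArg Subtype.val hn) (some 0)
  rw [seed_pow, mono_apply, if_neg (Finset.notMem_empty _), shiftσ_pow, zero_add,
    ZMod.natCast_zmod_val] at this
  exact this

theorem seed_fix_eight : seed • v8 = v8 := seed_fix fun p => by
  show eight none (shiftσ p) = eight none p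
  cases p with
  | none => rfl
  | some a => rw [shiftσ_some]; simp [eight]

/-- the normaliser of the seed preserves the standard cross -/
theorem normalizer_le_crossStab {y : ↥Co0}
    (hy : y ∈ Subgroup.normalizer (Subgroup.zpowers seed : Set ↥Co0)) : y ∈ crossStab := by
  have hst : Subgroup.zpowers seed ≤ MulAction.stabilizer ↥Co0 v8 :=
    Subgroup.zpowers_le.2 seed_fix_eight
  have h1 : y⁻¹ * seed * y ∈ Subgroup.zpowers seed :=
    (Subgroup.mem_normalizer_iff''.1 hy seed).1 (Subgroup.mem_zpowers seed)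
  have h2 : seed • y • v8 = y • v8 := by
    have := MulAction.mem_stabilizer_iff.1 (hst h1)
    rw [mul_smul, mul_smul, inv_smul_eq_iff] at this
    exact this
  set w := y • v8 with hw
  have hn : sqNorm (w : GolayPt → ℤ) = 64 := (sqNorm_smul y v8).trans (sqNorm_eight none)
  have hc := const_of_seed_fix h2
  have hsum : sqNorm (w : GolayPt → ℤ) =
      (w : GolayPt → ℤ) none ^ 2 + 23 * (w : GolayPt → ℤ) (some 0) ^ 2 := by
    rw [sqNorm, Fintype.sum_option, Finset.sum_congr rfl fun a _ => by rw [hc a], Finset.sum_const,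
      Finset.card_univ, ZMod.card, nsmul_eq_mul]
    norm_num
  rw [hn] at hsum
  obtain ⟨a, b⟩ : ((w : GolayPt → ℤ) none = 8 ∨ (w : GolayPt → ℤ) none = -8) ∧
      (w : GolayPt → ℤ) (some 0) = 0 := by
    generalize (w : GolayPt → ℤ) none = a at hsum ⊢
    generalize (w : GolayPt → ℤ) (some 0) = b at hsum ⊢
    have hb : b ∈ Finset.Icc (-1 : ℤ) 1 := by
      rw [Finset.mem_Icc]; constructor <;> nlinarith
    have ha : a ∈ Finset.Icc (-8 : ℤ) 8 := by
      rw [Finset.mem_Icc]; constructor <;> nlinarith
    rw [Finset.mem_Icc] at hb ha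
    obtain ⟨ha1, ha2⟩ := ha
    obtain ⟨hb1, hb2⟩ := hb
    interval_cases b <;> interval_cases a <;> first | (exfalso; norm_num at hsum; done) | norm_num
  have hv : (v8 : GolayPt → ℤ) = eight none := rfl
  rw [mem_crossStab_iff_dbl, ← hw]
  rcases a with a | a
  · refine ⟨0, ?_⟩
    have : w = v8 := Subtype.ext (funext fun p => by
      cases p with
      | none => rw [a, hv]; simp [eight]
      | some c => rw [hc c, b, hv]; simp [eight])
    rw [this, sub_self]; simp
  · refine ⟨-v8, ?_⟩
    have : w = -v8 := Subtype.ext (funext fun p => by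
      cases p with
      | none => rw [a, AddSubgroup.coe_neg, Pi.neg_apply, hv]; simp [eight]
      | some c => rw [hc c, b, AddSubgroup.coe_neg, Pi.neg_apply, hv]; simp [eight])
    rw [this]; abel

/-- a monomial element commuting with the seed, of order prime to 23, is a sign change -/
theorem sign_of_commute {τ : Equiv.Perm GolayPt} {d : Finset GolayPt} {hτ : τ ∈ M24} {hd : d ∈ CS}
    (hc : Commute seed (mono hτ hd)) {p k : ℕ} (hp : p.Prime) (hp23 : p ≠ 23)
    (hpow : mono hτ hd ^ p ^ k = 1) : τ = 1 := by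
  obtain ⟨e, he, h1⟩ := mono_mul_perm shiftσ_mem empty_mem_CS hτ hd
  obtain ⟨e', he', h2⟩ := mono_mul_perm hτ hd shiftσ_mem empty_mem_CS
  have hcomm : τ * shiftσ = shiftσ * τ := by
    have h := hc.eq
    rw [seed, h1, h2] at h
    exact perm_unique h
  have hnone : τ none = none := by
    have h := Equiv.ext_iff.1 hcomm none
    rw [Equiv.Perm.mul_apply, Equiv.Perm.mul_apply, shiftσ_none] at h
    cases hn : τ none with
    | none => rfl
    | some a =>
      rw [hn, shiftσ_some] at h
      have := Option.some.inj h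
      exact absurd (add_left_cancel (a := a) (b := 0) (c := 1) (by rw [add_zero]; exact this)) (by decide)
  obtain ⟨c, hc0⟩ : ∃ c, τ (some 0) = some c := by
    cases hn : τ (some 0) with
    | none => exact absurd (τ.injective (hn.trans hnone.symm)) (Option.some_ne_none _)
    | some c => exact ⟨c, rfl⟩
  have hshift : ∀ a, τ (some a) = some (a + c) := by
    intro a
    have hcn : Commute τ (shiftσ ^ a.val) := Commute.pow_right hcomm a.val
    have h := Equiv.ext_iff.1 hcn.eq (some 0)
    rw [Equiv.Perm.mul_apply, Equiv.Perm.mul_apply, shiftσ_pow, hc0, shiftσ_pow, zero_add,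
      ZMod.natCast_zmod_val, add_comm c] at h
    exact h
  have hpw : ∀ n : ℕ, (∃ (e : Finset GolayPt) (he : e ∈ CS),
      mono hτ hd ^ n = mono (pow_mem hτ n) he) ∧ (τ ^ n) (some 0) = some ((n : ZMod 23) * c) := by
    intro n
    induction n with
    | zero => exact ⟨⟨∅, empty_mem_CS, by rw [pow_zero, one_eq_mono]; congr 1⟩, by simp⟩
    | succ n ih =>
      obtain ⟨⟨e, he, h⟩, hn⟩ := ih
      obtain ⟨e', he', h'⟩ := mono_mul_perm (pow_mem hτ n) he hτ hd
      refine ⟨⟨e', he', ?_⟩, ?_⟩
      · rw [pow_succ, h, h']; congr 1; exact (pow_succ' τ n).symm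
      · rw [pow_succ', Equiv.Perm.mul_apply, hn, hshift]; push_cast; congr 1; ring
  obtain ⟨⟨e, he, h⟩, h0⟩ := hpw (p ^ k)
  rw [hpow, one_eq_mono] at h
  rw [← perm_unique h, Equiv.Perm.one_apply] at h0
  have hc1 : ((p ^ k : ℕ) : ZMod 23) * c = 0 := (Option.some.inj h0).symm
  have hne : ((p ^ k : ℕ) : ZMod 23) ≠ 0 := by
    rw [Nat.cast_pow]
    refine pow_ne_zero _ fun hz => hp23 ?_
    exact ((Nat.prime_dvd_prime_iff_eq (by norm_num) hp).1 ((CharP.cast_eq_zero_iff (ZMod 23) 23 p).1 hz)).symm
  have hc2 : c = 0 := (mul_eq_zero.1 hc1).resolve_left hne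
  refine Equiv.ext fun q => ?_
  cases q with
  | none => exact hnone
  | some a => rw [hshift, hc2, add_zero]; rfl

end CfsgLib.Leech
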