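import Cfsg.Agent.Lib.Leech.Co0

/-!
The numbers of lattice vectors of the three smallest nonzero norms.
-/

set_option autoImplicit false
set_option maxRecDepth 10000

namespace CfsgLib.Leech

open Cfsg CfsgLib.Golay

attribute [local irreducible] dL bL key keyL coord packB linL bits

/-- the vectors of a given norm -/
def shell (n : ℤ) : Set (GolayPt → ℤ) := {x | x ∈ leechLattice ∧ sqNorm x = n}

theorem shell_finite (n : ℤ) : (shell n).Finite :=
  ((finite_shell n).image (fun v : ↥leechLattice => (v : GolayPt → ℤ))).subset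
    fun x hx => ⟨⟨x, hx.1⟩, hx.2, rfl⟩

theorem exists_shell {t : ℕ} (ht : t < 4) {k : ℕ} (hk : k ∈ typeSet t) :
    ∃ x ∈ shell (typeNorm t), key x = k := by
  obtain ⟨v, hv, hvk⟩ := hk.2.exists_vec ht
  exact ⟨(v : GolayPt → ℤ), ⟨v.2, hv⟩, hvk⟩

theorem ncard_shell {t : ℕ} (ht : t < 4) {c : ℕ}
    (hfib : ∀ x ∈ shell (typeNorm t), {y | y ∈ shell (typeNorm t) ∧ key y = key x}.ncard = c) :
    (shell (typeNorm t)).ncard = c * (typeSet t).ncard := by
  classical
  have himg : key '' shell (typeNorm t) = typeSet t := by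
    ext k
    constructor
    · rintro ⟨x, hx, rfl⟩
      exact ⟨key_lt x, typ_of_norm ht (v := ⟨x, hx.1⟩) hx.2⟩
    · intro hk
      obtain ⟨x, hx, h⟩ := exists_shell ht hk
      exact ⟨x, hx, h⟩
  set S := (shell_finite (typeNorm t)).toFinset with hS
  rw [← himg, Set.ncard_eq_toFinset_card _ (shell_finite _),
    Set.ncard_eq_toFinset_card _ ((shell_finite _).image key), ← hS,
    Set.Finite.toFinset_image key (shell_finite _), ← hS,
    Finset.card_eq_sum_card_image key S, Finset.sum_const_nat (m := c), mul_comm]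
  intro k hk
  obtain ⟨x, hx, rfl⟩ := Finset.mem_image.1 hk
  rw [hS, Set.Finite.mem_toFinset] at hx
  rw [← hfib x hx, ← Set.ncard_coe_finset]
  congr 1
  ext y
  simp [hS, and_comm]

theorem fibre_small {t : ℕ} (ht : 1 ≤ t) (ht' : t < 3) {x : GolayPt → ℤ}
    (hx : x ∈ shell (typeNorm t)) :
    {y | y ∈ shell (typeNorm t) ∧ key y = key x}.ncard = 2 := by
  have hlt : typeNorm t < 64 := by interval_cases t <;> simp [typeNorm]
  have hpos : 0 < typeNorm t := by interval_cases t <;> simp [typeNorm]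
  have he : {y | y ∈ shell (typeNorm t) ∧ key y = key x} = {x, -x} := by
    ext y
    constructor
    · rintro ⟨hy, hk⟩
      rcases eq_or_neg_of_key (v := ⟨x, hx.1⟩) (w := ⟨y, hy.1⟩) (hx.2.trans_lt hlt) (hy.2.trans_le hlt.le) hk.symm
        with e | e
      · exact Or.inl (congrArg Subtype.val e)
      · exact Or.inr (congrArg Subtype.val e)
    · rintro (rfl | rfl)
      · exact ⟨hx, rfl⟩
      · exact ⟨⟨neg_mem hx.1, (sqNorm_neg x).trans hx.2⟩, key_neg hx.1⟩
  rw [he, Set.ncard_pair]
  intro e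
  have h0 : x = 0 := funext fun i => by
    have := congrFun e i
    simp only [Pi.neg_apply, Pi.zero_apply] at this ⊢
    omega
  have := hx.2
  rw [h0, sqNorm_zero] at this
  omega

theorem fibre_64 {x : GolayPt → ℤ} (hx : x ∈ shell (typeNorm 3)) :
    {y | y ∈ shell (typeNorm 3) ∧ key y = key x}.ncard = 48 := by
  rw [← ncard_cross hx.1 hx.2]
  congr 1
  ext y
  rw [mem_cross_iff hx.1, hx.2]
  exact ⟨fun h => ⟨h.1.1, h.1.2, h.2.symm⟩, fun h => ⟨⟨h.1, h.2.1⟩, h.2.2.symm⟩⟩

theorem ncard_shell32 : (shell 32).ncard = 196560 := by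
  rw [show (32 : ℤ) = typeNorm 1 from rfl, ncard_shell (by norm_num) fun x hx =>
    fibre_small le_rfl (by norm_num) hx, ncard_type1]

theorem ncard_shell48 : (shell 48).ncard = 16773120 := by
  rw [show (48 : ℤ) = typeNorm 2 from rfl, ncard_shell (by norm_num) fun x hx =>
    fibre_small (by norm_num) (by norm_num) hx, ncard_type2]

theorem ncard_shell64 : (shell 64).ncard = 398034000 := by
  rw [show (64 : ℤ) = typeNorm 3 from rfl, ncard_shell (by norm_num) fun x hx => fibre_64 hx,
    ncard_type3]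

end CfsgLib.Leech
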