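import Cfsg.Prelude.Def_Sporadic
import Cfsg.Agent.Lib.Leech.Seed
import Cfsg.Agent.Lib.Leech.Shells
import Cfsg.Agent.Lib.Leech.PerpIrred

/-!
Simplicity of the automorphism group modulo its centre and of the stabilizers of short vectors.
-/

set_option autoImplicit false
set_option maxRecDepth 10000

namespace CfsgLib.Leech

open Cfsg CfsgLib.Golay
open scoped Pointwise symmDiff

attribute [local irreducible] dL bL key keyL coord packB linL

/-- the permutations inside the automorphism group -/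
noncomputable def m24Hom : ↥M24 →* ↥Co0 :=
  MonoidHom.mk' (fun τ => mono (inv_mem τ.2) empty_mem_CS) fun τ τ' => by
    rw [mono_mul_nil]; congr 1

theorem m24Hom_inv {σ : Equiv.Perm GolayPt} (hσ : σ ∈ M24) :
    m24Hom ⟨σ⁻¹, inv_mem hσ⟩ = mono hσ empty_mem_CS := by
  show mono _ empty_mem_CS = mono hσ empty_mem_CS
  congr 1

theorem mono_eq_sign_mul {σ : Equiv.Perm GolayPt} {d : Finset GolayPt} (hσ : σ ∈ M24) (hd : d ∈ CS) :
    mono hσ hd = mono (one_mem M24) hd * mono hσ empty_mem_CS :=
  aut_ext fun v => Subtype.ext (funext fun i => by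
    by_cases h : i ∈ d <;> simp [mul_smul, mono_apply, h])

theorem smul_mem_CS {σ : Equiv.Perm GolayPt} (hσ : σ ∈ M24) {o : Finset GolayPt}
    (ho : o ∈ octads) : σ • o ∈ octads := smul_mem_octads hσ ho

theorem octad_CS {o : Finset GolayPt} (ho : o ∈ octads) : o ∈ CS := ho.1

theorem row_octad : ∀ r ∈ rows, dec r ∈ octads := fun r hr =>
  dec_mem_octads (rows_weight r hr).2 (rows_weight r hr).1

theorem octad_meet : dec 13062145 ∈ octads ∧ dec 4845570 ∈ octads ∧
    dec (13062145 ^^^ 4845570) ∈ octads ∧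
    symmDiff (dec 4845570) (dec 13062145) = dec (13062145 ^^^ 4845570) := by
  refine ⟨row_octad _ (by simp [rows]), row_octad _ (by simp [rows]),
    dec_mem_octads (by decide +kernel) (by decide +kernel), ?_⟩
  ext p
  simp only [Finset.mem_symmDiff, mem_dec, Nat.testBit_xor]
  generalize Nat.testBit 13062145 (idx p) = a
  generalize Nat.testBit 4845570 (idx p) = b
  revert a b; decide

theorem dec_xor (m n : ℕ) : dec (m ^^^ n) = symmDiff (dec m) (dec n) := by
  ext p
  simp only [Finset.mem_symmDiff, mem_dec, Nat.testBit_xor]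
  generalize m.testBit (idx p) = a
  generalize n.testBit (idx p) = b
  revert a b; decide

theorem mono_set_congr {σ : Equiv.Perm GolayPt} {d e : Finset GolayPt} (hσ : σ ∈ M24) (hd : d ∈ CS)
    (he : e ∈ CS) (h : d = e) : mono hσ hd = mono hσ he := by subst h; rfl

/-- a normal subgroup containing the seed is everything -/
theorem eq_top_of_seed_mem {N : Subgroup ↥Co0} [hN : N.Normal] (h : seed ∈ N) : N = ⊤ := by
  haveI := finite_Co0
  haveI := isSimpleGroup_M24
  have hperm : ∀ {σ : Equiv.Perm GolayPt} (hσ : σ ∈ M24), mono hσ empty_mem_CS ∈ N := by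
    haveI : (N.comap m24Hom).Normal := hN.comap m24Hom
    have htop : N.comap m24Hom = ⊤ := by
      refine (inferInstance : (N.comap m24Hom).Normal).eq_bot_or_eq_top.resolve_left fun hb => ?_
      have h1 : (⟨shiftσ⁻¹, inv_mem shiftσ_mem⟩ : ↥M24) ∈ N.comap m24Hom := by
        rw [Subgroup.mem_comap, m24Hom_inv shiftσ_mem]; exact h
      rw [hb, Subgroup.mem_bot] at h1
      have h2 : shiftσ = 1 := inv_eq_one.1 (congrArg Subtype.val h1)
      have := Equiv.ext_iff.1 h2 (some 0)
      rw [shiftσ_some] at this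
      exact absurd this (by decide)
    intro σ hσ
    have : (⟨σ⁻¹, inv_mem hσ⟩ : ↥M24) ∈ N.comap m24Hom := htop ▸ Subgroup.mem_top _
    rwa [Subgroup.mem_comap, m24Hom_inv hσ] at this
  obtain ⟨ho, ho', hoo, hmeet⟩ := octad_meet
  -- commutators
  have hcomm : ∀ {σ : Equiv.Perm GolayPt} (hσ : σ ∈ M24) {e : Finset GolayPt} (he : e ∈ CS)
      (he' : σ⁻¹ • e ∈ CS), mono (one_mem M24) (symmDiff_mem_supports he' he) ∈ N := by
    intro σ hσ e he he'
    have h1 := hN.conj_mem _ (hperm hσ) (mono (one_mem M24) he)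
    rw [inv_sign, mul_assoc, mono_mul_sign hσ empty_mem_CS he he', ← mul_assoc, sign_mul] at h1
    have h2 := mul_mem h1 (inv_mem (hperm hσ))
    rw [mul_inv_cancel_right] at h2
    rwa [mono_set_congr (one_mem M24) (symmDiff_mem_supports he' he) (symmDiff_mem_supports he he')
      (symmDiff_comm _ _)]
  obtain ⟨g, hg⟩ := octad_transitive ho ho'
  have hbase : mono (one_mem M24) (octad_CS hoo) ∈ N := by
    have e : (g⁻¹ : ↥M24).1⁻¹ • dec 13062145 = dec 4845570 := by
      rw [show ((g⁻¹ : ↥M24).1⁻¹) = g.1 from inv_inv g.1]; exact hg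
    have he' : (g⁻¹ : ↥M24).1⁻¹ • dec 13062145 ∈ CS := e.symm ▸ octad_CS ho'
    have := hcomm (g⁻¹ : ↥M24).2 (octad_CS ho) he'
    rwa [mono_set_congr (one_mem M24) (symmDiff_mem_supports he' (octad_CS ho)) (octad_CS hoo)
      (by rw [e]; exact hmeet)] at this
  have hoct : ∀ {o : Finset GolayPt} (ho : o ∈ octads), mono (one_mem M24) (octad_CS ho) ∈ N := by
    intro o ho2
    obtain ⟨k, hk⟩ := octad_transitive hoo ho2
    have hk' : (k.1⁻¹)⁻¹ • dec (13062145 ^^^ 4845570) = o := by rw [inv_inv]; exact hk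
    have he' : (k.1⁻¹)⁻¹ • dec (13062145 ^^^ 4845570) ∈ CS := hk'.symm ▸ octad_CS ho2
    have h1 := hN.conj_mem _ hbase (mono (inv_mem k.2) empty_mem_CS)
    rw [mono_mul_sign (inv_mem k.2) empty_mem_CS (octad_CS hoo) he', mul_inv_cancel_right] at h1
    rwa [mono_set_congr (one_mem M24) he' (octad_CS ho2) hk'] at h1
  have hcomb : ∀ (l : List ℕ), (∀ r ∈ l, dec r ∈ octads) → ∀ m : ℕ,
      ∃ hc : dec (comb l m) ∈ CS, mono (one_mem M24) hc ∈ N := by
    intro l
    induction l with
    | nil =>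
      intro _ m
      have e : dec (comb [] m) = ∅ := by ext p; simp [comb]
      refine ⟨e.symm ▸ empty_mem_CS, ?_⟩
      rw [mono_set_congr (one_mem M24) _ empty_mem_CS e, ← one_eq_mono]
      exact one_mem N
    | cons r rs ih =>
      intro hl m
      obtain ⟨hc, hm⟩ := ih (fun a ha => hl a (List.mem_cons_of_mem _ ha)) (m / 2)
      have hr := hl r List.mem_cons_self
      by_cases hm2 : m % 2 = 1
      · have e : dec (comb (r :: rs) m) = symmDiff (dec r) (dec (comb rs (m / 2))) := by
          rw [comb, if_pos hm2, dec_xor]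
        refine ⟨e.symm ▸ symmDiff_mem_supports (octad_CS hr) hc, ?_⟩
        rw [mono_set_congr (one_mem M24) _ (symmDiff_mem_supports (octad_CS hr) hc) e, ← sign_mul (octad_CS hr) hc]
        exact mul_mem (hoct hr) hm
      · have e : dec (comb (r :: rs) m) = dec (comb rs (m / 2)) := by
          rw [comb, if_neg hm2, Nat.zero_xor]
        exact ⟨e.symm ▸ hc, by rwa [mono_set_congr (one_mem M24) _ hc e]⟩
  have hcross : crossStab ≤ N := by
    intro y hy
    obtain ⟨σ, d, hσ, hd, rfl⟩ := crossStab_eq_mono hy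
    obtain ⟨m, hm, hdm⟩ := mem_supports_codeList.1 hd
    have hrows : comb rows m = m := by
      have := inC_iff_mem_codeList.2 hm
      simpa [inC] using this
    obtain ⟨hc, hmem⟩ := hcomb rows row_octad m
    rw [mono_eq_sign_mul]
    refine mul_mem ?_ (hperm hσ)
    rwa [mono_set_congr (one_mem M24) hd hc (by rw [hrows, hdm])]
  have := SeedCrit.sup_normalizer orderOf_seed (by rw [natCard_Co0]; norm_num) h
  rwa [sup_eq_left.2 ((fun y hy => hcross (normalizer_le_crossStab hy)) :
    Subgroup.normalizer (Subgroup.zpowers seed : Set ↥Co0) ≤ N)] at this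

theorem normalizer_of_commute {y : ↥Co0} (h : Commute seed y) :
    y ∈ Subgroup.normalizer (Subgroup.zpowers seed : Set ↥Co0) := by
  rw [Subgroup.mem_normalizer_iff]
  intro z
  have hz : ∀ z ∈ Subgroup.zpowers seed, y * z * y⁻¹ = z := by
    rintro _ ⟨k, rfl⟩
    rw [(h.zpow_left k).symm.eq, mul_inv_cancel_right]
  refine ⟨fun hm => by rwa [hz z hm], fun hm => ?_⟩
  have := hz _ hm
  rw [mul_left_inj, mul_right_inj, mul_inv_eq_iff_eq_mul] at this
  rwa [show y * z * y⁻¹ = z by rw [this, mul_inv_cancel_right]] at hm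

theorem odd_prime_small : ∀ p ∈ [3, 5, 7, 11, 13, 23], ∀ a ∈ List.range 64,
    8315553613086720000 % p ^ a = 0 → p ^ a % 23 = 1 → a = 0 := by decide +kernel

theorem prime_cases {p : ℕ} (hp : p.Prime) (h : p ∣ 8315553613086720000) :
    p ∈ [2, 3, 5, 7, 11, 13, 23] := by
  rw [show (8315553613086720000 : ℕ) = 2 ^ 22 * 3 ^ 9 * 5 ^ 4 * 7 ^ 2 * 11 * 13 * 23 by norm_num] at h
  have key : ∀ q : ℕ, q.Prime → ∀ e, p ∣ q ^ e → p = q := fun q hq e he =>
    (Nat.prime_dvd_prime_iff_eq hp hq).1 (hp.dvd_of_dvd_pow he)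
  simp only [hp.dvd_mul] at h
  obtain (((((h | h) | h) | h) | h) | h) | h := h <;>
    first
    | (rcases key 2 (by norm_num) _ h with rfl; simp)
    | (rcases key 3 (by norm_num) _ h with rfl; simp)
    | (rcases key 5 (by norm_num) _ h with rfl; simp)
    | (rcases key 7 (by norm_num) _ h with rfl; simp)
    | (rcases (Nat.prime_dvd_prime_iff_eq hp (by norm_num)).1 h with rfl; simp)

theorem exp_lt {p a : ℕ} (hp : p.Prime) {n : ℕ} (hn : 0 < n) (hlt : n < 2 ^ 64) (h : p ^ a ∣ n) :
    a < 64 := by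
  by_contra hc
  have : 2 ^ 64 ≤ p ^ a :=
    (Nat.pow_le_pow_right (by norm_num) (not_lt.1 hc)).trans (Nat.pow_le_pow_left hp.two_le a)
  exact absurd (Nat.le_of_dvd hn h) (by omega)

/-- a normal subgroup without the seed contains no nontrivial element of odd prime-power order -/
theorem two_group_of_seed_notMem {S : Subgroup ↥Co0} (hs : seed ∈ S) {N : Subgroup ↥S} [N.Normal]
    (h : (⟨seed, hs⟩ : ↥S) ∉ N) (p : ℕ) (hp : p.Prime) (hp2 : p ≠ 2) (hpN : p ∣ Nat.card N) : False := by
  haveI := finite_Co0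
  have hS : Nat.card ↥S ∣ Nat.card ↥Co0 := Subgroup.card_subgroup_dvd_card S
  rw [natCard_Co0] at hS
  have hN : Nat.card N ∣ 8315553613086720000 := (Subgroup.card_subgroup_dvd_card N).trans hS
  have ho : orderOf (⟨seed, hs⟩ : ↥S) = 23 := (Subgroup.orderOf_mk seed hs).trans orderOf_seed
  have hq2 : ¬ 23 ^ 2 ∣ Nat.card ↥S := fun hd => absurd (hd.trans hS) (by norm_num)
  have hmem : p ∈ [3, 5, 7, 11, 13, 23] := by
    have := prime_cases hp (hpN.trans hN)
    simp only [List.mem_cons, List.not_mem_nil, or_false] at this ⊢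
    tauto
  obtain ⟨y, hy, hy1, hc, k, hk⟩ := SeedCrit.exists_commute ho hq2 h hp hpN
    fun a ha he => odd_prime_small p hmem a
      (List.mem_range.2 (exp_lt hp (by norm_num) (by norm_num) (ha.trans hS)))
      (Nat.mod_eq_zero_of_dvd (ha.trans hS) |> fun e => e) he
  have hp23 : p ≠ 23 := by
    rintro rfl
    exact h (SeedCrit.mem_of_dvd ho hq2 hpN)
  have hc' : Commute seed (y : ↥Co0) := congrArg Subtype.val hc.eq
  obtain ⟨τ, d, hτ, hd, hyd⟩ := crossStab_eq_mono (normalizer_le_crossStab (normalizer_of_commute hc'))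
  have hk' : (y : ↥Co0) ^ p ^ k = 1 := by
    rw [← SubgroupClass.coe_pow, hk, OneMemClass.coe_one]
  rw [hyd] at hc' hk'
  obtain rfl := sign_of_commute hc' hp hp23 hk'
  have hsq : mono hτ hd ^ 2 = (1 : ↥Co0) := by
    rw [sq]
    refine (sign_mul hd hd).trans ?_
    rw [one_eq_mono]; congr 1; exact symmDiff_self d
  have hone : (y : ↥Co0) = 1 := by
    rw [hyd, ← orderOf_eq_one_iff]
    exact Nat.eq_one_of_dvd_coprimes
      ((Nat.coprime_primes hp Nat.prime_two).2 hp2 |>.pow_left k)
      (orderOf_dvd_of_pow_eq_one hk') (orderOf_dvd_of_pow_eq_one hsq)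
  exact hy1 (Subtype.ext hone)

theorem isPGroup_two_of_card {H : Type*} [Group H] [Finite H]
    (h : ∀ p : ℕ, p.Prime → p ≠ 2 → p ∣ Nat.card H → False) : IsPGroup 2 H :=
  IsPGroup.iff_card.2 ⟨_, Nat.eq_prime_pow_of_unique_prime_dvd Nat.card_pos.ne' fun hd hdvd => by
    by_contra hne
    exact h _ hd hne hdvd⟩

/-- a normal 2-subgroup is central -/
theorem two_le_center {N : Subgroup ↥Co0} [hN : N.Normal] (h2 : IsPGroup 2 N) :
    N ≤ Subgroup.center ↥Co0 := by
  haveI := finite_Co0
  have hle : N ≤ crossStab := by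
    obtain ⟨P, hP⟩ := h2.exists_le_sylow
    obtain ⟨Q⟩ := (inferInstance : Nonempty (Sylow 2 crossStab))
    have hQ : Nat.card ((Q : Subgroup crossStab).map crossStab.subtype) =
        2 ^ (Nat.card ↥Co0).factorization 2 := by
      rw [Subgroup.card_map_of_injective (Subgroup.subtype_injective _), Q.card_eq_multiplicity,
        natCard_Co0, natCard_crossStab,
        show (8315553613086720000 : ℕ) = 4096 * 244823040 * 8292375 by norm_num,
        Nat.factorization_mul (a := 4096 * 244823040) (b := 8292375) (by norm_num) (by norm_num),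
        Finsupp.add_apply, Nat.factorization_eq_zero_of_not_dvd (n := 8292375) (by norm_num), add_zero]
    obtain ⟨g, hg⟩ := MulAction.exists_smul_eq ↥Co0 P (Sylow.ofCard _ hQ)
    intro n hn
    have h1 : g * (g⁻¹ * n * g) * g⁻¹ ∈ (g • P : Sylow 2 ↥Co0) :=
      Subgroup.smul_mem_pointwise_smul _ (MulAut.conj g) _ (hP (by simpa using hN.conj_mem n hn g⁻¹))
    rw [hg, show g * (g⁻¹ * n * g) * g⁻¹ = n by group] at h1
    exact Subgroup.map_subtype_le _ h1
  let M : AddSubgroup ↥leechLattice :=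
    { carrier := {v | ∀ n ∈ N, IsDbl (n • v - v)}
      zero_mem' := fun n _ => by rw [smul_zero', sub_self]; exact isDbl_zero
      add_mem' := fun {a b} ha hb n hn => by
        rw [smul_add']; convert (ha n hn).add (hb n hn) using 1; abel
      neg_mem' := fun {a} ha n hn => by
        rw [smul_neg']; convert (ha n hn).neg using 1; abel }
  have hM := irreducible (M := M) (fun v hv n _ => (hv.smul n).sub hv) fun g v hv n hn => by
    have h := (hv (g⁻¹ * n * g) (by simpa using hN.conj_mem n hn g⁻¹)).smul g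
    rwa [smul_sub', mul_smul, mul_smul, smul_inv_smul] at h
  rcases hM with hM | hM
  · exfalso
    have h8 : IsDbl v8 := hM v8 fun n hn => mem_crossStab_iff_dbl.1 (hle hn)
    rw [isDbl_iff_key] at h8
    have h0 := sqNorm_eq_of_key v8.2 (zero_mem leechLattice) (le_of_eq (sqNorm_eight none))
      (by rw [sqNorm_zero]; norm_num) (by rw [h8, key_zero])
    rw [sqNorm_zero] at h0
    exact absurd ((sqNorm_eight none).symm.trans h0) (by norm_num)
  · intro n hn
    exact trivial_mod_two fun v => (hM ▸ AddSubgroup.mem_top v : v ∈ M) n hn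

/-- the group modulo its centre is simple -/
theorem isSimpleGroup_Co1 : IsSimpleGroup (↥Co0 ⧸ Subgroup.center ↥Co0) := by
  haveI := finite_Co0
  haveI : Nontrivial (↥Co0 ⧸ Subgroup.center ↥Co0) := by
    rw [← Finite.one_lt_card_iff_nontrivial]
    have h := Subgroup.card_eq_card_quotient_mul_card_subgroup (Subgroup.center ↥Co0)
    rw [natCard_Co0, natCard_center] at h
    omega
  refine ⟨fun K hK => ?_⟩
  set π := QuotientGroup.mk' (Subgroup.center ↥Co0) with hπ
  have hmap : (K.comap π).map π = K := Subgroup.map_comap_eq_self_of_surjective (QuotientGroup.mk'_surjective _) K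
  by_cases hs : seed ∈ K.comap π
  · refine Or.inr ?_
    rw [← hmap, eq_top_of_seed_mem hs, Subgroup.map_top_of_surjective _ (QuotientGroup.mk'_surjective _)]
  · refine Or.inl ?_
    have h2 : IsPGroup 2 (K.comap π) := isPGroup_two_of_card fun p hp hp2 hd => by
      let N' : Subgroup ↥(⊤ : Subgroup ↥Co0) := (K.comap π).subgroupOf ⊤
      haveI : N'.Normal := Subgroup.Normal.subgroupOf inferInstance ⊤
      exact two_group_of_seed_notMem (S := ⊤) (Subgroup.mem_top seed) (N := N') hs p hp hp2
        (by rwa [Nat.card_congr (Subgroup.subgroupOfEquivOfLe (le_top (a := K.comap π))).toEquiv])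
    rw [← hmap, eq_bot_iff, Subgroup.map_le_iff_le_comap]
    intro n hn
    rw [Subgroup.mem_comap, Subgroup.mem_bot, hπ, QuotientGroup.mk'_apply, QuotientGroup.eq_one_iff]
    exact two_le_center h2 hn

theorem isCo1_quotient : IsCo1 (↥Co0 ⧸ Subgroup.center ↥Co0) := by
  refine ⟨isSimpleGroup_Co1, ?_⟩
  have h := Subgroup.card_eq_card_quotient_mul_card_subgroup (Subgroup.center ↥Co0)
  rw [natCard_Co0, natCard_center] at h
  omega

theorem nonsplit_negation (K : Subgroup ↥Co0) : ¬ (Subgroup.zpowers negAut).IsComplement' K := by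
  intro h
  haveI := finite_Co0
  have hidx : K.index = 2 := by
    have hsq : negAut ^ 2 = (1 : ↥Co0) :=
      aut_ext fun v => by rw [sq, mul_smul, negAut_smul, negAut_smul, neg_neg, one_smul]
    have hz : Nat.card (Subgroup.zpowers negAut) = 2 := by
      rw [Nat.card_zpowers, orderOf_eq_prime hsq negAut_ne_one]
    rw [← hz]; exact h.index_eq_card
  haveI := Subgroup.normal_of_index_eq_two hidx
  have hs : seed ∈ K := by
    have := Subgroup.sq_mem_of_index_two hidx (seed ^ 12)
    rw [← pow_mul, show 12 * 2 = 23 + 1 from rfl, pow_succ, ← orderOf_seed, pow_orderOf_eq_one,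
      one_mul] at this
    exact this
  have hK := eq_top_of_seed_mem hs
  rw [hK, Subgroup.index_top] at hidx
  omega

end CfsgLib.Leech
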