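import Cfsg.Agent.Lib.Leech.Aut
import Cfsg.Agent.Lib.Leech.MinData

/-!
The lattice is generated by its vectors of norm 32.
-/

set_option autoImplicit false
set_option maxRecDepth 10000

namespace CfsgLib.Leech

open Cfsg CfsgLib.Golay

/-- entrywise sum of rows of length 24 -/
def sumRows : List (List ℤ) → List ℤ
  | [] => List.replicate 24 0
  | l :: ls => List.zipWith (· + ·) l (sumRows ls)

/-- the check for one basis vector -/
def minOK (b : List ℤ) (L : List (List ℤ)) : Bool :=
  L.all (fun v => inL v && (dotL v v == 32)) && (sumRows L == b)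

theorem min_all : ∀ j : Fin 24, minOK (bL.getD j.val []) (minL.getD j.val []) = true := by
  decide +kernel

theorem sumRows_spec : ∀ (L : List (List ℤ)), (∀ l ∈ L, l.length = 24) →
    (sumRows L).length = 24 ∧ vec (sumRows L) = (L.map vec).sum := by
  intro L
  induction L with
  | nil =>
    intro _
    refine ⟨List.length_replicate .., funext fun p => ?_⟩
    simp only [sumRows, vec, List.map_nil, List.sum_nil, Pi.zero_apply]
    rw [List.getD_eq_getElem?_getD, List.getElem?_replicate]
    split <;> rfl
  | cons l ls ih =>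
    intro h
    simp only [List.mem_cons, forall_eq_or_imp] at h
    obtain ⟨h1, h2⟩ := ih h.2
    refine ⟨by simp [sumRows, h.1, h1], funext fun p => ?_⟩
    rw [List.map_cons, List.sum_cons, Pi.add_apply, ← h2]
    simp only [sumRows, vec]
    rw [List.getD_eq_getElem?_getD, List.getD_eq_getElem?_getD, List.getD_eq_getElem?_getD,
      List.getElem?_zipWith, List.getElem?_eq_getElem (h.1 ▸ idx_lt p),
      List.getElem?_eq_getElem (h1 ▸ idx_lt p)]
    simp

theorem bV_mem_closure (j : Fin 24) :
    bV j ∈ AddSubgroup.closure {x : GolayPt → ℤ | x ∈ leechLattice ∧ sqNorm x = 32} := by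
  have h := min_all j
  simp only [minOK, Bool.and_eq_true, List.all_eq_true, beq_iff_eq] at h
  rw [bV, ← h.2, (sumRows_spec _ fun l hl => inL_length (h.1 l hl).1).2]
  refine AddSubgroup.list_sum_mem _ ?_
  intro x hx
  obtain ⟨l, hl, rfl⟩ := List.mem_map.1 hx
  refine AddSubgroup.subset_closure ⟨vec_mem (h.1 l hl).1, ?_⟩
  rw [sqNorm_vec (inL_length (h.1 l hl).1), (h.1 l hl).2]

theorem generated_min :
    AddSubgroup.closure {x : GolayPt → ℤ | x ∈ leechLattice ∧ sqNorm x = 32} = leechLattice := by
  refine le_antisymm ((AddSubgroup.closure_le _).2 fun x hx => hx.1) fun x hx => ?_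
  rw [← recon hx, bList_eq, linL_ofFn]
  exact sum_mem fun j _ => zsmul_mem (bV_mem_closure j) _

end CfsgLib.Leech
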