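import Cfsg.Agent.Lib.Leech.QuadForm
import Cfsg.Agent.Lib.Leech.MinGen

/-!
The lattice modulo two as a module: faithfulness modulo the centre, irreducibility, the form.
-/

set_option autoImplicit false
set_option maxRecDepth 10000

namespace CfsgLib.Leech

open Cfsg CfsgLib.Golay
open scoped Pointwise

attribute [local irreducible] dL bL key keyL coord packB linL bits

/-- being twice a lattice vector -/
def IsDbl (v : ↥leechLattice) : Prop := ∃ w : ↥leechLattice, v = w + w

theorem isDbl_zero : IsDbl 0 := ⟨0, (add_zero 0).symm⟩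

theorem IsDbl.add {v w : ↥leechLattice} (hv : IsDbl v) (hw : IsDbl w) : IsDbl (v + w) := by
  obtain ⟨a, rfl⟩ := hv
  obtain ⟨b, rfl⟩ := hw
  exact ⟨a + b, by abel⟩

theorem IsDbl.neg {v : ↥leechLattice} (hv : IsDbl v) : IsDbl (-v) := by
  obtain ⟨a, rfl⟩ := hv
  exact ⟨-a, by abel⟩

theorem IsDbl.sub {v w : ↥leechLattice} (hv : IsDbl v) (hw : IsDbl w) : IsDbl (v - w) := by
  rw [sub_eq_add_neg]; exact hv.add hw.neg

theorem IsDbl.smul {v : ↥leechLattice} (hv : IsDbl v) (g : ↥Co0) : IsDbl (g • v) := by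
  obtain ⟨a, rfl⟩ := hv
  exact ⟨g • a, smul_add' g a a⟩

theorem isDbl_double (v : ↥leechLattice) : IsDbl (v + v) := ⟨v, rfl⟩

theorem isDbl_sub_iff (v w : ↥leechLattice) :
    IsDbl (v - w) ↔ key (v : GolayPt → ℤ) = key (w : GolayPt → ℤ) := by
  rw [key_eq_iff v.2 w.2]
  constructor
  · rintro ⟨z, hz⟩
    refine ⟨z, z.2, ?_⟩
    rw [two_nsmul, ← AddSubgroup.coe_sub, hz, AddSubgroup.coe_add]
  · rintro ⟨z, hz, he⟩
    exact ⟨⟨z, hz⟩, Subtype.ext (by rw [AddSubgroup.coe_sub, he, AddSubgroup.coe_add, two_nsmul])⟩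

theorem isDbl_iff_key (v : ↥leechLattice) : IsDbl v ↔ key (v : GolayPt → ℤ) = 0 := by
  have h := isDbl_sub_iff v 0
  rw [sub_zero, AddSubgroup.coe_zero, key_zero] at h
  exact h

/-! ### The bilinear form modulo two -/

/-- scalar product divided by eight, modulo two -/
def bil (v w : ↥leechLattice) : ZMod 2 :=
  ((dotInt (v : GolayPt → ℤ) (w : GolayPt → ℤ) / 8 : ℤ) : ZMod 2)

theorem bil_comm (v w : ↥leechLattice) : bil v w = bil w v := by rw [bil, bil, dotInt_comm]

theorem bil_add_left (u v w : ↥leechLattice) : bil (u + v) w = bil u w + bil v w := by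
  simp only [bil, AddSubgroup.coe_add, dotInt_add_left']
  rw [Int.add_ediv_of_dvd_left (dotInt_dvd u.2 w.2), Int.cast_add]

theorem bil_add_right (u v w : ↥leechLattice) : bil u (v + w) = bil u v + bil u w := by
  rw [bil_comm, bil_add_left, bil_comm v, bil_comm w]

theorem bil_zero_left (w : ↥leechLattice) : bil 0 w = 0 := by
  simp [bil, dotInt_zero_left]

theorem bil_neg_left (v w : ↥leechLattice) : bil (-v) w = bil v w := by
  have h := bil_add_left v (-v) w
  rw [add_neg_cancel, bil_zero_left] at h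
  exact (CharTwo.add_eq_zero.1 h.symm).symm

theorem bil_sub_left (u v w : ↥leechLattice) : bil (u - v) w = bil u w + bil v w := by
  rw [sub_eq_add_neg, bil_add_left, bil_neg_left]

theorem bil_of_isDbl {v : ↥leechLattice} (hv : IsDbl v) (w : ↥leechLattice) : bil v w = 0 := by
  obtain ⟨a, rfl⟩ := hv
  rw [bil_add_left, CharTwo.add_self_eq_zero]

theorem bil_congr {v v' : ↥leechLattice} (h : IsDbl (v - v')) (w : ↥leechLattice) :
    bil v w = bil v' w := by
  have := bil_of_isDbl h w
  rw [bil_sub_left] at this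
  exact CharTwo.add_eq_zero.1 this

theorem bil_smul (g : ↥Co0) (v w : ↥leechLattice) : bil (g • v) (g • w) = bil v w := by
  rw [bil, bil, dotInt_smul]

/-- squared length divided by sixteen, modulo two -/
def qf (v : ↥leechLattice) : ZMod 2 := ((sqNorm (v : GolayPt → ℤ) / 16 : ℤ) : ZMod 2)

theorem qf_add (v w : ↥leechLattice) : qf (v + w) = qf v + qf w + bil v w := by
  simp only [qf, bil, AddSubgroup.coe_add, sqNorm_add, ← Int.cast_add]
  congr 1
  have := sqNorm_even v.2
  have := sqNorm_even w.2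
  have := dotInt_dvd v.2 w.2
  omega

theorem qf_of_isDbl {v : ↥leechLattice} (hv : IsDbl v) : qf v = 0 := by
  obtain ⟨a, rfl⟩ := hv
  rw [qf_add, bil]
  have : dotInt (a : GolayPt → ℤ) (a : GolayPt → ℤ) / 8 % 2 = 0 := by
    rw [← sqNorm_eq_dotInt]
    have := sqNorm_even a.2
    omega
  rw [← ZMod.intCast_mod _ 2, show ((2 : ℕ) : ℤ) = 2 from rfl, this, CharTwo.add_self_eq_zero]
  simp

theorem qf_congr {v w : ↥leechLattice} (h : IsDbl (v - w)) : qf v = qf w := by
  have e := qf_add (v - w) w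
  rw [sub_add_cancel, qf_of_isDbl h, bil_of_isDbl h] at e
  simpa using e

theorem qf_smul (g : ↥Co0) (v : ↥leechLattice) : qf (g • v) = qf v := by rw [qf, qf, sqNorm_smul]

/-! ### Elements acting trivially -/

/-- the pair vector `4 p + 4 q` -/
def pairV (p q : GolayPt) : GolayPt → ℤ := fun i => (if i = p then 4 else 0) + (if i = q then 4 else 0)

theorem pairV_mem (p q : GolayPt) : pairV p q ∈ leechLattice := by
  refine mem_iff.2 ⟨0, ∅, empty_mem_CS, fun i => (if i = p then 1 else 0) + (if i = q then 1 else 0), ?_, ?_⟩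
  · simp [Finset.sum_add_distrib]
  · funext i
    simp only [pairV, mk, ind, Finset.notMem_empty, if_false]
    split <;> split <;> simp

theorem sqNorm_pairV {p q : GolayPt} (h : p ≠ q) : sqNorm (pairV p q) = 32 := by
  have e : ∀ i, pairV p q i ^ 2 = (if i = p then 16 else 0) + (if i = q then 16 else 0) := by
    intro i
    simp only [pairV]
    by_cases h1 : i = p
    · subst h1; simp [h]
    · by_cases h2 : i = q <;> simp [h1, h2, Ne.symm h]
  simp only [sqNorm, e, Finset.sum_add_distrib, Finset.sum_ite_eq', Finset.mem_univ, if_true]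
  norm_num

theorem exists_octad_of_ne {p q : GolayPt} (h : p ≠ q) :
    ∃ o ∈ CS, o.card = 8 ∧ p ∈ o ∧ q ∈ o := by
  obtain ⟨g, hg, h1, h2⟩ := exists_map_pair h
  refine ⟨g • dec oct0, smul_mem_supports hg oct0_mem.1, ?_, ?_, ?_⟩
  · rw [Finset.card_smul_finset]; exact oct0_mem.2
  · rw [← h1]
    exact Finset.smul_mem_smul_finset (a := g) (by rw [mem_dec]; decide +kernel)
  · rw [← h2]
    exact Finset.smul_mem_smul_finset (a := g) (by rw [mem_dec]; decide +kernel)

theorem trivial_mod_two {g : ↥Co0} (h : ∀ v : ↥leechLattice, IsDbl (g • v - v)) :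
    g ∈ Subgroup.center ↥Co0 := by
  have hk : ∀ v : ↥leechLattice,
      key ((g • v : ↥leechLattice) : GolayPt → ℤ) = key (v : GolayPt → ℤ) :=
    fun v => (isDbl_sub_iff _ _).1 (h v)
  have hstab : g ∈ crossStab := by
    rw [mem_crossStab, mainK_three none]
    exact (act_key g (eightL none)).trans (hk _)
  obtain ⟨σ, d, hσ, hd, rfl⟩ := crossStab_eq_mono hstab
  have hmin : ∀ v : ↥leechLattice, sqNorm (v : GolayPt → ℤ) = 32 →
      monoFun σ d (v : GolayPt → ℤ) = (v : GolayPt → ℤ) ∨
        monoFun σ d (v : GolayPt → ℤ) = -(v : GolayPt → ℤ) := by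
    intro v hv
    have hn := sqNorm_smul (mono hσ hd) v
    rcases eq_or_neg_of_key (v := v) (w := mono hσ hd • v) (by omega) (by omega) (hk v).symm
      with e | e
    · exact Or.inl (congrArg Subtype.val e)
    · exact Or.inr (congrArg Subtype.val e)
  have hσ1 : σ = 1 := by
    refine Equiv.ext fun q => ?_
    by_contra hne
    rw [Equiv.Perm.one_apply] at hne
    obtain ⟨r, hr⟩ := Finset.exists_mem_notMem_of_card_lt_card
      (s := ({q, σ q} : Finset GolayPt)) (t := Finset.univ)
      (lt_of_le_of_lt Finset.card_le_two (by simp))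
    simp only [Finset.mem_insert, Finset.mem_singleton, not_or] at hr
    have := hmin ⟨pairV (σ q) r, pairV_mem _ _⟩ (sqNorm_pairV (Ne.symm hr.2.2))
    rcases this with e | e <;> have e' := congrFun e q <;>
      simp only [monoFun, pairV, Pi.neg_apply, if_neg (Ne.symm hne), if_true,
        if_neg (Ne.symm hr.2.1), if_neg (Ne.symm hr.2.2)] at e' <;> split at e' <;> omega
  subst hσ1
  have hall : ∀ p q, p ∈ d → q ∈ d := by
    intro p q hp
    by_contra hq
    obtain ⟨o, ho, hcard, hpo, hqo⟩ := exists_octad_of_ne (p := p) (q := q) fun e => hq (e ▸ hp)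
    have hn : sqNorm (fun i => 2 * ind o i) = 32 := by
      have e : ∀ i, (2 * ind o i) ^ 2 = 4 * ind o i := by intro i; simp only [ind]; split <;> norm_num
      simp only [sqNorm, e, ← Finset.mul_sum, sum_ind, hcard]
      norm_num
    rcases hmin ⟨_, indicator_mem ho⟩ hn with e | e
    · have := congrFun e p; simp [monoFun, hp, ind, hpo] at this
    · have := congrFun e q; simp [monoFun, hq, ind, hqo] at this
  rw [← SetLike.mem_coe, center_eq]
  rcases d.eq_empty_or_nonempty with hd0 | ⟨p, hp⟩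
  · subst hd0
    refine Or.inl (aut_ext fun v => Subtype.ext ?_)
    rw [one_smul, mono, Iso.aut_smul]
    funext i; simp [monoIso, monoFun]
  · obtain rfl : d = Finset.univ := Finset.eq_univ_of_forall fun q => hall p q hp
    exact Or.inr rfl

/-! ### Irreducibility -/

theorem trans_class {t : ℕ} (ht : t < 4) {v w : ↥leechLattice}
    (hv : sqNorm (v : GolayPt → ℤ) = typeNorm t) (hw : sqNorm (w : GolayPt → ℤ) = typeNorm t) :
    ∃ g : ↥Co0, g • v = w := by
  by_cases h3 : t = 3
  · subst h3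
    exact transitive_64 hv hw
  · exact transitive_small (show t < 3 by omega) hv hw

theorem exists_congr_norm (v : ↥leechLattice) : ∃ (t : ℕ) (w : ↥leechLattice), t < 4 ∧
    sqNorm (w : GolayPt → ℤ) = typeNorm t ∧ IsDbl (v - w) := by
  obtain ⟨t, ht, hT⟩ := exists_typ v
  obtain ⟨w, hw, hk⟩ := hT.exists_vec ht
  exact ⟨t, w, ht, hw, (isDbl_sub_iff v w).2 hk.symm⟩

/-- a short vector disjoint from the first test vector -/
def testW : ↥leechLattice :=
  ⟨vec [0, 0, -4, 0, 4, 0, 0, 0, 0, 0, 0, 0, 0, 0, 0, 0, 0, 0, 0, 0, 0, 0, 0, 0],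
    vec_mem (by decide +kernel)⟩

theorem testW_norms : sqNorm ((testV 0 + testW : ↥leechLattice) : GolayPt → ℤ) = 64 ∧
    sqNorm ((testV 2 - testW : ↥leechLattice) : GolayPt → ℤ) = 32 ∧
    sqNorm ((testV 0 + testV 2 : ↥leechLattice) : GolayPt → ℤ) = 64 ∧
    sqNorm ((testV 3 - testV 0 : ↥leechLattice) : GolayPt → ℤ) = 48 ∧
    sqNorm ((testV 3 - testV 1 : ↥leechLattice) : GolayPt → ℤ) = 48 ∧
    sqNorm ((testV 0 + testV 1 : ↥leechLattice) : GolayPt → ℤ) = 32 := by
  decide +kernel

theorem irreducible {M : AddSubgroup ↥leechLattice} (hdbl : ∀ v, IsDbl v → v ∈ M)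
    (hinv : ∀ (g : ↥Co0), ∀ v ∈ M, g • v ∈ M) : (∀ v ∈ M, IsDbl v) ∨ M = ⊤ := by
  by_cases h : ∀ v ∈ M, IsDbl v
  · exact Or.inl h
  refine Or.inr ?_
  push Not at h
  obtain ⟨x, hx, hxd⟩ := h
  obtain ⟨t, w, ht, hw, hwx⟩ := exists_congr_norm x
  have hwM : w ∈ M := by simpa using M.sub_mem hx (hdbl _ hwx)
  have hallt : ∀ y : ↥leechLattice, sqNorm (y : GolayPt → ℤ) = typeNorm t → y ∈ M := fun y hy => by
    obtain ⟨g, rfl⟩ := trans_class ht hw hy
    exact hinv g w hwM
  obtain ⟨n1, n2, n3, n4, n5, n6⟩ := testW_norms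
  obtain ⟨m, hm, hmn⟩ : ∃ m ∈ M, sqNorm (m : GolayPt → ℤ) = 32 := by
    interval_cases t
    · exfalso
      refine hxd ?_
      have : w = 0 := by
        by_contra hne
        have := min_norm w.2 fun e => hne (Subtype.ext e)
        rw [hw] at this
        simp [typeNorm] at this
      simpa [this] using hwx
    · exact ⟨w, hwM, hw⟩
    · refine ⟨testV 0 + testV 1, ?_, n6⟩
      have h2 := M.sub_mem (M.sub_mem (hdbl _ (isDbl_double (testV 3))) (hallt _ n4)) (hallt _ n5)
      convert h2 using 1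
      abel
    · refine ⟨testV 2 - testW, ?_, n2⟩
      have h3 := M.sub_mem (hallt _ n3) (hallt _ n1)
      convert h3 using 1
      abel
  rw [eq_top_iff]
  intro v _
  have hv : (v : GolayPt → ℤ) ∈ M.map leechLattice.subtype := by
    have hmem : (v : GolayPt → ℤ) ∈
        AddSubgroup.closure {y : GolayPt → ℤ | y ∈ leechLattice ∧ sqNorm y = 32} := by
      rw [generated_min]; exact v.2
    refine (AddSubgroup.closure_le _).2 ?_ hmem
    rintro y ⟨hy, hyn⟩
    obtain ⟨g, hg⟩ := trans_class (t := 1) (by norm_num) (v := m) (w := ⟨y, hy⟩) hmn hyn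
    exact ⟨g • m, hinv g m hm, congrArg Subtype.val hg⟩
  obtain ⟨v', hv', he⟩ := hv
  rwa [← show v' = v from Subtype.ext he]

end CfsgLib.Leech
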