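import Cfsg.Agent.Lib.Leech.StabSimple
import Cfsg.Agent.Lib.Leech.ModTwo

/-!
An element of order eleven and simplicity criterion for stabilizers of pairs of vectors.
-/

set_option autoImplicit false
set_option maxRecDepth 10000

namespace CfsgLib.Leech

open Cfsg CfsgLib.Golay

attribute [local irreducible] dL bL key keyL coord packB linL

instance fact_prime_11 : Fact (Nat.Prime 11) := ⟨by norm_num⟩

/-- doubling of the finite points -/
noncomputable def dblσ : Equiv.Perm GolayPt := toPerm elt22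

theorem elt22_ok : inM24 elt22 = true ∧ fixes elt22 F22 = true ∧ validP elt22 = true := by
  decide +kernel

theorem dblσ_mem : dblσ ∈ fixH M24 F22 := toPerm_mem_fix24 elt22_ok.1 elt22_ok.2.1

theorem dblσ_mem_M24 : dblσ ∈ M24 := (mem_fix22_iff.1 dblσ_mem).1

theorem dblσ_some (a : ZMod 23) : dblσ (some a) = some (2 * a) := by
  rw [dblσ, toPerm_apply elt22_ok.2.2]
  revert a; decide +kernel

theorem dblσ_none : dblσ none = none := by
  rw [dblσ, toPerm_apply elt22_ok.2.2]; decide +kernel

theorem dblσ_selfCent : CfsgLib.SelfCent.IsSelfCent 11 (⟨dblσ, dblσ_mem⟩ : fixH M24 F22) :=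
  (selfCent_of_conjOK (p := 11) (reps := [0, 1, 5, 23]) (dom := dom22) (inv := [])
    (by norm_num) le_rfl (by simp) dblσ_mem (by decide +kernel) (by decide +kernel) (by decide +kernel)
    (by decide +kernel)).1

/-- the squares -/
def qPts : Finset GolayPt := (Finset.range 11).image fun k => some ((2 : ZMod 23) ^ k)

/-- the other finite nonzero points -/
def nPts : Finset GolayPt := (Finset.range 11).image fun k => some (5 * (2 : ZMod 23) ^ k)

/-- the vectors constant on the four orbits -/
def four (a b c d : ℤ) (i : GolayPt) : ℤ :=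
  (if i = none then a else 0) + (if i = some 0 then b else 0) + (if i ∈ qPts then c else 0) +
    (if i ∈ nPts then d else 0)

theorem four_values (a b c d : ℤ) : four a b c d none = a ∧ four a b c d (some 0) = b ∧
    (∀ i ∈ qPts, four a b c d i = c) ∧ (∀ i ∈ nPts, four a b c d i = d) := by
  have h : none ∉ qPts ∧ none ∉ nPts ∧ some 0 ∉ qPts ∧ some 0 ∉ nPts ∧
      ∀ i ∈ qPts, i ∉ nPts := by decide +kernel
  obtain ⟨h1, h2, h3, h4, h5⟩ := h
  refine ⟨by simp [four, h1, h2], by simp [four, h3, h4], fun i hi => ?_, fun i hi => ?_⟩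
  · have e1 : i ≠ none := fun e => h1 (e ▸ hi)
    have e2 : i ≠ some 0 := fun e => h3 (e ▸ hi)
    simp [four, e1, e2, hi, h5 i hi]
  · have e1 : i ≠ none := fun e => h2 (e ▸ hi)
    have e2 : i ≠ some 0 := fun e => h4 (e ▸ hi)
    have e3 : i ∉ qPts := fun e => h5 i e hi
    simp [four, e1, e2, e3, hi]

theorem four_cases (i : GolayPt) : i = none ∨ i = some 0 ∨ i ∈ qPts ∨ i ∈ nPts := by
  revert i; decide +kernel

theorem dotInt_four (a b c d a' b' c' d' : ℤ) :
    dotInt (four a b c d) (four a' b' c' d') = a * a' + b * b' + 11 * (c * c') + 11 * (d * d') := by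
  have he : ∀ i, four a b c d i * four a' b' c' d' i =
      four (a * a') (b * b') (c * c') (d * d') i := by
    intro i
    obtain ⟨h1, h2, h3, h4⟩ := four_values a b c d
    obtain ⟨g1, g2, g3, g4⟩ := four_values a' b' c' d'
    obtain ⟨k1, k2, k3, k4⟩ := four_values (a * a') (b * b') (c * c') (d * d')
    rcases four_cases i with rfl | rfl | hi | hi
    · rw [h1, g1, k1]
    · rw [h2, g2, k2]
    · rw [h3 i hi, g3 i hi, k3 i hi]
    · rw [h4 i hi, g4 i hi, k4 i hi]
  have hc : qPts.card = 11 ∧ nPts.card = 11 := by decide +kernel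
  rw [dotInt, Finset.sum_congr rfl fun i _ => he i]
  show ∑ i, four (a * a') (b * b') (c * c') (d * d') i = _
  simp only [four, Finset.sum_add_distrib, Finset.sum_ite_eq', Finset.mem_univ, if_true,
    Finset.sum_ite_mem, Finset.univ_inter, Finset.sum_const, hc.1, hc.2]
  simp

/-- the seed of order eleven -/
noncomputable def seed11 : ↥Co0 := mono dblσ_mem_M24 empty_mem_CS

theorem four_of_fixed {v : ↥leechLattice} (h : seed11 • v = v) :
    ∃ a b c d, (v : GolayPt → ℤ) = four a b c d := by
  have h1 : ∀ i, (v : GolayPt → ℤ) (dblσ i) = (v : GolayPt → ℤ) i := fun i => by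
    have := congrFun (congrArg Subtype.val h) i
    rwa [seed11, mono_apply, if_neg (Finset.notMem_empty _)] at this
  have hk : ∀ (k : ℕ) (a : ZMod 23),
      (v : GolayPt → ℤ) (some (a * 2 ^ k)) = (v : GolayPt → ℤ) (some a) := by
    intro k
    induction k with
    | zero => intro a; rw [pow_zero, mul_one]
    | succ k ih =>
      intro a
      rw [pow_succ, ← mul_assoc, mul_comm _ (2 : ZMod 23), ← dblσ_some, h1, ih]
  refine ⟨(v : GolayPt → ℤ) none, (v : GolayPt → ℤ) (some 0), (v : GolayPt → ℤ) (some 1),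
    (v : GolayPt → ℤ) (some 5), funext fun i => ?_⟩
  obtain ⟨g1, g2, g3, g4⟩ := four_values ((v : GolayPt → ℤ) none) ((v : GolayPt → ℤ) (some 0))
    ((v : GolayPt → ℤ) (some 1)) ((v : GolayPt → ℤ) (some 5))
  rcases four_cases i with rfl | rfl | hi | hi
  · rw [g1]
  · rw [g2]
  · rw [g3 i hi]
    simp only [qPts, Finset.mem_image] at hi
    obtain ⟨k, -, rfl⟩ := hi
    simpa using hk k 1
  · rw [g4 i hi]
    simp only [nPts, Finset.mem_image] at hi
    obtain ⟨k, -, rfl⟩ := hi
    exact hk k 5

theorem seed11_fix {v : ↥leechLattice} {a b c d : ℤ} (h : (v : GolayPt → ℤ) = four a b c d) :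
    seed11 • v = v := by
  refine Subtype.ext (funext fun i => ?_)
  rw [seed11, mono_apply, if_neg (Finset.notMem_empty _), h]
  obtain ⟨g1, g2, g3, g4⟩ := four_values a b c d
  have hstab : dblσ (some 0) = some 0 ∧ (∀ i ∈ qPts, dblσ i ∈ qPts) ∧ ∀ i ∈ nPts, dblσ i ∈ nPts := by
    refine ⟨by rw [dblσ_some, mul_zero], ?_, ?_⟩ <;>
    · intro i hi
      revert hi
      cases i with
      | none => rw [dblσ_none]; exact id
      | some a => rw [dblσ_some]; revert a; decide +kernel
  rcases four_cases i with rfl | rfl | hi | hi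
  · rw [dblσ_none]
  · rw [hstab.1]
  · rw [g3 i hi, g3 _ (hstab.2.1 i hi)]
  · rw [g4 i hi, g4 _ (hstab.2.2 i hi)]

/-- the copy of the stabilizer of two points -/
noncomputable def m22Map : ↥(fixH M24 F22) →* ↥Co0 := m24Hom.comp (Subgroup.inclusion inf_le_left)

theorem m22Map_seed : m22Map ⟨dblσ, dblσ_mem⟩⁻¹ = seed11 := m24Hom_inv dblσ_mem_M24

theorem m22Map_injective : Function.Injective m22Map := by
  intro g h e
  have := perm_unique (show mono (inv_mem (mem_fix22_iff.1 g.2).1) empty_mem_CS =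
    mono (inv_mem (mem_fix22_iff.1 h.2).1) empty_mem_CS from e)
  exact Subtype.ext (inv_injective this)

theorem seed11_mem_range : seed11 ∈ m22Map.range := ⟨_, m22Map_seed⟩

theorem orderOf_seed11 : orderOf seed11 = 11 := by
  rw [← m22Map_seed, orderOf_injective _ m22Map_injective, orderOf_inv]
  exact dblσ_selfCent.2.1

theorem range_fix {v : ↥leechLattice} {a b c : ℤ} (h : (v : GolayPt → ℤ) = four a b c c) :
    m22Map.range ≤ MulAction.stabilizer ↥Co0 v := by
  rintro _ ⟨g, rfl⟩
  obtain ⟨hg, hn, h0⟩ := mem_fix22_iff.1 g.2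
  rw [MulAction.mem_stabilizer_iff]
  refine Subtype.ext (funext fun i => ?_)
  show ((mono (inv_mem hg) empty_mem_CS • v : ↥leechLattice) : GolayPt → ℤ) i = _
  rw [mono_apply, if_neg (Finset.notMem_empty _), h]
  set τ := (g : Equiv.Perm GolayPt)⁻¹ with hτ
  have hn' : τ none = none := by rw [hτ, Equiv.Perm.inv_eq_iff_eq]; exact hn.symm
  have h0' : τ (some 0) = some 0 := by rw [hτ, Equiv.Perm.inv_eq_iff_eq]; exact h0.symm
  obtain ⟨g1, g2, g3, g4⟩ := four_values a b c c
  have hother : ∀ j, j ≠ none → j ≠ some 0 → four a b c c j = c := fun j h1 h2 => by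
    rcases four_cases j with e | e | e | e
    exacts [absurd e h1, absurd e h2, g3 j e, g4 j e]
  by_cases e1 : i = none
  · rw [e1, hn']
  by_cases e2 : i = some 0
  · rw [e2, h0']
  rw [hother i e1 e2, hother _ (fun e => e1 (τ.injective (e.trans hn'.symm)))
    (fun e => e2 (τ.injective (e.trans h0'.symm)))]

/-- an automorphism fixing the two axes and a positive vector comes from the point stabilizer -/
theorem mem_range_of_fix {y : ↥Co0} (h8 : y • eightL none = eightL none)
    (h0 : y • eightL (some 0) = eightL (some 0)) {v : ↥leechLattice} {a : ℤ}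
    (hv : (v : GolayPt → ℤ) = four a 1 1 1) (hy : y • v = v) : y ∈ m22Map.range := by
  have hc : y ∈ crossStab := by
    rw [mem_crossStab_iff_dbl, show v8 = eightL none from rfl, h8, sub_self]; exact isDbl_zero
  obtain ⟨τ, d, hτ, hd, rfl⟩ := crossStab_eq_mono hc
  have hfix : ∀ p, mono hτ hd • eightL p = eightL p → τ p = p ∧ p ∉ d := by
    intro p hp
    have h1 : τ p = p := by rw [← mono_smul_eight hτ hd p p, hp]; simp [eightL, eight]
    refine ⟨h1, fun hpd => ?_⟩
    have := congrFun (congrArg Subtype.val hp) p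
    rw [mono_apply, if_pos hpd, h1] at this
    simp [eightL, eight] at this
  obtain ⟨hn, hnd⟩ := hfix none h8
  obtain ⟨hz, hzd⟩ := hfix (some 0) h0
  obtain ⟨g1, g2, g3, g4⟩ := four_values a 1 1 1
  have hone : ∀ j, j ≠ none → four a 1 1 1 j = 1 := fun j h1 => by
    rcases four_cases j with e | e | e | e
    exacts [absurd e h1, e ▸ g2, g3 j e, g4 j e]
  obtain rfl : d = ∅ := Finset.eq_empty_of_forall_notMem fun i hi => by
    have := congrFun (congrArg Subtype.val hy) i
    rw [mono_apply, if_pos hi, hv] at this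
    have e1 : i ≠ none := fun e => hnd (e ▸ hi)
    rw [hone i e1, hone _ (fun e => e1 (τ.injective (e.trans hn.symm)))] at this
    omega
  refine ⟨⟨τ⁻¹, mem_fix22_iff.2 ⟨inv_mem hτ, ?_, ?_⟩⟩, m24Hom_inv hτ⟩
  · rw [Equiv.Perm.inv_eq_iff_eq]; exact hn.symm
  · rw [Equiv.Perm.inv_eq_iff_eq]; exact hz.symm

/-- an element of order seven centralises a normal subgroup of order 243 -/
theorem centralizes_of_order_seven {G : Type*} [Group G] [Finite G] {a : G} (ha : a ^ 7 = 1)
    {N : Subgroup G} [hN : N.Normal] (hcard : Nat.card N = 243) (u : G) (hu : u ∈ N) :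
    u * a = a * u := by
  classical
  haveI : Fact (Nat.Prime 7) := ⟨by norm_num⟩
  haveI : Fact (Nat.Prime 3) := ⟨by norm_num⟩
  let F : Equiv.Perm N := (MulAut.conjNormal a : MulAut N).toEquiv
  have hpow : ∀ n : ℕ, ∀ x : N, (((F ^ n) x : N) : G) = a ^ n * x * (a ^ n)⁻¹ := by
    intro n
    induction n with
    | zero => intro x; simp
    | succ n ih =>
      intro x
      rw [pow_succ', Equiv.Perm.mul_apply,
        show ((F ((F ^ n) x) : N) : G) = a * ((F ^ n) x : N) * a⁻¹ from MulAut.conjNormal_apply a _,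
        ih, pow_succ']
      group
  have hF7 : F ^ 7 = 1 := Equiv.ext fun x => Subtype.ext (by rw [hpow, ha]; simp)
  have hFp : IsPGroup 7 (Subgroup.zpowers F) := by
    rintro ⟨_, k, rfl⟩
    refine ⟨1, Subtype.ext ?_⟩
    rw [SubgroupClass.coe_pow, pow_one, OneMemClass.coe_one]
    show (F ^ k) ^ 7 = 1
    rw [← zpow_natCast (F ^ k), ← zpow_mul, mul_comm, zpow_mul, zpow_natCast, hF7, one_zpow]
  have hmod := hFp.card_modEq_card_fixedPoints N
  let C : Subgroup N := (Subgroup.centralizer ({a} : Set G)).subgroupOf N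
  have hfix : MulAction.fixedPoints (Subgroup.zpowers F) N = (C : Set N) := by
    ext x
    have hC : x ∈ C ↔ (x : G) * a = a * x := by
      rw [Subgroup.mem_subgroupOf, Subgroup.mem_centralizer_singleton_iff]
    constructor
    · intro h
      have := congrArg Subtype.val (h ⟨F, Subgroup.mem_zpowers F⟩)
      rw [show (((⟨F, Subgroup.mem_zpowers F⟩ : Subgroup.zpowers F) • x : N) : G) = a * x * a⁻¹ from
        MulAut.conjNormal_apply a x, mul_inv_eq_iff_eq_mul] at this
      exact hC.2 this.symm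
    · intro h
      rintro ⟨_, k, rfl⟩
      show (F ^ k) x = x
      refine Equiv.Perm.zpow_apply_eq_self_of_apply_eq_self (Subtype.ext ?_) k
      rw [show ((F x : N) : G) = a * x * a⁻¹ from MulAut.conjNormal_apply a x, ← hC.1 h,
        mul_inv_cancel_right]
  rw [hfix, show Nat.card (C : Set N) = Nat.card C from rfl] at hmod
  have hdvd : Nat.card C ∣ 3 ^ 5 := by rw [show (3 : ℕ) ^ 5 = Nat.card N by rw [hcard]; norm_num]; exact Subgroup.card_subgroup_dvd_card C
  obtain ⟨b, hb, hb'⟩ := (Nat.dvd_prime_pow (by norm_num)).1 hdvd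
  have hC : C = ⊤ := by
    apply Subgroup.eq_top_of_card_eq
    rw [hb', hcard]
    rw [hb', hcard] at hmod
    interval_cases b <;> simp_all [Nat.ModEq]
  have : (⟨u, hu⟩ : N) ∈ C := hC ▸ Subgroup.mem_top _
  rwa [Subgroup.mem_subgroupOf, Subgroup.mem_centralizer_singleton_iff] at this

/-- simplicity criterion -/
theorem isSimpleGroup_of_seed11 {S : Subgroup ↥Co0} (hM : m22Map.range ≤ S)
    (hq : ¬ 11 ^ 2 ∣ Nat.card S) (hone : 1 < Nat.card S)
    (hsmall : ∀ p, p.Prime → p ∣ Nat.card S → ∀ e, p ^ e ∣ Nat.card S → p ^ e % 11 = 1 → e = 0 ∨ p ^ e = 243)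
    (hN : ∀ y ∈ S, y⁻¹ * seed11 * y ∈ Subgroup.zpowers seed11 → y ∈ m22Map.range) :
    IsSimpleGroup S := by
  haveI := finite_Co0
  haveI : Nontrivial S := by rw [← Finite.one_lt_card_iff_nontrivial]; exact hone
  haveI := isSimpleGroup_fix22
  refine ⟨fun N hN' => ?_⟩
  have hx : seed11 ∈ S := hM seed11_mem_range
  have ho : orderOf (⟨seed11, hx⟩ : S) = 11 := (Subgroup.orderOf_mk _ _).trans orderOf_seed11
  by_cases hs : (⟨seed11, hx⟩ : S) ∈ N
  · refine Or.inr ?_
    let φ : ↥(fixH M24 F22) →* S := m22Map.codRestrict S fun g => hM ⟨g, rfl⟩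
    haveI : (N.comap φ).Normal := hN'.comap φ
    have htop : N.comap φ = ⊤ := by
      refine (inferInstance : (N.comap φ).Normal).eq_bot_or_eq_top.resolve_left fun hb => ?_
      have h1 : (⟨dblσ, dblσ_mem⟩⁻¹ : fixH M24 F22) ∈ N.comap φ := by
        rw [Subgroup.mem_comap, show φ (⟨dblσ, dblσ_mem⟩⁻¹) = ⟨seed11, hx⟩ from Subtype.ext m22Map_seed]
        exact hs
      rw [hb, Subgroup.mem_bot] at h1
      have := dblσ_selfCent.2.1
      rw [← orderOf_inv, h1, orderOf_one] at this
      omega
    refine (sup_eq_left.2 ?_).symm.trans (SeedCrit.sup_normalizer ho hq hs)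
    intro y hy
    have h1 : (y : ↥Co0)⁻¹ * seed11 * y ∈ Subgroup.zpowers seed11 := by
      have := (Subgroup.mem_normalizer_iff''.1 hy _).1 (Subgroup.mem_zpowers _)
      obtain ⟨k, hk⟩ := Subgroup.mem_zpowers_iff.1 this
      refine Subgroup.mem_zpowers_iff.2 ⟨k, ?_⟩
      simpa using congrArg Subtype.val hk
    obtain ⟨g, hg⟩ := hN y y.2 h1
    have hg' : g ∈ N.comap φ := htop ▸ Subgroup.mem_top g
    rwa [Subgroup.mem_comap, show φ g = y from Subtype.ext hg] at hg'
  · refine Or.inl (Subgroup.card_eq_one.1 ?_)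
    let φ : ↥(fixH M24 F22) →* S := m22Map.codRestrict S fun g => hM ⟨g, rfl⟩
    -- no nontrivial element of order prime to eleven commutes with the seed
    have hno : ∀ y ∈ N, Commute (⟨seed11, hx⟩ : S) y → ∀ (p k : ℕ), p.Prime → p ≠ 11 →
        y ^ p ^ k = 1 → y = 1 := by
      intro y _ hc p k hp hp11 hk
      have hc' : Commute seed11 (y : ↥Co0) := congrArg Subtype.val hc.eq
      obtain ⟨g, hg⟩ := hN y y.2 (by
        rw [mul_assoc, hc'.eq, inv_mul_cancel_left]; exact Subgroup.mem_zpowers seed11)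
      set x : fixH M24 F22 := ⟨dblσ, dblσ_mem⟩ with hxdef
      have hgc : g * x = x * g := by
        have e : g * x⁻¹ = x⁻¹ * g :=
          m22Map_injective (by rw [map_mul, map_mul, hg, hxdef, m22Map_seed, hc'.eq])
        exact ((Commute.inv_right_iff (a := g) (b := x)).1 e).eq
      have hgx := CfsgLib.SelfCent.comm_mem_zpowers dblσ_selfCent hgc
      have h1 : orderOf g ∣ 11 := by
        obtain ⟨j, rfl⟩ := Subgroup.mem_zpowers_iff.1 hgx
        rw [← dblσ_selfCent.2.1]
        exact orderOf_dvd_of_mem_zpowers (Subgroup.zpow_mem_zpowers x j)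
      have h2 : orderOf g ∣ p ^ k := by
        refine orderOf_dvd_of_pow_eq_one (m22Map_injective ?_)
        rw [map_pow, map_one, hg, ← SubgroupClass.coe_pow, hk, OneMemClass.coe_one]
      have h3 : g = 1 := orderOf_eq_one_iff.1 (Nat.eq_one_of_dvd_coprimes
        ((Nat.coprime_primes (by norm_num) hp).2 (Ne.symm hp11) |>.pow_right k) h1 h2)
      rw [h3, map_one] at hg
      exact Subtype.ext hg.symm
    have hp11 : ∀ p, p ∣ Nat.card N → p ≠ 11 := by
      rintro p hd rfl
      exact hs (SeedCrit.mem_of_dvd ho hq hd)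
    -- every prime divisor is three with Sylow order 243
    have hexc : ∀ p, p.Prime → p ∣ Nat.card N →
        p = 3 ∧ 3 ^ 5 ∣ Nat.card N ∧ ¬ 3 ^ 6 ∣ Nat.card N := by
      intro p hp hd
      have hpS : p ∣ Nat.card S := hd.trans (Subgroup.card_subgroup_dvd_card N)
      by_contra hne
      obtain ⟨y, hy, hy1, hc, k, hk⟩ := SeedCrit.exists_commute' ho hq hs hp hd fun e he he' h1 => by
        refine (hsmall p hp hpS e (he.trans (Subgroup.card_subgroup_dvd_card N)) h1).resolve_right
          fun h243 => hne ?_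
        have hp3 : p = 3 := by
          have e0 : e ≠ 0 := fun e0 => by rw [e0] at h243; norm_num at h243
          exact (Nat.prime_dvd_prime_iff_eq hp (by norm_num)).1 (hp.dvd_of_dvd_pow (n := 5)
            (by rw [show (3 : ℕ) ^ 5 = p ^ e by rw [h243]; norm_num]; exact dvd_pow_self p e0))
        subst hp3
        obtain rfl : e = 5 := Nat.pow_right_injective (le_refl 2 |>.trans (by norm_num))
          (h243.trans (by norm_num : (243 : ℕ) = 3 ^ 5))
        exact ⟨rfl, he, he'⟩
      exact hy1 (hno y hy hc p k hp (hp11 p hd) hk)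
    by_contra hN1
    obtain ⟨p, hp, hd⟩ := Nat.exists_prime_and_dvd hN1
    obtain ⟨-, h5, h6⟩ := hexc p hp hd
    have hcard : Nat.card N = 243 := by
      obtain ⟨r, hr⟩ := h5
      rcases Nat.eq_one_iff_not_exists_prime_dvd.not.1 |> fun f => (em (r = 1)).imp_right f with e | e
      · rw [hr, e]; norm_num
      · push Not at e
        obtain ⟨q, hq', hqr⟩ := e
        obtain ⟨rfl, -⟩ := hexc q hq' (hr ▸ dvd_mul_of_dvd_right hqr _)
        exact absurd (hr ▸ (pow_succ (3 : ℕ) 5) ▸ mul_dvd_mul_left _ hqr) h6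
    -- an element of order seven centralises it, hence so does the seed
    let K : Subgroup ↥(fixH M24 F22) := (Subgroup.centralizer (N : Set S)).comap φ
    haveI : K.Normal := Subgroup.Normal.comap inferInstance φ
    rcases (inferInstance : K.Normal).eq_bot_or_eq_top with hK | hK
    · obtain ⟨z, hz⟩ := exists_prime_orderOf_dvd_card' (G := fixH M24 F22) 7
        (hp := ⟨by norm_num⟩) (by rw [natCard_fix22]; norm_num)
      have hzK : z ∈ K := by
        rw [Subgroup.mem_comap, Subgroup.mem_centralizer_iff]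
        intro u hu
        have hfix := centralizes_of_order_seven (a := φ z)
          (by rw [← map_pow, show z ^ 7 = 1 from hz ▸ pow_orderOf_eq_one z, map_one]) hcard u hu
        exact hfix
      rw [hK, Subgroup.mem_bot] at hzK
      rw [hzK, orderOf_one] at hz
      omega
    · obtain ⟨y, hy, hy1⟩ : ∃ y ∈ N, y ≠ 1 :=
        N.bot_or_exists_ne_one.resolve_left fun e => hN1 (by rw [e, Subgroup.card_bot])
      refine hy1 (hno y hy ?_ 3 5 (by norm_num) (by norm_num) ?_)
      · have hmem : (⟨dblσ, dblσ_mem⟩⁻¹ : fixH M24 F22) ∈ K := hK ▸ Subgroup.mem_top _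
        rw [Subgroup.mem_comap, Subgroup.mem_centralizer_iff] at hmem
        have := hmem y hy
        rw [show φ (⟨dblσ, dblσ_mem⟩⁻¹) = ⟨seed11, hx⟩ from Subtype.ext m22Map_seed] at this
        exact this.symm
      · have : (⟨y, hy⟩ : N) ^ (243 : ℕ) = 1 := hcard ▸ pow_card_eq_one'
        have h243 := congrArg Subtype.val this
        rw [SubgroupClass.coe_pow, OneMemClass.coe_one] at h243
        norm_num
        exact h243

end CfsgLib.Leech
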