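import Cfsg.Agent.Lib.Leech.Coord

/-!
Automorphisms of the lattice and their action on the classes modulo twice the lattice.
-/

set_option autoImplicit false
set_option maxRecDepth 10000
set_option maxHeartbeats 200000

namespace CfsgLib.Leech

open Cfsg CfsgLib.Golay
open scoped Pointwise

attribute [local irreducible] dL bL key keyL coord packB linL

/-- the image of a lattice vector under an automorphism, as a coordinate vector -/
def im (g : ↥Co0) (x : GolayPt → ℤ) (hx : x ∈ leechLattice) : GolayPt → ℤ :=
  ((g • (⟨x, hx⟩ : ↥leechLattice) : ↥leechLattice) : GolayPt → ℤ)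

theorem smul_add' (g : ↥Co0) (v w : ↥leechLattice) : g • (v + w) = g • v + g • w := g.2.1 v w

theorem smul_zero' (g : ↥Co0) : g • (0 : ↥leechLattice) = 0 := by
  have h := smul_add' g 0 0
  rw [add_zero] at h
  simpa using h

theorem smul_neg' (g : ↥Co0) (v : ↥leechLattice) : g • (-v) = -(g • v) := by
  have h := smul_add' g v (-v)
  rw [add_neg_cancel, smul_zero'] at h
  exact eq_neg_of_add_eq_zero_right h.symm

theorem sqNorm_smul (g : ↥Co0) (v : ↥leechLattice) :
    sqNorm ((g • v : ↥leechLattice) : GolayPt → ℤ) = sqNorm (v : GolayPt → ℤ) := g.2.2 v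

theorem dotInt_smul (g : ↥Co0) (v w : ↥leechLattice) :
    dotInt ((g • v : ↥leechLattice) : GolayPt → ℤ) ((g • w : ↥leechLattice) : GolayPt → ℤ) =
      dotInt (v : GolayPt → ℤ) (w : GolayPt → ℤ) := by
  have h := sqNorm_smul g (v + w)
  rw [smul_add', AddSubgroup.coe_add, AddSubgroup.coe_add, sqNorm_add, sqNorm_add, sqNorm_smul,
    sqNorm_smul] at h
  linarith

/-- the shells of the lattice are finite -/
theorem finite_shell (n : ℤ) : {v : ↥leechLattice | sqNorm (v : GolayPt → ℤ) = n}.Finite := by
  refine ((Set.finite_Icc (fun _ : GolayPt => -n) (fun _ => n)).preimage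
    Subtype.val_injective.injOn).subset ?_
  intro v hv
  have hb : ∀ p, ((v : GolayPt → ℤ) p) ^ 2 ≤ n := fun p => by
    rw [← hv]
    exact Finset.single_le_sum (f := fun q => (v : GolayPt → ℤ) q ^ 2) (fun q _ => sq_nonneg _)
      (Finset.mem_univ p)
  refine ⟨fun p => ?_, fun p => ?_⟩
  · have := hb p
    nlinarith [Int.le_self_sq (-((v : GolayPt → ℤ) p))]
  · have := hb p
    nlinarith [Int.le_self_sq ((v : GolayPt → ℤ) p)]

/-- a map of the lattice into itself that is additive and preserves lengths -/
structure Iso where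
  /-- the map on coordinate vectors -/
  f : (GolayPt → ℤ) → (GolayPt → ℤ)
  mem : ∀ x ∈ leechLattice, f x ∈ leechLattice
  add : ∀ x ∈ leechLattice, ∀ y ∈ leechLattice, f (x + y) = f x + f y
  norm : ∀ x ∈ leechLattice, sqNorm (f x) = sqNorm x

/-- the map induced on the lattice -/
def Iso.res (T : Iso) (v : ↥leechLattice) : ↥leechLattice := ⟨T.f v, T.mem v v.2⟩

theorem Iso.res_injective (T : Iso) : Function.Injective T.res := by
  intro v w h
  have h1 : T.f (v : GolayPt → ℤ) = T.f (w : GolayPt → ℤ) := congrArg Subtype.val h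
  have h2 := T.add _ (sub_mem v.2 w.2) _ w.2
  rw [sub_add_cancel, h1, right_eq_add] at h2
  have h3 := T.norm _ (sub_mem v.2 w.2)
  rw [h2, sqNorm_zero] at h3
  by_contra hne
  have h4 := min_norm (sub_mem v.2 w.2) (sub_ne_zero.2 fun e => hne (Subtype.ext e))
  omega

theorem Iso.res_bijective (T : Iso) : Function.Bijective T.res := by
  refine ⟨T.res_injective, fun w => ?_⟩
  haveI := (finite_shell (sqNorm (w : GolayPt → ℤ))).to_subtype
  let S := {v : ↥leechLattice | sqNorm (v : GolayPt → ℤ) = sqNorm (w : GolayPt → ℤ)}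
  let r : S → S := fun v => ⟨T.res v.1, (T.norm _ v.1.2).trans v.2⟩
  have hr : Function.Injective r := fun a b h => Subtype.ext (T.res_injective (congrArg Subtype.val h))
  obtain ⟨v, hv⟩ := (Finite.injective_iff_surjective.1 hr) ⟨w, rfl⟩
  exact ⟨v.1, congrArg Subtype.val hv⟩

/-- the automorphism of an isometry -/
noncomputable def Iso.aut (T : Iso) : ↥Co0 :=
  ⟨Equiv.ofBijective T.res T.res_bijective,
    ⟨fun v w => Subtype.ext (T.add _ v.2 _ w.2), fun v => T.norm _ v.2⟩⟩

theorem Iso.aut_smul (T : Iso) (v : ↥leechLattice) :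
    ((T.aut • v : ↥leechLattice) : GolayPt → ℤ) = T.f (v : GolayPt → ℤ) := rfl

theorem aut_ext {g h : ↥Co0} (hgh : ∀ v : ↥leechLattice, g • v = h • v) : g = h :=
  Subtype.ext (Equiv.ext hgh)

/-! ### Signed permutations -/

/-- the signed permutation map -/
def monoFun (σ : Equiv.Perm GolayPt) (d : Finset GolayPt) (x : GolayPt → ℤ) (i : GolayPt) : ℤ :=
  if i ∈ d then -x (σ i) else x (σ i)

/-- signed permutations of the code type -/
def monoIso {σ : Equiv.Perm GolayPt} {d : Finset GolayPt} (hσ : σ ∈ M24) (hd : d ∈ CS) : Iso where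
  f := monoFun σ d
  mem x hx := sign_invariant hd (perm_invariant hσ hx)
  add x _ y _ := by funext i; simp only [monoFun, Pi.add_apply]; split <;> ring
  norm x _ := by
    simp only [sqNorm]
    rw [← Equiv.sum_comp σ fun i => x i ^ 2]
    exact Finset.sum_congr rfl fun i _ => by simp only [monoFun]; split <;> ring

/-- the signed permutation automorphism -/
noncomputable def mono {σ : Equiv.Perm GolayPt} {d : Finset GolayPt} (hσ : σ ∈ M24) (hd : d ∈ CS) :
    ↥Co0 := (monoIso hσ hd).aut

/-- negation -/
noncomputable def negAut : ↥Co0 := mono (one_mem M24) univ_mem_CS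

theorem negAut_smul (v : ↥leechLattice) : negAut • v = -v := by
  apply Subtype.ext
  rw [negAut, mono, Iso.aut_smul]
  funext i
  simp [monoIso, monoFun]

/-! ### Maps given by the images of the basis -/

/-- the linear map with given images of the basis -/
def linF (W : List (List ℤ)) (x : GolayPt → ℤ) : GolayPt → ℤ := linL (List.ofFn (coord x)) (W.map vec)

/-- Gram test against one row -/
def gramRow (w b : List ℤ) : List (List ℤ) → List (List ℤ) → Bool
  | w' :: ws, b' :: bs => dotL w w' == dotL b b' && gramRow w b ws bs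
  | [], [] => true
  | _, _ => false

/-- Gram test -/
def gramOK : List (List ℤ) → List (List ℤ) → Bool
  | w :: ws, b :: bs => gramRow w b (w :: ws) (b :: bs) && gramOK ws bs
  | [], [] => true
  | _, _ => false

/-- test that images of the basis define an automorphism -/
def autOK (W : List (List ℤ)) : Bool := W.all inL && gramOK W bL

theorem gramRow_sound : ∀ (w b : List ℤ) (ws bs : List (List ℤ)), gramRow w b ws bs = true →
    List.Forall₂ (fun w' b' => dotL w w' = dotL b b') ws bs := by
  intro w b ws
  induction ws with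
  | nil => intro bs h; cases bs with
    | nil => exact List.Forall₂.nil
    | cons _ _ => simp [gramRow] at h
  | cons w' ws ih => intro bs h; cases bs with
    | nil => simp [gramRow] at h
    | cons b' bs =>
      simp only [gramRow, Bool.and_eq_true, beq_iff_eq] at h
      exact List.Forall₂.cons h.1 (ih bs h.2)

theorem dotL_comm : ∀ (a b : List ℤ), dotL a b = dotL b a := by
  intro a
  induction a with
  | nil => intro b; cases b <;> simp [dotL]
  | cons x xs ih => intro b; cases b with
    | nil => simp [dotL]
    | cons y ys => rw [dotL, dotL, ih, mul_comm]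

theorem gramOK_sound : ∀ (W B : List (List ℤ)), gramOK W B = true →
    List.Forall₂ (fun w b => List.Forall₂ (fun w' b' => dotL w w' = dotL b b') W B) W B := by
  intro W
  induction W with
  | nil => intro B h; cases B with
    | nil => exact List.Forall₂.nil
    | cons _ _ => simp [gramOK] at h
  | cons w ws ih => intro B h; cases B with
    | nil => simp [gramOK] at h
    | cons b bs =>
      simp only [gramOK, Bool.and_eq_true] at h
      have hrow := gramRow_sound _ _ _ _ h.1
      refine List.Forall₂.cons hrow ?_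
      obtain ⟨-, hrow'⟩ := List.forall₂_cons.1 hrow
      have hrec := ih bs h.2
      rw [List.forall₂_iff_get] at hrec hrow' ⊢
      obtain ⟨hlen, hrec⟩ := hrec
      obtain ⟨-, hrow'⟩ := hrow'
      refine ⟨hlen, fun i hi hi' => List.Forall₂.cons ?_ (hrec i hi hi')⟩
      rw [dotL_comm, dotL_comm _ b]
      exact hrow' i hi hi'

theorem inL_length {l : List ℤ} (h : inL l = true) : l.length = 24 := by
  simp only [inL, Bool.and_eq_true, beq_iff_eq] at h
  exact h.1.1.1

theorem bL_length {l : List ℤ} (h : l ∈ bL) : l.length = 24 :=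
  inL_length (List.all_eq_true.1 data_inL.1 l h)

/-- automorphism from images of the basis -/
def linIso {W : List (List ℤ)} (h : autOK W = true) : Iso where
  f := linF W
  mem x _ := linL_mem _ _ fun w hw => by
    obtain ⟨l, hl, rfl⟩ := List.mem_map.1 hw
    simp only [autOK, Bool.and_eq_true, List.all_eq_true] at h
    exact vec_mem (h.1 l hl)
  add x hx y hy := by
    rw [linF, linF, linF, ← linL_add]
    congr 2
    funext j
    exact coord_add hx hy j
  norm x hx := by
    simp only [autOK, Bool.and_eq_true, List.all_eq_true] at h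
    have hg := gramOK_sound _ _ h.2
    have hW : ∀ l ∈ W, l.length = 24 := fun l hl => inL_length (h.1 l hl)
    conv_rhs => rw [← recon hx]
    rw [sqNorm_eq_dotInt, sqNorm_eq_dotInt, linF, bList]
    refine dot_linL_congr _ _ _ _ _ ?_
    rw [List.forall₂_map_left_iff, List.forall₂_map_right_iff]
    rw [List.forall₂_iff_get] at hg ⊢
    obtain ⟨hlen, hg⟩ := hg
    refine ⟨hlen, fun i hi hi' => ?_⟩
    have hrow := hg i hi hi'
    rw [dotInt_comm, dotInt_comm (vec _)]
    refine dot_linL_congr _ _ _ _ _ ?_
    rw [List.forall₂_map_left_iff, List.forall₂_map_right_iff]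
    rw [List.forall₂_iff_get] at hrow ⊢
    refine ⟨hlen, fun j hj hj' => ?_⟩
    rw [dotInt_vec (hW _ (List.get_mem _ _)) (hW _ (List.get_mem _ _)),
      dotInt_vec (bL_length (List.get_mem _ _)) (bL_length (List.get_mem _ _)), dotL_comm,
      dotL_comm (bL.get ⟨j, hj'⟩)]
    exact hrow.2 j hj hj'

/-! ### The action on classes -/

/-- the action of an automorphism on classes -/
noncomputable def act (g : ↥Co0) (k : ℕ) : ℕ :=
  key ((g • (⟨vecOf k, vecOf_mem k⟩ : ↥leechLattice) : ↥leechLattice) : GolayPt → ℤ)

theorem key_smul_congr (g : ↥Co0) {v w : ↥leechLattice}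
    (h : key (v : GolayPt → ℤ) = key (w : GolayPt → ℤ)) :
    key ((g • v : ↥leechLattice) : GolayPt → ℤ) = key ((g • w : ↥leechLattice) : GolayPt → ℤ) := by
  obtain ⟨z, hz, he⟩ := (key_eq_iff v.2 w.2).1 h
  refine (key_eq_iff (Subtype.prop _) (Subtype.prop _)).2
    ⟨_, (g • (⟨z, hz⟩ : ↥leechLattice) : ↥leechLattice).2, ?_⟩
  have hv : v = w + ((⟨z, hz⟩ : ↥leechLattice) + ⟨z, hz⟩) :=
    Subtype.ext (by simp only [AddSubgroup.coe_add]; rw [← two_nsmul, ← he, add_sub_cancel])
  rw [hv, smul_add', smul_add', AddSubgroup.coe_add, AddSubgroup.coe_add, ← two_nsmul,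
    add_sub_cancel_left]

theorem act_key (g : ↥Co0) (v : ↥leechLattice) :
    act g (key (v : GolayPt → ℤ)) = key ((g • v : ↥leechLattice) : GolayPt → ℤ) :=
  key_smul_congr g (key_vecOf (key_lt _))

theorem act_lt (g : ↥Co0) (k : ℕ) : act g k < 2 ^ 24 := key_lt _

theorem act_mul (g h : ↥Co0) (k : ℕ) : act (g * h) k = act g (act h k) := by
  conv_rhs => rw [act.eq_1 h k, act_key]
  rw [act, mul_smul]

theorem act_one {k : ℕ} (hk : k < 2 ^ 24) : act 1 k = k := by
  rw [act, one_smul]
  exact key_vecOf hk

theorem act_inv_act (g : ↥Co0) {k : ℕ} (hk : k < 2 ^ 24) : act g⁻¹ (act g k) = k := by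
  rw [← act_mul, inv_mul_cancel, act_one hk]

/-- the action of a map with given images of the basis, on classes -/
theorem key_linF {W : List (List ℤ)} (hW : W.all inL = true) (hlen : W.length = 24)
    (x : GolayPt → ℤ) : key (linF W x) = comb (W.map keyL) (key x) := by
  rw [List.all_eq_true] at hW
  have hmem : ∀ w ∈ W.map vec, w ∈ leechLattice := by
    intro w hw
    obtain ⟨l, hl, rfl⟩ := List.mem_map.1 hw
    exact vec_mem (hW l hl)
  rw [linF, key_linL _ _ hmem (by rw [List.length_ofFn, List.length_map, hlen]), List.map_map,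
    List.map_ofFn]
  rw [List.map_congr_left (f := key ∘ vec) (g := keyL) fun l hl => keyL_eq (inL_length (hW l hl)), key]
  rfl

theorem act_lin {W : List (List ℤ)} (h : autOK W = true) {k : ℕ} (hk : k < 2 ^ 24) :
    act (linIso h).aut k = comb (W.map keyL) k := by
  rw [act, Iso.aut_smul]
  show key (linF W (vecOf k)) = _
  have h' := h
  simp only [autOK, Bool.and_eq_true] at h'
  have hlen : W.length = 24 := by
    rw [List.Forall₂.length_eq (gramOK_sound _ _ h'.2), data_length.1]
  rw [key_linF h'.1 hlen, key_vecOf hk]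

/-- coordinate list of the image of a coordinate list under a signed permutation -/
def monoL (Q m : ℕ) (l : List ℤ) : List ℤ :=
  (List.range 24).map fun i => if m.testBit i then -l.getD (ap Q i) 0 else l.getD (ap Q i) 0

theorem monoFun_vec {Q : ℕ} (hv : validP Q = true) (m : ℕ) (l : List ℤ) :
    monoFun (toPerm Q) (dec m) (vec l) = vec (monoL Q m l) := by
  funext p
  have hi : idx p < ((List.range 24).map fun i =>
      if m.testBit i then -l.getD (ap Q i) 0 else l.getD (ap Q i) 0).length := by
    simpa using idx_lt p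
  have hr : ((List.range 24).map fun i =>
      if m.testBit i then -l.getD (ap Q i) 0 else l.getD (ap Q i) 0).getD (idx p) 0 =
      if m.testBit (idx p) then -l.getD (ap Q (idx p)) 0 else l.getD (ap Q (idx p)) 0 := by
    rw [List.getD_eq_getElem _ _ hi, List.getElem_map, List.getElem_range]
  simp only [monoFun, mem_dec, vec, idx_toPerm hv]
  rw [monoL, hr]

theorem Iso.f_linL (T : Iso) : ∀ (zs : List ℤ) (ws : List (GolayPt → ℤ)),
    (∀ w ∈ ws, w ∈ leechLattice) → T.f (linL zs ws) = linL zs (ws.map T.f) := by
  have hz : T.f 0 = 0 := by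
    have h := T.add 0 (zero_mem _) 0 (zero_mem _)
    rw [add_zero] at h
    simpa using h
  have hsmul : ∀ (z : ℤ) (x : GolayPt → ℤ), x ∈ leechLattice → T.f (z • x) = z • T.f x := by
    intro z x hx
    induction z using Int.induction_on with
    | zero => simp [hz]
    | succ n ih => rw [add_smul, one_smul, T.add _ (zsmul_mem hx _) _ hx, ih, add_smul, one_smul]
    | pred n ih =>
      have h := T.add _ (zsmul_mem hx (-(n : ℤ) - 1)) _ hx
      rw [sub_smul, one_smul, sub_add_cancel, ih] at h
      rw [sub_smul (-(n : ℤ)) 1 (T.f x), one_smul, eq_sub_iff_add_eq, sub_smul, one_smul]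
      exact h.symm
  intro zs
  induction zs with
  | nil => intro ws _; simp [linL, hz]
  | cons z zs ih =>
    intro ws h
    cases ws with
    | nil => simp [linL, hz]
    | cons w ws =>
      simp only [List.mem_cons, forall_eq_or_imp] at h
      rw [linL, T.add _ (zsmul_mem h.1 z) _ (linL_mem zs ws h.2), hsmul z w h.1, ih ws h.2,
        List.map_cons, linL]

theorem act_mono {Q m : ℕ} (hQ : inM24 Q = true) (hm : inC m = true) {k : ℕ} (hk : k < 2 ^ 24)
    (hσ : toPerm Q ∈ M24) (hd : dec m ∈ CS) :
    act (mono hσ hd) k = comb (bL.map fun l => keyL (monoL Q m l)) k := by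
  have hv : validP Q = true := by simp only [inM24, Bool.and_eq_true] at hQ; exact hQ.1
  rw [act, mono, Iso.aut_smul]
  show key ((monoIso hσ hd).f (vecOf k)) = _
  have hmem : ∀ w ∈ (bL.map fun l => vec (monoL Q m l)), w ∈ leechLattice := by
    intro w hw
    obtain ⟨l, hl, rfl⟩ := List.mem_map.1 hw
    rw [← monoFun_vec hv]
    exact (monoIso hσ hd).mem _ (vec_mem (List.all_eq_true.1 data_inL.1 l hl))
  have hmap : bList.map (monoIso hσ hd).f = bL.map fun l => vec (monoL Q m l) := by
    rw [bList, List.map_map]
    exact List.map_congr_left fun l _ => monoFun_vec hv m l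
  have hkey := key_vecOf hk
  rw [vecOf, key_linL _ _ bList_mem (by rw [List.length_ofFn, bList, List.length_map, data_length.1]),
    key_bList] at hkey
  rw [vecOf, Iso.f_linL _ _ _ bList_mem, hmap,
    key_linL _ _ hmem (by rw [List.length_ofFn, List.length_map, data_length.1])]
  have hp : packB ((List.ofFn fun j : Fin 24 => if k.testBit j.val then (1 : ℤ) else 0).map
      fun z => decide (z % 2 = 1)) < 2 ^ 24 := by
    have := packB_lt ((List.ofFn fun j : Fin 24 => if k.testBit j.val then (1 : ℤ) else 0).map
      fun z => decide (z % 2 = 1))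
    rwa [List.length_map, List.length_ofFn] at this
  have h0 := comb_pow 24 0 (packB ((List.ofFn fun j : Fin 24 => if k.testBit j.val then (1 : ℤ) else 0).map
      fun z => decide (z % 2 = 1)))
  simp only [Nat.zero_add, pow_zero, one_mul] at h0
  rw [h0, Nat.mod_eq_of_lt hp] at hkey
  rw [hkey, List.map_map]
  exact congrArg (fun c => comb c k) (List.map_congr_left fun l _ =>
    keyL_eq (by rw [monoL, List.length_map, List.length_range]))

end CfsgLib.Leech
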