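import Cfsg.Agent.Lib.Leech.Lattice

/-!
Vectors given by coordinate lists, and linear combinations along lists.
-/

set_option autoImplicit false

namespace CfsgLib.Leech

open Cfsg CfsgLib.Golay

/-- the vector with the given list of coordinates -/
def vec (l : List ℤ) (p : GolayPt) : ℤ := l.getD (idx p) 0

/-- scalar product of coordinate lists -/
def dotL : List ℤ → List ℤ → ℤ
  | a :: as, b :: bs => a * b + dotL as bs
  | _, _ => 0

theorem dotL_eq : ∀ (n : ℕ) (l l' : List ℤ), l.length = n → l'.length = n →
    dotL l l' = ∑ i : Fin n, l.getD i.val 0 * l'.getD i.val 0 := by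
  intro n
  induction n with
  | zero => intro l l' h h'; rw [List.length_eq_zero_iff.1 h]; simp [dotL]
  | succ n ih =>
    intro l l' h h'
    obtain ⟨a, as, rfl⟩ := List.exists_cons_of_length_eq_add_one h
    obtain ⟨b, bs, rfl⟩ := List.exists_cons_of_length_eq_add_one h'
    rw [dotL, Fin.sum_univ_succ, ih as bs (by simpa using h) (by simpa using h')]
    simp

/-- positions as points -/
def idxEquiv : GolayPt ≃ Fin 24 where
  toFun p := ⟨idx p, idx_lt p⟩
  invFun i := pt i.val
  left_inv p := pt_idx p
  right_inv i := Fin.ext (idx_pt i.val i.isLt)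

theorem dotInt_vec {l l' : List ℤ} (h : l.length = 24) (h' : l'.length = 24) :
    dotInt (vec l) (vec l') = dotL l l' := by
  rw [dotL_eq 24 l l' h h', dotInt, ← idxEquiv.sum_comp]
  rfl

theorem sqNorm_eq_dotInt (x : GolayPt → ℤ) : sqNorm x = dotInt x x := by
  simp only [sqNorm, dotInt, sq]

theorem sqNorm_vec {l : List ℤ} (h : l.length = 24) : sqNorm (vec l) = dotL l l := by
  rw [sqNorm_eq_dotInt, dotInt_vec h h]

/-- the mask of the positions with a given residue modulo four -/
def resMask : List ℤ → ℤ → ℕ
  | [], _ => 0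
  | a :: as, k => (if a % 4 = k then 1 else 0) + 2 * resMask as k

theorem testBit_resMask : ∀ (l : List ℤ) (k : ℤ) (i : ℕ),
    (resMask l k).testBit i = true ↔ i < l.length ∧ l.getD i 0 % 4 = k := by
  intro l
  induction l with
  | nil => intro k i; simp [resMask]
  | cons a as ih =>
    intro k i
    cases i with
    | zero =>
      rw [resMask, Nat.testBit_zero]
      by_cases h : a % 4 = k <;> simp [h] <;> omega
    | succ i =>
      rw [resMask, Nat.testBit_succ]
      have : ((if a % 4 = k then 1 else 0) + 2 * resMask as k) / 2 = resMask as k := by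
        split <;> omega
      rw [this, ih]
      simp

/-- membership test for the lattice -/
def inL (l : List ℤ) : Bool :=
  l.length == 24 && l.all (fun a => a % 2 == l.headI % 2) && (l.sum - 4 * (l.headI % 2)) % 8 == 0 &&
    [(0 : ℤ), 1, 2, 3].all fun k => inC (resMask l k)

theorem sum_vec : ∀ (n : ℕ) (l : List ℤ), l.length = n → l.sum = ∑ i : Fin n, l.getD i.val 0 := by
  intro n
  induction n with
  | zero => intro l h; rw [List.length_eq_zero_iff.1 h]; simp
  | succ n ih =>
    intro l h
    obtain ⟨a, as, rfl⟩ := List.exists_cons_of_length_eq_add_one h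
    rw [List.sum_cons, Fin.sum_univ_succ, ih as (by simpa using h)]
    simp

theorem vec_mem {l : List ℤ} (h : inL l = true) : vec l ∈ leechLattice := by
  simp only [inL, Bool.and_eq_true, beq_iff_eq, List.all_eq_true] at h
  obtain ⟨⟨⟨hlen, hpar⟩, hsum⟩, hres⟩ := h
  refine mem_leechLattice.2 ⟨l.headI % 2, fun p => ?_, ?_, fun k => ?_⟩
  · have hlt : idx p < l.length := hlen ▸ idx_lt p
    have := hpar _ (List.getElem_mem hlt)
    simp only [vec, List.getD_eq_getElem?_getD, List.getElem?_eq_getElem hlt, Option.getD_some,
      Int.ModEq]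
    omega
  · rw [← idxEquiv.symm.sum_comp]
    have : ∑ i : Fin 24, vec l (idxEquiv.symm i) = l.sum := by
      rw [sum_vec 24 l hlen]
      refine Finset.sum_congr rfl fun i _ => ?_
      show l.getD (idx (pt i.val)) 0 = _
      rw [idx_pt i.val i.isLt]
    rw [this, Int.ModEq]
    omega
  · have hk : k % 4 ∈ [(0 : ℤ), 1, 2, 3] := by
      have h0 := Int.emod_nonneg k (by norm_num : (4 : ℤ) ≠ 0)
      have h1 := Int.emod_lt_of_pos k (by norm_num : (0 : ℤ) < 4)
      simp only [List.mem_cons, List.not_mem_nil, or_false]
      omega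
    refine ⟨wd (resMask l (k % 4)), wd_mem_of_inC (hres _ hk), ?_⟩
    rw [support_wd]
    ext p
    rw [mem_dec, testBit_resMask, hlen, Finset.mem_filter]
    simp [vec, idx_lt p, Int.ModEq]

/-- combination of a list of vectors with integer coefficients -/
def linL : List ℤ → List (GolayPt → ℤ) → (GolayPt → ℤ)
  | z :: zs, w :: ws => z • w + linL zs ws
  | _, _ => 0

theorem dotInt_smul_left (z : ℤ) (x y : GolayPt → ℤ) : dotInt (z • x) y = z * dotInt x y := by
  simp only [dotInt, Pi.smul_apply, smul_eq_mul, Finset.mul_sum, mul_assoc]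

theorem dotInt_add_left' (x y u : GolayPt → ℤ) : dotInt (x + y) u = dotInt x u + dotInt y u := by
  simp only [dotInt, Pi.add_apply, add_mul, Finset.sum_add_distrib]

theorem dotInt_zero_left (u : GolayPt → ℤ) : dotInt 0 u = 0 := by simp [dotInt]

theorem dotInt_comm (x y : GolayPt → ℤ) : dotInt x y = dotInt y x := by
  simp only [dotInt, mul_comm]

theorem linL_mem : ∀ (zs : List ℤ) (ws : List (GolayPt → ℤ)), (∀ w ∈ ws, w ∈ leechLattice) →
    linL zs ws ∈ leechLattice := by
  intro zs
  induction zs with
  | nil => intro ws _; simp [linL, leechLattice.zero_mem]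
  | cons z zs ih =>
    intro ws h
    cases ws with
    | nil => simp [linL, leechLattice.zero_mem]
    | cons w ws =>
      simp only [List.mem_cons, forall_eq_or_imp] at h
      exact add_mem (zsmul_mem h.1 z) (ih ws h.2)

theorem dot_linL_congr : ∀ (zs : List ℤ) (ws ws' : List (GolayPt → ℤ)) (y y' : GolayPt → ℤ),
    List.Forall₂ (fun w w' => dotInt w y = dotInt w' y') ws ws' →
    dotInt (linL zs ws) y = dotInt (linL zs ws') y' := by
  intro zs
  induction zs with
  | nil => intro ws ws' y y' _; simp [linL, dotInt_zero_left]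
  | cons z zs ih =>
    intro ws ws' y y' h
    cases h with
    | nil => simp [linL, dotInt_zero_left]
    | cons h1 h2 =>
      simp only [linL, dotInt_add_left', dotInt_smul_left, h1, ih _ _ _ _ h2]

theorem linL_add : ∀ (n : ℕ) (a b : Fin n → ℤ) (ws : List (GolayPt → ℤ)),
    linL (List.ofFn fun j => a j + b j) ws = linL (List.ofFn a) ws + linL (List.ofFn b) ws := by
  intro n
  induction n with
  | zero => intro a b ws; simp [linL]
  | succ n ih =>
    intro a b ws
    cases ws with
    | nil => simp [linL, List.ofFn_succ]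
    | cons w ws =>
      rw [List.ofFn_succ, List.ofFn_succ, List.ofFn_succ, linL, linL, linL, ih, add_smul]
      abel

theorem linL_ofFn : ∀ (n : ℕ) (a : Fin n → ℤ) (w : Fin n → GolayPt → ℤ),
    linL (List.ofFn a) (List.ofFn w) = ∑ j, a j • w j := by
  intro n
  induction n with
  | zero => intro a w; simp [linL]
  | succ n ih =>
    intro a w
    rw [List.ofFn_succ, List.ofFn_succ, linL, ih, Fin.sum_univ_succ]

/-- packing of a list of bits -/
def packB : List Bool → ℕ
  | [] => 0
  | b :: bs => (if b then 1 else 0) + 2 * packB bs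

theorem testBit_packB : ∀ (l : List Bool) (i : ℕ), (packB l).testBit i = l.getD i false := by
  intro l
  induction l with
  | nil => intro i; simp [packB]
  | cons b bs ih =>
    intro i
    cases i with
    | zero => cases b <;> simp [packB, Nat.testBit_zero, Nat.add_mod]
    | succ i =>
      rw [packB, Nat.testBit_succ, List.getD_cons_succ, ← ih]
      congr 1
      cases b <;> simp <;> omega

theorem packB_lt : ∀ (l : List Bool), packB l < 2 ^ l.length := by
  intro l
  induction l with
  | nil => simp [packB]
  | cons b bs ih =>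
    rw [packB, List.length_cons, pow_succ']
    split <;> omega

end CfsgLib.Leech
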