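import Cfsg.Agent.Lib.Leech.Basis

/-!
A basis of the rank-24 lattice whose last twelve members span, modulo 2, the vectors congruent to
multiples of four, and its dual basis.
-/

set_option autoImplicit false
set_option maxRecDepth 10000

namespace CfsgLib.Leech

/-- the basis -/
def bL : List (List ℤ) :=
  [
   [3, -1, -1, -1, -1, -1, -1, -1, -1, -1, -1, -1, -1, -1, -1, -1, -1, -1, -1, -1, -1, -1, -1, -1],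
   [-2, 0, 0, 0, 0, 0, 0, 0, 0, 0, 0, 0, -2, 0, -2, 0, -2, -2, -2, 0, 0, 0, -2, -2],
   [-2, 2, 0, 0, 0, 0, 0, 0, 0, 0, 0, 0, 0, 2, 0, 2, 0, -2, -2, 2, 0, 0, 0, -2],
   [0, 0, 2, 0, 0, 0, 0, 0, 0, 0, 0, 0, 2, 2, 0, 2, 0, 0, 2, 0, 2, 0, 2, 2],
   [3, -1, -1, 1, -1, -1, -1, -1, -1, -1, -1, -1, 1, 1, -1, -1, -1, 1, 1, 1, -1, 1, 1, -1],
   [-2, 0, 0, 0, 2, 0, 0, 0, 0, 0, 0, 0, 0, 2, -2, 0, 0, 0, -2, 2, 2, 0, -2, 0],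
   [3, -1, -1, -1, -1, 1, -1, -1, -1, -1, -1, -1, -1, 1, 1, -1, -1, 1, 1, -1, 1, 1, -1, 1],
   [-2, 0, 0, 0, 0, 0, 2, 0, 0, 0, 0, 0, -2, 0, 0, 2, -2, -2, 0, 2, 0, 2, 0, 0],
   [0, 0, -2, 0, 0, 0, 0, 2, 0, 0, 0, 0, 0, -2, 2, 0, 0, 2, 0, 2, 0, 0, -2, -2],
   [0, 0, 0, -2, 0, 0, 0, 0, 2, 0, 0, 0, -2, 0, 0, 2, 2, -2, 0, 0, 2, 0, -2, 0],
   [0, -2, 0, 0, 0, 0, 0, 0, 0, 2, 0, 0, -2, -2, 0, -2, 0, 2, 0, 0, 2, 2, 0, 0],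
   [0, 0, -2, 2, 0, -2, 0, 0, 0, 0, 2, 0, 2, -2, 0, 0, 2, 0, -2, 2, -2, 2, 0, -2],
   [0, 0, 0, 0, 0, 0, 0, 0, 0, 0, 0, 0, 0, 0, 4, 0, 4, 0, -4, 4, -4, 0, 0, -4],
   [0, 0, 0, 0, 0, 0, 0, 0, 0, 0, 0, 0, 0, 0, 0, 0, 4, 0, -4, 0, 4, -4, -4, 4],
   [0, 0, 0, 0, 0, 0, 0, 0, 0, 0, 0, 0, 0, 0, -4, -4, 0, 4, 0, 0, 4, 0, -4, 4],
   [0, 0, 0, 0, 0, 0, 0, 0, 0, 0, 0, 0, 0, 0, 0, 0, -4, 0, 4, 0, -4, 0, -4, 0],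
   [0, 0, 0, 0, 0, 0, 0, 0, 0, 0, 0, 0, 4, 4, 0, 0, 0, -4, -4, 0, -4, -4, 0, 0],
   [0, 0, 0, 0, 0, 0, 0, 0, 0, 0, 0, 0, 0, 0, 0, 0, 0, 0, 0, 0, -4, 8, 0, 4],
   [0, 0, 0, 0, 0, 0, 0, 0, 0, 0, 0, 0, -4, -8, -4, -8, 8, 0, 4, -8, -4, 0, 0, 0],
   [0, 0, 0, 0, 0, 0, 0, 0, 0, 0, 0, 0, 0, 0, 4, 0, 0, 0, 0, 4, -4, -8, 0, 4],
   [0, 0, 0, 0, 0, 0, 0, 0, 0, 0, 0, 0, 0, 0, -8, 0, 0, 0, 4, 4, 0, 0, -4, -4],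
   [0, 0, 0, 0, 0, 0, 0, 0, 0, 0, 0, 0, 0, 0, 4, -4, 0, 4, -4, 0, 4, 0, 0, -4],
   [0, 0, 0, 0, 0, 0, 0, 0, 0, 0, 0, 0, 4, 8, 8, 4, 4, 0, 8, 0, 0, 0, 0, 4],
   [0, 0, 0, 0, 0, 0, 0, 0, 0, 0, 0, 0, 0, 0, -4, 4, 4, -4, 0, 4, 0, 0, 4, 0]]

/-- the dual basis -/
def dL : List (List ℤ) :=
  [
   [0, 0, 0, -4, 0, -4, 0, 0, -4, 0, 0, 4, 0, 0, 0, 0, 0, 0, 0, 0, 0, 0, 0, 0],
   [-4, -4, 0, 0, -4, 0, -4, 0, 0, -4, 0, 4, 0, 0, 0, 0, 0, 0, 0, 0, 0, 0, 0, 0],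
   [0, 4, 0, 0, 0, 0, 0, 0, 0, 4, 0, -8, 0, 0, 0, 0, 0, 0, 0, 0, 0, 0, 0, 0],
   [0, 0, 4, 0, 0, 0, 0, 4, 0, 0, 4, -12, 0, 0, 0, 0, 0, 0, 0, 0, 0, 0, 0, 0],
   [0, 0, 0, 4, 0, 0, 0, 0, 4, 0, -4, -4, 0, 0, 0, 0, 0, 0, 0, 0, 0, 0, 0, 0],
   [0, 0, 0, 0, 4, 0, 0, 0, 0, 0, 0, -4, 0, 0, 0, 0, 0, 0, 0, 0, 0, 0, 0, 0],
   [0, 0, 0, 0, 0, 4, 0, 0, 0, 0, 4, -8, 0, 0, 0, 0, 0, 0, 0, 0, 0, 0, 0, 0],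
   [0, 0, 0, 0, 0, 0, 4, 0, 0, 0, 0, -4, 0, 0, 0, 0, 0, 0, 0, 0, 0, 0, 0, 0],
   [0, 0, 0, 0, 0, 0, 0, 4, 0, 0, 0, -4, 0, 0, 0, 0, 0, 0, 0, 0, 0, 0, 0, 0],
   [0, 0, 0, 0, 0, 0, 0, 0, 4, 0, 0, -4, 0, 0, 0, 0, 0, 0, 0, 0, 0, 0, 0, 0],
   [0, 0, 0, 0, 0, 0, 0, 0, 0, 4, 0, -4, 0, 0, 0, 0, 0, 0, 0, 0, 0, 0, 0, 0],
   [0, 0, 0, 0, 0, 0, 0, 0, 0, 0, 4, -4, 0, 0, 0, 0, 0, 0, 0, 0, 0, 0, 0, 0],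
   [-966, -426, -424, -426, -426, 270, -218, -1122, 268, -226, -944, 132, 722, -504, 16, 170, 24, 176, 30, 0, 8, 4, -2, 0],
   [504, 222, 222, 224, 222, -140, 114, 584, -140, 118, 490, -68, -376, 262, -8, -88, -12, -92, -16, 0, -4, -2, 0, 0],
   [-1611, -709, -709, -711, -711, 449, -365, -1871, 447, -377, -1575, 225, 1205, -841, 27, 281, 39, 291, 51, 1, 15, 7, -3, 1],
   [-1817, -799, -799, -799, -799, 509, -415, -2115, 505, -425, -1783, 259, 1363, -953, 33, 315, 43, 323, 59, 3, 19, 9, -5, 1],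
   [-4, -2, -2, -2, -2, 2, 0, -4, 2, 0, -4, -2, 4, -2, 0, 0, 0, 0, 0, 0, 0, 0, 0, 0],
   [1072, 472, 472, 472, 472, -300, 242, 1246, -298, 250, 1048, -146, -802, 560, -18, -188, -26, -194, -34, 0, -10, -4, 2, 0],
   [8, 4, 4, 4, 4, -2, 2, 10, -2, 2, 8, -4, -6, 4, 0, -2, 0, -2, 0, 0, 0, 0, 0, 0],
   [822, 362, 362, 362, 362, -230, 186, 956, -228, 192, 806, -116, -616, 430, -14, -144, -20, -148, -26, 0, -8, -4, 2, 0],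
   [1543, 679, 679, 679, 679, -431, 351, 1793, -429, 361, 1511, -215, -1155, 807, -27, -269, -37, -277, -49, -1, -15, -7, 3, -1],
   [222, 98, 98, 98, 98, -62, 48, 256, -62, 50, 214, -22, -164, 114, -2, -42, -6, -44, -6, 2, 0, 0, 0, 0],
   [10, 4, 4, 4, 4, -4, 2, 12, -4, 2, 10, 2, -8, 6, 0, -2, 0, -2, 0, 0, 0, 0, 0, 0],
   [-1383, -609, -609, -609, -609, 387, -317, -1609, 383, -325, -1357, 203, 1037, -725, 25, 239, 33, 245, 45, 3, 15, 7, -3, 1]]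

end CfsgLib.Leech
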