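import Cfsg.Agent.Lib.Leech.Coord

/-!
Linear algebra on bit masks: composition and left inverses.
-/

set_option autoImplicit false
set_option maxRecDepth 10000

namespace CfsgLib.Leech

open Cfsg CfsgLib.Golay

/-- powers of two up to the twenty-third -/
def pow2L : List ℕ := (List.range 24).map fun j => 2 ^ j

theorem comb_pow2 {k : ℕ} (hk : k < 2 ^ 24) : comb pow2L k = k := by
  have h := comb_pow 24 0 k
  simp only [Nat.zero_add, pow_zero, one_mul] at h
  rw [pow2L, h, Nat.mod_eq_of_lt hk]

theorem comb_zero_right : ∀ l : List ℕ, comb l 0 = 0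
  | [] => rfl
  | r :: rs => by simp [comb, comb_zero_right rs]

theorem comb_map (f : ℕ → ℕ) (hf : ∀ a b, f (a ^^^ b) = f a ^^^ f b) :
    ∀ (l : List ℕ) (k : ℕ), comb (l.map f) k = f (comb l k) := by
  have h0 : f 0 = 0 := by
    have h := hf 0 0
    simp only [Nat.xor_self] at h
    exact h
  intro l
  induction l with
  | nil => intro k; simp [comb, h0]
  | cons r rs ih =>
    intro k
    rw [List.map_cons, comb, comb, ih, hf]
    congr 1
    split <;> simp [h0]

theorem comb_comb (R l : List ℕ) (k : ℕ) : comb (l.map (comb R)) k = comb R (comb l k) :=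
  comb_map _ (comb_xor R) l k

/-- entrywise exclusive or -/
def xorL : List ℕ → List ℕ → List ℕ
  | a :: as, b :: bs => (a ^^^ b) :: xorL as bs
  | as, [] => as
  | [], bs => bs

theorem comb_xorL : ∀ (a b : List ℕ) (k : ℕ), comb (xorL a b) k = comb a k ^^^ comb b k
  | [], [], k => by simp [xorL, comb]
  | [], b :: bs, k => by simp [xorL, comb]
  | a :: as, [], k => by simp [xorL, comb]
  | a :: as, b :: bs, k => by
    rw [xorL, comb, comb, comb, comb_xorL as bs]
    by_cases h : k % 2 = 1 <;> simp [h, Nat.xor_assoc, Nat.xor_comm, Nat.xor_left_comm]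

/-- the combined map of pairs of a map and a table -/
def combine : List (List ℕ × List ℕ) → List ℕ
  | [] => []
  | p :: ps => xorL (p.1.map (comb p.2)) (combine ps)

theorem comb_combine_eq_zero : ∀ (ps : List (List ℕ × List ℕ)) (k : ℕ),
    (∀ p ∈ ps, comb p.1 k = 0) → comb (combine ps) k = 0
  | [], k, _ => rfl
  | p :: ps, k, h => by
    rw [combine, comb_xorL, comb_comb, h p List.mem_cons_self, comb_zero_right,
      comb_combine_eq_zero ps k fun q hq => h q (List.mem_cons_of_mem _ hq), Nat.xor_self]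

theorem comb_mem_closed (S : List ℕ) (h0 : 0 ∈ S)
    (hS : ∀ a ∈ S, ∀ b ∈ S, a ^^^ b ∈ S) :
    ∀ (l : List ℕ) (k : ℕ), (∀ a ∈ l, a ∈ S) → comb l k ∈ S
  | [], _, _ => h0
  | r :: rs, k, h => by
    rw [comb]
    refine hS _ ?_ _ (comb_mem_closed S h0 hS rs _ fun a ha => h a (List.mem_cons_of_mem _ ha))
    split
    · exact h r List.mem_cons_self
    · exact h0

/-- if a table differs from the identity by members of a closed list, its kernel is in that list -/
theorem mem_of_comb_eq_zero {S l : List ℕ} (h0 : 0 ∈ S) (hS : ∀ a ∈ S, ∀ b ∈ S, a ^^^ b ∈ S)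
    (hl : ∀ a ∈ xorL pow2L l, a ∈ S) {k : ℕ} (hk : k < 2 ^ 24) (h : comb l k = 0) : k ∈ S := by
  have := comb_mem_closed S h0 hS _ k hl
  rwa [comb_xorL, comb_pow2 hk, h, Nat.xor_zero] at this

theorem testBit_comb : ∀ (l : List ℕ) (k n : ℕ),
    (comb l k).testBit n = decide ((comb (l.map fun a => (a.testBit n).toNat) k) % 2 = 1)
  | [], k, n => by simp [comb]
  | r :: rs, k, n => by
    rw [List.map_cons, comb, comb, Nat.testBit_xor, testBit_comb rs]
    have e : ∀ a b : ℕ, (a ^^^ b) % 2 = (a % 2 + b % 2) % 2 := by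
      intro a b
      have := Nat.testBit_xor a b 0
      simp only [Nat.testBit_zero] at this
      rcases Nat.mod_two_eq_zero_or_one a with ha | ha <;>
        rcases Nat.mod_two_eq_zero_or_one b with hb | hb <;>
        rcases Nat.mod_two_eq_zero_or_one (a ^^^ b) with hc | hc <;> simp_all
    simp only [e]
    rcases Nat.mod_two_eq_zero_or_one
      (comb (List.map (fun a => (a.testBit n).toNat) rs) (k / 2)) with h | h <;>
      by_cases hk : k % 2 = 1 <;> cases hr : r.testBit n <;> simp [hk, hr, h]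

attribute [local irreducible] dL bL key coord packB

theorem vecOf_sum (k : ℕ) : (⟨vecOf k, vecOf_mem k⟩ : ↥leechLattice) =
    ∑ j : Fin 24, if k.testBit j.val then (⟨bV j, bV_mem j⟩ : ↥leechLattice) else 0 := by
  apply Subtype.ext
  rw [AddSubgroup.val_finsetSum]
  show vecOf k = _
  rw [vecOf, bList_eq, linL_ofFn]
  refine Finset.sum_congr rfl fun j _ => ?_
  cases k.testBit j.val <;> simp

theorem exists_vecOf (v : ↥leechLattice) : ∃ z : ↥leechLattice,
    v = (⟨vecOf (key (v : GolayPt → ℤ)), vecOf_mem _⟩ : ↥leechLattice) + (z + z) ∧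
      key (vecOf (key (v : GolayPt → ℤ))) = key (v : GolayPt → ℤ) := by
  have hk := key_vecOf (key_lt (v : GolayPt → ℤ))
  obtain ⟨z, hz, he⟩ := (key_eq_iff v.2 (vecOf_mem _)).1 hk.symm
  refine ⟨⟨z, hz⟩, Subtype.ext ?_, hk⟩
  rw [AddSubgroup.coe_add, AddSubgroup.coe_add, ← two_nsmul, ← he, add_sub_cancel]

/-- an additive function with values in bit masks is given by its table on the basis -/
theorem hom_eq_comb (F : ↥leechLattice → ℕ) (hF : ∀ v w, F (v + w) = F v ^^^ F w)
    (v : ↥leechLattice) :
    F v = comb (List.ofFn fun j => F ⟨bV j, bV_mem j⟩) (key (v : GolayPt → ℤ)) := by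
  have h0 : F 0 = 0 := by
    have h := hF 0 0
    rw [add_zero, Nat.xor_self] at h
    exact h
  have hd : ∀ w : ↥leechLattice, F (w + w) = 0 := fun w => by rw [hF, Nat.xor_self]
  have main : ∀ (n : ℕ) (w : Fin n → ↥leechLattice) (k : ℕ),
      F (∑ j : Fin n, if k.testBit j.val then w j else 0) = comb (List.ofFn fun j => F (w j)) k := by
    intro n
    induction n with
    | zero => intro w k; simp [comb, h0]
    | succ n ih =>
      intro w k
      rw [Fin.sum_univ_succ, List.ofFn_succ, comb, hF]
      congr 1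
      · simp only [Fin.val_zero, Nat.testBit_zero]
        by_cases h : k % 2 = 1 <;> simp [h, h0]
      · rw [← ih (fun j => w j.succ) (k / 2)]
        congr 1
        refine Finset.sum_congr rfl fun j _ => ?_
        rw [Fin.val_succ, Nat.testBit_succ]
  obtain ⟨c, hc, hcv⟩ := exists_vecOf v
  conv_lhs => rw [hc, hF, hd, Nat.xor_zero]
  rw [← main 24 (fun j => ⟨bV j, bV_mem j⟩)]
  exact congrArg F (vecOf_sum _)

end CfsgLib.Leech
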