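import Cfsg.Prelude.Def_Sporadic_a
import Mathlib.LinearAlgebra.Dual.Lemmas
import Mathlib.LinearAlgebra.Matrix.ToLin
import Mathlib.FieldTheory.Finiteness
import Mathlib.Data.Set.Card
import Mathlib.Tactic.Linarith
import Mathlib.Tactic.Ring

/-!
A coordinatised rank-24 lattice with 196560 vectors of squared length 32: the code of its even
vectors has dimension 12 and its words of weight 8 form a large Witt design.
-/

set_option autoImplicit false
set_option maxRecDepth 8000

namespace CfsgLib.Leech.Char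

open Cfsg

/-- integer vectors in 24 coordinates -/
abbrev Z := Fin 24 → ℤ

/-- binary vectors in 24 coordinates -/
abbrev W := Fin 24 → ZMod 2

/-- a lattice written in the coordinates of a frame -/
structure Coords (L : AddSubgroup Z) : Prop where
  norm16 : ∀ x ∈ L, (16 : ℤ) ∣ sqNorm x
  dot8 : ∀ x ∈ L, ∀ y ∈ L, (8 : ℤ) ∣ dotInt x y
  min32 : ∀ x ∈ L, x ≠ 0 → 32 ≤ sqNorm x
  plus : ∀ i j : Fin 24, i ≠ j → Pi.single i 4 + Pi.single j 4 ∈ L
  minus : ∀ i j : Fin 24, i ≠ j → Pi.single i 4 - Pi.single j 4 ∈ L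
  eight : ∀ i : Fin 24, Pi.single i 8 ∈ L
  count : {x : Z | x ∈ L ∧ sqNorm x = 32}.ncard = 196560

/-- a binary digit as an integer -/
def bit01 (a : ZMod 2) : ℤ := if a = 0 then 0 else 1

theorem bit01_add : ∀ a b : ZMod 2, bit01 a + bit01 b = bit01 (a + b) + 2 * (bit01 a * bit01 b) := by
  decide

theorem bit01_cast : ∀ a : ZMod 2, (bit01 a : ZMod 2) = a := by decide

theorem bit01_sq : ∀ a : ZMod 2, bit01 a * bit01 a = bit01 a := by decide

theorem bit01_cases (a : ZMod 2) : bit01 a = 0 ∨ bit01 a = 1 := by unfold bit01; split <;> simp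

theorem bit01_mod (n : ℤ) : bit01 (n : ZMod 2) = n % 2 := by
  unfold bit01
  split
  · next h => have := (ZMod.intCast_zmod_eq_zero_iff_dvd n 2).1 h; omega
  · next h =>
    rw [ZMod.intCast_zmod_eq_zero_iff_dvd] at h
    omega

theorem sum_bit01 (c : W) : ∑ i, bit01 (c i) = ((support₂ c).card : ℤ) := by
  simp [bit01, support₂, Finset.sum_ite]

theorem support₂_add (c d : W) : support₂ (c + d) = symmDiff (support₂ c) (support₂ d) := by
  ext i
  simp only [support₂, Finset.mem_symmDiff, Finset.mem_filter, Finset.mem_univ, true_and,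
    Pi.add_apply]
  generalize c i = a
  generalize d i = b
  revert a b
  decide

theorem dot_single (x : Z) (i : Fin 24) (a : ℤ) : dotInt x (Pi.single i a) = x i * a := by
  simp [dotInt, Pi.single_apply]

variable {L : AddSubgroup Z}

theorem Coords.same_parity (hL : Coords L) {x : Z} (hx : x ∈ L) (i j : Fin 24) : x i % 2 = x j % 2 := by
  rcases eq_or_ne i j with rfl | hij
  · rfl
  · have h := hL.dot8 x hx _ (hL.plus i j hij)
    have e : dotInt x (Pi.single i 4 + Pi.single j 4) = x i * 4 + x j * 4 := by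
      rw [← dot_single x i 4, ← dot_single x j 4]
      simp [dotInt, mul_add, Finset.sum_add_distrib]
    omega

theorem Coords.four_mem (hL : Coords L) {y : Z} (hy : (2 : ℤ) ∣ ∑ i, y i) :
    (fun i => 4 * y i) ∈ L := by
  obtain ⟨k, hk⟩ := hy
  have e : (fun i => 4 * y i) =
      ∑ i, y i • (Pi.single i 4 - Pi.single 0 4 : Z) + k • (Pi.single 0 8 : Z) := by
    funext j
    simp only [Pi.add_apply, Finset.sum_apply, Pi.smul_apply, Pi.sub_apply, smul_eq_mul, mul_sub,
      Finset.sum_sub_distrib, ← Finset.sum_mul, hk]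
    simp [Pi.single_apply]
    split <;> ring
  rw [e]
  refine add_mem (sum_mem fun i _ => zsmul_mem ?_ _) (zsmul_mem (hL.eight 0) _)
  rcases eq_or_ne i 0 with rfl | hi
  · simp
  · exact hL.minus i 0 hi

theorem Coords.shift (hL : Coords L) {p y y' : Z} (h : (fun i => p i + 4 * y i) ∈ L)
    (hp : (2 : ℤ) ∣ ∑ i, y' i - ∑ i, y i) : (fun i => p i + 4 * y' i) ∈ L := by
  have e : (fun i => p i + 4 * y' i) = (fun i => p i + 4 * y i) + fun i => 4 * (y' i - y i) := by
    funext i; simp only [Pi.add_apply]; ring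
  rw [e]
  exact add_mem h (hL.four_mem (by rwa [Finset.sum_sub_distrib]))

/-- the binary code of the even vectors -/
def code (L : AddSubgroup Z) : Submodule (ZMod 2) W where
  carrier := {c | ∃ y : Z, (fun i => 2 * bit01 (c i) + 4 * y i) ∈ L}
  zero_mem' := ⟨0, by
    have e : (fun i : Fin 24 => 2 * bit01 ((0 : W) i) + 4 * (0 : Z) i) = 0 := by
      funext i; simp [bit01]
    rw [e]; exact L.zero_mem⟩
  add_mem' := by
    rintro a b ⟨y, hy⟩ ⟨y', hy'⟩
    refine ⟨fun i => y i + y' i + bit01 (a i) * bit01 (b i), ?_⟩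
    convert L.add_mem hy hy' using 1
    funext i
    have := bit01_add (a i) (b i)
    simp only [Pi.add_apply] at this ⊢
    linarith
  smul_mem' := by
    rintro r c hc
    rcases (by decide : ∀ r : ZMod 2, r = 0 ∨ r = 1) r with rfl | rfl
    · refine ⟨0, ?_⟩
      have e : (fun i : Fin 24 => 2 * bit01 (((0 : ZMod 2) • c) i) + 4 * (0 : Z) i) = 0 := by
        funext i; simp [bit01]
      rw [e]; exact L.zero_mem
    · simpa using hc

theorem mem_code {c : W} : c ∈ code L ↔ ∃ y : Z, (fun i => 2 * bit01 (c i) + 4 * y i) ∈ L := Iff.rfl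

theorem Coords.weight (hL : Coords L) {c : W} (hc : c ∈ code L) (h0 : c ≠ 0) :
    (support₂ c).card % 4 = 0 ∧ 8 ≤ (support₂ c).card := by
  obtain ⟨y, hy⟩ := mem_code.1 hc
  obtain ⟨j, hj⟩ : ∃ j, c j ≠ 0 := by
    by_contra h
    push Not at h
    exact h0 (funext h)
  obtain ⟨y', hy', hsq⟩ : ∃ y' : Z, (2 : ℤ) ∣ ∑ i, y' i - ∑ i, y i ∧
      ∀ i, (2 * bit01 (c i) + 4 * y' i) ^ 2 = 4 * bit01 (c i) := by
    rcases Int.emod_two_eq_zero_or_one (∑ i, y i) with h | h
    · refine ⟨0, by simp; omega, fun i => ?_⟩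
      rcases bit01_cases (c i) with e | e <;> simp [e]
    · refine ⟨Pi.single j (-1), by simp; omega, fun i => ?_⟩
      rcases eq_or_ne i j with rfl | hij
      · simp [bit01, hj]
      · rcases bit01_cases (c i) with e | e <;> simp [e, hij]
  have hm := hL.shift hy hy'
  have hn : sqNorm (fun i => 2 * bit01 (c i) + 4 * y' i) = 4 * ((support₂ c).card : ℤ) := by
    rw [← sum_bit01, Finset.mul_sum]
    exact Finset.sum_congr rfl fun i _ => hsq i
  have h16 := hL.norm16 _ hm
  have h32 := hL.min32 _ hm (fun e => by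
    have := hsq j
    rw [show 2 * bit01 (c j) + 4 * y' j = 0 from congrFun e j] at this
    simp [bit01, hj] at this)
  rw [hn] at h16 h32
  exact ⟨by omega, by omega⟩

theorem Coords.orth (hL : Coords L) {a b : W} (ha : a ∈ code L) (hb : b ∈ code L) :
    ∑ i, a i * b i = 0 := by
  obtain ⟨y, hy⟩ := mem_code.1 ha
  obtain ⟨y', hy'⟩ := mem_code.1 hb
  have h := hL.dot8 _ hy _ hy'
  have e : dotInt (fun i => 2 * bit01 (a i) + 4 * y i) (fun i => 2 * bit01 (b i) + 4 * y' i) =
      4 * ∑ i, bit01 (a i) * bit01 (b i) +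
        8 * ∑ i, (bit01 (a i) * y' i + bit01 (b i) * y i + 2 * (y i * y' i)) := by
    rw [Finset.mul_sum, Finset.mul_sum, ← Finset.sum_add_distrib]
    exact Finset.sum_congr rfl fun i _ => by ring
  have h2 : (2 : ℤ) ∣ ∑ i, bit01 (a i) * bit01 (b i) := by omega
  have h3 := (ZMod.intCast_zmod_eq_zero_iff_dvd (∑ i, bit01 (a i) * bit01 (b i)) 2).2 (by exact_mod_cast h2)
  push_cast at h3
  simpa only [bit01_cast] using h3

theorem Coords.finrank_le (hL : Coords L) : Module.finrank (ZMod 2) (code L) ≤ 12 := by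
  haveI : Fact (Nat.Prime 2) := ⟨Nat.prime_two⟩
  set C := code L
  have hle : C.map (dotProductEquiv (ZMod 2) (Fin 24)).toLinearMap ≤ C.dualAnnihilator := by
    rintro _ ⟨a, ha, rfl⟩
    rw [Submodule.mem_dualAnnihilator]
    intro b hb
    exact hL.orth ha hb
  have h1 := Submodule.finrank_mono hle
  rw [LinearEquiv.finrank_map_eq] at h1
  have h2 := Subspace.finrank_add_finrank_dualAnnihilator_eq C
  rw [Module.finrank_fintype_fun_eq_card, Fintype.card_fin] at h2
  exact (by omega : ∀ a b b' : ℕ, a + b = 24 → a ≤ b' → b = b' → a ≤ 12) _ _ _ h2 h1 rfl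

/-- the supports of the words of weight 8 -/
def blocks (L : AddSubgroup Z) : Set (Finset (Fin 24)) := wordsOfWeight (code L : Set W) 8

theorem Coords.block_unique (hL : Coords L) {s t u : Finset (Fin 24)} (hs : s ∈ blocks L)
    (ht : t ∈ blocks L) (hu : u.card = 5) (hus : u ⊆ s) (hut : u ⊆ t) : s = t := by
  obtain ⟨⟨a, ha, rfl⟩, hac⟩ := hs
  obtain ⟨⟨b, hb, rfl⟩, hbc⟩ := ht
  by_cases h0 : a + b = 0
  · have e : a = b := by
      funext i
      have := congrFun h0 i
      simp only [Pi.add_apply, Pi.zero_apply] at this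
      revert this
      generalize a i = p
      generalize b i = q
      revert p q
      decide
    rw [e]
  · have h := (hL.weight ((code L).add_mem ha hb) h0).2
    rw [support₂_add] at h
    have e1 := Finset.card_sdiff_add_card_inter (support₂ a) (support₂ b)
    have e2 := Finset.card_sdiff_add_card_inter (support₂ b) (support₂ a)
    rw [Finset.inter_comm (support₂ b)] at e2
    have e3 : (symmDiff (support₂ a) (support₂ b)).card =
        (support₂ a \ support₂ b).card + (support₂ b \ support₂ a).card :=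
      Finset.card_union_of_disjoint disjoint_sdiff_sdiff
    have h5 := Finset.card_le_card (Finset.subset_inter hus hut)
    omega

/-- the pattern modulo 4 of an even vector -/
def pat (x : Z) : W := fun i => ((x i / 2 : ℤ) : ZMod 2)

theorem pat_mem {x : Z} (hx : x ∈ L) (he : ∀ i, x i % 2 = 0) : pat x ∈ code L := by
  refine mem_code.2 ⟨fun i => (x i / 2) / 2, ?_⟩
  convert hx using 1
  funext i
  have h1 := bit01_mod (x i / 2)
  have := he i
  show 2 * bit01 ((x i / 2 : ℤ) : ZMod 2) + 4 * ((x i / 2) / 2) = x i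
  omega

theorem sq_le_of_sum {x : Z} {n : ℤ} (h : sqNorm x = n) (i : Fin 24) : x i ^ 2 ≤ n :=
  h ▸ Finset.single_le_sum (f := fun j => x j ^ 2) (fun j _ => sq_nonneg _) (Finset.mem_univ i)

theorem odd_shape {x : Z} (hn : sqNorm x = 32) (ho : ∀ i, x i % 2 = 1) :
    ∃ i, x i ^ 2 = 9 ∧ ∀ j, j ≠ i → x j ^ 2 = 1 := by
  classical
  have hb : ∀ i, x i ^ 2 = 1 ∨ 9 ≤ x i ^ 2 := by
    intro i
    have := ho i
    rcases (by omega : x i = 1 ∨ x i = -1 ∨ 3 ≤ x i ∨ x i ≤ -3) with h | h | h | h
    · exact .inl (by rw [h]; norm_num)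
    · exact .inl (by rw [h]; norm_num)
    · exact .inr (by nlinarith)
    · exact .inr (by nlinarith)
  have hsum : ∑ i, (x i ^ 2 - 1) = 8 := by
    rw [Finset.sum_sub_distrib, show ∑ i, x i ^ 2 = 32 from hn]
    simp
  obtain ⟨i, hi⟩ : ∃ i, x i ^ 2 ≠ 1 := by
    by_contra h
    push Not at h
    simp [h] at hsum
  have hi9 := (hb i).resolve_left hi
  have hnn : ∀ j ∈ (Finset.univ.erase i : Finset (Fin 24)), (0 : ℤ) ≤ x j ^ 2 - 1 := fun j _ => by
    rcases hb j with h | h <;> omega
  rw [← Finset.add_sum_erase _ _ (Finset.mem_univ i)] at hsum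
  have h0 := Finset.sum_nonneg hnn
  refine ⟨i, by omega, fun j hj => ?_⟩
  rcases hb j with h | h
  · exact h
  · have := Finset.single_le_sum hnn (Finset.mem_erase.2 ⟨hj, Finset.mem_univ j⟩)
    omega

theorem Coords.even_shape (hL : Coords L) {x : Z} (hx : x ∈ L) (hn : sqNorm x = 32)
    (he : ∀ i, x i % 2 = 0) (h0 : pat x ≠ 0) :
    (support₂ (pat x)).card = 8 ∧ (∀ i, pat x i = 0 → x i = 0) ∧
      ∀ i, pat x i ≠ 0 → x i = 2 ∨ x i = -2 := by
  have hw := hL.weight (pat_mem hx he) h0
  have hb : ∀ i, bit01 (pat x i) = (x i / 2) % 2 := fun i => bit01_mod _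
  have hnn : ∀ i ∈ (Finset.univ : Finset (Fin 24)), (0 : ℤ) ≤ (x i / 2) ^ 2 - bit01 (pat x i) := by
    intro i _
    rw [hb i]
    rcases Int.emod_two_eq_zero_or_one (x i / 2) with h | h
    · rw [h]; nlinarith
    · rw [h]
      have : x i / 2 ≠ 0 := by omega
      have := sq_pos_iff.2 this
      omega
  have hy : ∑ i, (x i / 2) ^ 2 = 8 := by
    have e : ∑ i, x i ^ 2 = 4 * ∑ i, (x i / 2) ^ 2 := by
      rw [Finset.mul_sum]
      refine Finset.sum_congr rfl fun i _ => ?_
      have := he i
      obtain ⟨k, hk⟩ : ∃ k, x i = 2 * k := ⟨x i / 2, by omega⟩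
      rw [hk, Int.mul_ediv_cancel_left _ (by norm_num : (2 : ℤ) ≠ 0)]
      ring
    have : ∑ i, x i ^ 2 = 32 := hn
    omega
  have hs := Finset.sum_nonneg hnn
  rw [Finset.sum_sub_distrib, hy, sum_bit01] at hs
  have h8 : (support₂ (pat x)).card = 8 := by omega
  have hz := (Finset.sum_eq_zero_iff_of_nonneg hnn).1 (by
    rw [Finset.sum_sub_distrib, hy, sum_bit01, h8]; norm_num)
  refine ⟨h8, fun i hi => ?_, fun i hi => ?_⟩
  · have := hz i (Finset.mem_univ i)
    rw [hi, show bit01 (0 : ZMod 2) = 0 from rfl, sub_zero] at this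
    have := (sq_eq_zero_iff.1 this)
    have := he i
    omega
  · have := hz i (Finset.mem_univ i)
    rw [show bit01 (pat x i) = 1 by simp [bit01, hi], sub_eq_zero, sq_eq_one_iff] at this
    have := he i
    omega

theorem four_shape {x : Z} (hn : sqNorm x = 32) (h4 : ∀ i, x i % 4 = 0) :
    ∃ s : Finset (Fin 24), s.card = 2 ∧ ∃ t, t ⊆ s ∧
      (fun i => if i ∈ t then -4 else if i ∈ s then (4 : ℤ) else 0) = x := by
  classical
  have hv : ∀ i, x i = 0 ∨ x i = 4 ∨ x i = -4 := by
    intro i
    have h := sq_le_of_sum hn i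
    have := h4 i
    have : -5 ≤ x i ∧ x i ≤ 5 := ⟨by nlinarith, by nlinarith⟩
    omega
  refine ⟨Finset.univ.filter fun i => x i ≠ 0, ?_, Finset.univ.filter fun i => x i = -4, ?_, ?_⟩
  · have e : ∑ i, x i ^ 2 = 16 * ((Finset.univ.filter fun i => x i ≠ 0).card : ℤ) := by
      rw [Finset.card_filter]
      push_cast
      rw [Finset.mul_sum]
      refine Finset.sum_congr rfl fun i _ => ?_
      rcases hv i with h | h | h <;> simp [h]
    have : ∑ i, x i ^ 2 = 32 := hn
    omega
  · intro i hi
    simp only [Finset.mem_filter, Finset.mem_univ, true_and] at hi ⊢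
    omega
  · funext i
    rcases hv i with h | h | h <;> simp [h]

theorem Coords.structure_thm (hL : Coords L) :
    Module.finrank (ZMod 2) (code L) = 12 ∧ IsSteinerSystem 5 8 (blocks L) ∧
      ∃ x ∈ L, ∀ i, x i % 2 = 1 := by
  classical
  haveI : Fact (Nat.Prime 2) := ⟨Nat.prime_two⟩
  have hfin : {x : Z | x ∈ L ∧ sqNorm x = 32}.Finite := Set.finite_of_ncard_pos (by rw [hL.count]; norm_num)
  have hcount := hL.count
  rw [Set.ncard_eq_toFinset_card _ hfin] at hcount
  generalize hM : hfin.toFinset = M at hcount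
  have mM : ∀ x ∈ M, x ∈ L ∧ sqNorm x = 32 := fun x hx => by rwa [← hM, Set.Finite.mem_toFinset] at hx
  set CF := (Finset.univ : Finset W).filter fun c => c ∈ code L with hCF
  set OF := CF.filter fun c => (support₂ c).card = 8 with hOF
  set M1 := M.filter fun x => ∀ i, x i % 2 = 1 with hM1
  set M8 := M.filter fun x => (∀ i, x i % 2 = 0) ∧ pat x ≠ 0 with hM8
  set M0 := M.filter fun x => ∀ i, x i % 4 = 0 with hM0
  have hcov : M ⊆ M0 ∪ M8 ∪ M1 := by
    intro x hx
    simp only [hM0, hM8, hM1, Finset.mem_union, Finset.mem_filter, hx, true_and]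
    rcases Int.emod_two_eq_zero_or_one (x 0) with h | h
    · have he : ∀ i, x i % 2 = 0 := fun i => (hL.same_parity (mM x hx).1 i 0).trans h
      by_cases hp : pat x = 0
      · refine .inl (.inl fun i => ?_)
        have hi : ((x i / 2 : ℤ) : ZMod 2) = 0 := congrFun hp i
        rw [ZMod.intCast_zmod_eq_zero_iff_dvd] at hi
        have := he i
        omega
      · exact .inl (.inr ⟨he, hp⟩)
    · exact .inr fun i => (hL.same_parity (mM x hx).1 i 0).trans h
  have b0 : M0.card ≤ 276 * 4 := by
    have hsub : M0 ⊆ ((Finset.univ : Finset (Fin 24)).powersetCard 2).biUnion fun s =>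
        s.powerset.image fun t i => if i ∈ t then -4 else if i ∈ s then (4 : ℤ) else 0 := by
      intro x hx
      simp only [hM0, Finset.mem_filter] at hx
      have hfs := four_shape (mM x hx.1).2 hx.2
      obtain ⟨s, hs, t, ht, e⟩ := hfs
      exact Finset.mem_biUnion.2 ⟨s, Finset.mem_powersetCard.2 ⟨Finset.subset_univ _, hs⟩,
        Finset.mem_image.2 ⟨t, Finset.mem_powerset.2 ht, e⟩⟩
    refine le_trans (Finset.card_le_card hsub) (le_trans Finset.card_biUnion_le ?_)
    refine le_trans (Finset.sum_le_card_nsmul _ _ 4 fun s hs => ?_) ?_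
    · refine le_trans Finset.card_image_le ?_
      rw [Finset.card_powerset, (Finset.mem_powersetCard.1 hs).2]
      norm_num
    · rw [Finset.card_powersetCard, Finset.card_univ, Fintype.card_fin, smul_eq_mul]
      norm_num [Nat.choose_two_right]
  have b8 : M8.card ≤ 128 * OF.card := by
    have hp : M8.image pat ⊆ OF := by
      intro c hc
      obtain ⟨x, hx, rfl⟩ := Finset.mem_image.1 hc
      rw [hM8, Finset.mem_filter] at hx
      simp only [hOF, hCF, Finset.mem_filter, Finset.mem_univ, true_and]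
      exact ⟨pat_mem (mM x hx.1).1 hx.2.1, (hL.even_shape (mM x hx.1).1 (mM x hx.1).2 hx.2.1 hx.2.2).1⟩
    refine le_trans (Finset.card_le_mul_card_image (f := pat) M8 128 fun c hc => ?_)
      (Nat.mul_le_mul_left _ (Finset.card_le_card hp))
    have hc' := (Finset.mem_filter.1 (hp hc)).2
    obtain ⟨j, hj⟩ := Finset.card_pos.1 (show 0 < (support₂ c).card by omega)
    refine le_trans (Finset.card_le_card_of_injOn (t := ((support₂ c).erase j).powerset)
      (fun x => ((support₂ c).erase j).filter fun i => x i = -2) ?_ ?_) ?_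
    · intro x _
      rw [Finset.mem_coe, Finset.mem_powerset]
      exact Finset.filter_subset _ _
    · intro x hx x' hx' hxx
      simp only [Finset.mem_coe, hM8, Finset.mem_filter] at hx hx'
      obtain ⟨⟨hxM, hxe, hx0⟩, rfl⟩ := hx
      obtain ⟨⟨hxM', hxe', hx0'⟩, hpp⟩ := hx'
      obtain ⟨-, hz, hs⟩ := hL.even_shape (mM x hxM).1 (mM x hxM).2 hxe hx0
      obtain ⟨-, hz', hs'⟩ := hL.even_shape (mM x' hxM').1 (mM x' hxM').2 hxe' hx0'
      rw [hpp] at hz' hs'
      have hdiff : ∀ i, i ≠ j → x i = x' i := by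
        intro i hij
        by_cases hi : pat x i = 0
        · rw [hz i hi, hz' i hi]
        · have hmem : i ∈ (support₂ (pat x)).erase j := by simp [support₂, hi, hij]
          have := Finset.ext_iff.1 hxx i
          simp only [Finset.mem_filter, hmem, true_and] at this
          have := hs i hi
          have := hs' i hi
          omega
      have hd : sqNorm (x - x') = (x j - x' j) ^ 2 := by
        simp only [sqNorm, Pi.sub_apply]
        exact Finset.sum_eq_single j (fun i _ hij => by rw [hdiff i hij]; ring) (by simp)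
      by_contra hne
      have h32 := hL.min32 _ (sub_mem (mM x hxM).1 (mM x' hxM').1) (sub_ne_zero.2 hne)
      have hjs : pat x j ≠ 0 := by simpa [support₂] using hj
      rw [hd] at h32
      rcases hs j hjs with h | h <;> rcases hs' j hjs with h' | h' <;> rw [h, h'] at h32 <;>
        norm_num at h32
    · rw [Finset.card_powerset, Finset.card_erase_of_mem hj, hc']
      norm_num
  have b1 : M1.card ≤ 24 * CF.card := by
    rcases M1.eq_empty_or_nonempty with he | ⟨x₀, hx₀⟩
    · simp [he]
    have hsub : M1 ⊆ (Finset.univ : Finset (Fin 24)).biUnion fun i => M1.filter fun x => x i ^ 2 = 9 := by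
      intro x hx
      have h := Finset.mem_filter.1 hx
      obtain ⟨i, hi, -⟩ := odd_shape (mM x h.1).2 h.2
      exact Finset.mem_biUnion.2 ⟨i, Finset.mem_univ i, Finset.mem_filter.2 ⟨hx, hi⟩⟩
    refine le_trans (Finset.card_le_card hsub) (le_trans Finset.card_biUnion_le ?_)
    refine le_trans (Finset.sum_le_card_nsmul _ _ CF.card fun i _ => ?_) (by simp)
    rw [hM1, Finset.mem_filter] at hx₀
    refine Finset.card_le_card_of_injOn (fun x => pat (x - x₀)) ?_ ?_
    · intro x hx
      simp only [Finset.mem_coe, hM1, Finset.mem_filter] at hx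
      simp only [hCF, Finset.mem_coe, Finset.mem_filter, Finset.mem_univ, true_and]
      refine pat_mem (sub_mem (mM x hx.1.1).1 (mM x₀ hx₀.1).1) fun k => ?_
      have := hx.1.2 k
      have := hx₀.2 k
      simp only [Pi.sub_apply]
      omega
    · intro x hx x' hx' hxx
      simp only [Finset.mem_coe, hM1, Finset.mem_filter] at hx hx'
      obtain ⟨a, ha, hao⟩ := odd_shape (mM x hx.1.1).2 hx.1.2
      obtain ⟨a', ha', hao'⟩ := odd_shape (mM x' hx'.1.1).2 hx'.1.2
      funext k
      have h4 : (x k - x' k) % 4 = 0 := by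
        have e := congrArg bit01 (congrFun hxx k)
        simp only [pat, bit01_mod, Pi.sub_apply] at e
        have := hx.1.2 k
        have := hx'.1.2 k
        have := hx₀.2 k
        omega
      rcases eq_or_ne k i with rfl | hk
      · have e := hx.2.trans hx'.2.symm
        rcases sq_eq_sq_iff_eq_or_eq_neg.1 e with h | h
        · exact h
        · have := hx'.1.2 k; omega
      · have hai : a = i := by
          by_contra hne
          have := hao i (Ne.symm hne); have := hx.2; omega
        have hai' : a' = i := by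
          by_contra hne
          have := hao' i (Ne.symm hne); have := hx'.2; omega
        have e1 := hao k (hai ▸ hk)
        have e2 := hao' k (hai' ▸ hk)
        rw [sq_eq_one_iff] at e1 e2
        omega
  have hCcard : CF.card = 2 ^ Module.finrank (ZMod 2) (code L) := by
    have := Module.natCard_eq_pow_finrank (K := ZMod 2) (V := code L)
    rw [Nat.card_zmod] at this
    rw [← this, Nat.subtype_card CF (fun c => by simp [hCF])]
  have hC : CF.card ≤ 4096 := by
    rw [hCcard]
    exact le_trans (Nat.pow_le_pow_right (by norm_num) hL.finrank_le) (by norm_num)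
  have hblk : ∀ c ∈ OF, support₂ c ∈ blocks L := fun c hc => by
    simp only [hOF, hCF, Finset.mem_filter, Finset.mem_univ, true_and] at hc
    exact ⟨⟨c, hc.1, rfl⟩, hc.2⟩
  set OS := OF.image support₂ with hOS
  have hOScard : OS.card = OF.card := by
    refine Finset.card_image_of_injective _ fun a b e => ?_
    funext i
    have := Finset.ext_iff.1 e i
    simp only [support₂, Finset.mem_filter, Finset.mem_univ, true_and] at this
    revert this
    generalize a i = p
    generalize b i = q
    revert p q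
    decide
  set U := OS.biUnion fun s => s.powersetCard 5 with hU
  have hUsub : U ⊆ (Finset.univ : Finset (Fin 24)).powersetCard 5 := by
    intro u hu
    obtain ⟨s, -, hs⟩ := Finset.mem_biUnion.1 hu
    exact Finset.mem_powersetCard.2 ⟨Finset.subset_univ _, (Finset.mem_powersetCard.1 hs).2⟩
  have hUcard : U.card = 56 * OF.card := by
    rw [hU, Finset.card_biUnion]
    · rw [Finset.sum_congr rfl (g := fun _ => 56) fun s hs => ?_, Finset.sum_const, hOScard, smul_eq_mul, mul_comm]
      obtain ⟨c, hc, rfl⟩ := Finset.mem_image.1 hs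
      rw [Finset.card_powersetCard, (Finset.mem_filter.1 hc).2]
      rfl
    · intro s hs t ht hne
      rw [Function.onFun, Finset.disjoint_left]
      intro u hu hu'
      obtain ⟨c, hc, rfl⟩ := Finset.mem_image.1 hs
      obtain ⟨d, hd, rfl⟩ := Finset.mem_image.1 ht
      obtain ⟨hu1, hu5⟩ := Finset.mem_powersetCard.1 hu
      exact hne (hL.block_unique (hblk c hc) (hblk d hd) hu5 hu1 (Finset.mem_powersetCard.1 hu').1)
  have h5 : ((Finset.univ : Finset (Fin 24)).powersetCard 5).card = 42504 := by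
    rw [Finset.card_powersetCard, Finset.card_univ, Fintype.card_fin]
    rfl
  have hO : 56 * OF.card ≤ 42504 := hUcard ▸ h5 ▸ Finset.card_le_card hUsub
  have htot := le_trans (Finset.card_le_card hcov)
    (le_trans (Finset.card_union_le _ _) (Nat.add_le_add_right (Finset.card_union_le _ _) _))
  have hO' : OF.card = 759 := by omega
  have hC' : CF.card = 4096 := by omega
  have hM1pos : 0 < M1.card := by omega
  refine ⟨?_, ⟨fun b hb => hb.2, fun u hu => ?_⟩, ?_⟩
  · rw [hCcard, show 4096 = 2 ^ 12 from rfl] at hC'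
    exact Nat.pow_right_injective (le_refl 2) hC'
  · have hEq : U = (Finset.univ : Finset (Fin 24)).powersetCard 5 :=
      Finset.eq_of_subset_of_card_le hUsub (by rw [h5, hUcard, hO'])
    have huU : u ∈ U := hEq ▸ Finset.mem_powersetCard.2 ⟨Finset.subset_univ _, hu⟩
    obtain ⟨s, hs, hus⟩ := Finset.mem_biUnion.1 huU
    obtain ⟨c, hc, rfl⟩ := Finset.mem_image.1 hs
    exact ⟨_, ⟨hblk c hc, (Finset.mem_powersetCard.1 hus).1⟩, fun t ht =>
      hL.block_unique ht.1 (hblk c hc) hu ht.2 (Finset.mem_powersetCard.1 hus).1⟩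
  · obtain ⟨x, hx⟩ := Finset.card_pos.1 hM1pos
    rw [hM1, Finset.mem_filter] at hx
    exact ⟨x, (mM x hx.1).1, hx.2⟩

end CfsgLib.Leech.Char
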