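import Mathlib.LinearAlgebra.Matrix.Symmetric
import Mathlib.LinearAlgebra.Dimension.StrongRankCondition
import Mathlib.LinearAlgebra.FreeModule.StrongRankCondition
import Mathlib.Tactic.NormNum
import Mathlib.LinearAlgebra.Matrix.ToLinearEquiv
import Mathlib.Data.ZMod.Basic
import Mathlib.Data.Set.Card
import Mathlib.Tactic.Linarith
import Mathlib.Tactic.LinearCombination
import Mathlib.Tactic.Ring

/-!
Short vectors modulo 2 in a rank-24 even lattice without roots: the theta counts force a frame.
-/

set_option autoImplicit false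

namespace CfsgLib.Leech.Char

open Matrix

/-- integer vectors -/
abbrev V := Fin 24 → ℤ

variable (B : Matrix (Fin 24) (Fin 24) ℤ)

/-- the bilinear form -/
def bil (x y : V) : ℤ := x ⬝ᵥ (B *ᵥ y)

/-- the quadratic form -/
def quad (x : V) : ℤ := bil B x x

/-- the hypotheses on the form, the counts apart -/
structure Good : Prop where
  symm : B.IsSymm
  pos : ∀ x : V, x ≠ 0 → 0 < quad B x
  even : ∀ x : V, (2 : ℤ) ∣ quad B x
  noRoot : ∀ x : V, quad B x ≠ 2

theorem bil_add_left (x y z : V) : bil B (x + y) z = bil B x z + bil B y z := add_dotProduct ..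

theorem bil_add_right (x y z : V) : bil B x (y + z) = bil B x y + bil B x z := by
  rw [bil, mulVec_add, dotProduct_add]; rfl

theorem bil_smul_left (a : ℤ) (x y : V) : bil B (a • x) y = a * bil B x y := by
  rw [bil, smul_dotProduct, smul_eq_mul]; rfl

theorem bil_smul_right (a : ℤ) (x y : V) : bil B x (a • y) = a * bil B x y := by
  rw [bil, mulVec_smul, dotProduct_smul, smul_eq_mul]; rfl

theorem bil_sub_left (x y z : V) : bil B (x - y) z = bil B x z - bil B y z := sub_dotProduct ..

theorem bil_sub_right (x y z : V) : bil B x (y - z) = bil B x y - bil B x z := by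
  rw [bil, mulVec_sub, dotProduct_sub]; rfl

theorem bil_zero_left (x : V) : bil B 0 x = 0 := zero_dotProduct _

theorem bil_sum_right {ι : Type*} (s : Finset ι) (x : V) (g : ι → V) :
    bil B x (∑ i ∈ s, g i) = ∑ i ∈ s, bil B x (g i) := by
  rw [bil, mulVec_sum, dotProduct_sum]; rfl

theorem bil_neg_left (x y : V) : bil B (-x) y = -bil B x y := by
  rw [← neg_one_smul ℤ x, bil_smul_left, neg_one_mul]

theorem bil_neg_right (x y : V) : bil B x (-y) = -bil B x y := by
  rw [← neg_one_smul ℤ y, bil_smul_right, neg_one_mul]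

theorem quad_neg (x : V) : quad B (-x) = quad B x := by
  rw [quad, bil_neg_left, bil_neg_right, neg_neg]; rfl

theorem quad_smul (a : ℤ) (x : V) : quad B (a • x) = a * a * quad B x := by
  rw [quad, bil_smul_left, bil_smul_right, ← mul_assoc]; rfl

variable {B}

theorem Good.comm (h : Good B) (x y : V) : bil B x y = bil B y x := by
  rw [bil, bil, dotProduct_mulVec, ← mulVec_transpose, h.symm, dotProduct_comm]

theorem Good.quad_add (h : Good B) (x y : V) :
    quad B (x + y) = quad B x + 2 * bil B x y + quad B y := by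
  simp only [quad, bil_add_left, bil_add_right, h.comm y x]; ring

theorem Good.quad_sub (h : Good B) (x y : V) :
    quad B (x - y) = quad B x - 2 * bil B x y + quad B y := by
  simp only [quad, bil_sub_left, bil_sub_right, h.comm y x]; ring

theorem Good.eq_zero (h : Good B) {x : V} (hx : quad B x = 0) : x = 0 := by
  by_contra hne
  exact (h.pos x hne).ne' hx

theorem Good.four_le (h : Good B) {x : V} (hx : x ≠ 0) : 4 ≤ quad B x := by
  have := h.pos x hx; have := h.even x; have := h.noRoot x; omega

/-- pairwise orthogonal non-zero vectors are at most 24 in number -/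
theorem Good.card_orth (h : Good B) {ι : Type*} [Fintype ι] (v : ι → V) (h0 : ∀ i, v i ≠ 0)
    (ho : Pairwise fun i j => bil B (v i) (v j) = 0) : Fintype.card ι ≤ 24 := by
  classical
  have hli : LinearIndependent ℤ v := by
    rw [Fintype.linearIndependent_iff]
    intro g hg j
    have e := congrArg (bil B (v j)) hg
    rw [bil_sum_right, Finset.sum_eq_single j (fun i _ hij => by
      rw [bil_smul_right, ho (Ne.symm hij), mul_zero]) (by simp), bil_smul_right] at e
    have e0 : g j * quad B (v j) = 0 := by
      rw [quad, e]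
      simp [bil]
    exact (mul_eq_zero.1 e0).resolve_right (h.pos _ (h0 j)).ne'
  simpa using hli.fintype_card_le_finrank

/-- reduction modulo 2 -/
def red (x : V) : Fin 24 → ZMod 2 := fun i => (x i : ZMod 2)

theorem exists_two_smul {x y : V} (h : red x = red y) : ∃ z : V, x - y = (2 : ℤ) • z := by
  refine ⟨fun i => (x i - y i) / 2, funext fun i => ?_⟩
  have := (ZMod.intCast_eq_intCast_iff' _ _ _).1 (congrFun h i)
  simp only [Pi.sub_apply, Pi.smul_apply, smul_eq_mul]
  omega

theorem red_neg (x : V) : red (-x) = red x := by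
  funext i
  simp [red]

theorem Good.congr_short (h : Good B) {x y : V} (hxy : red x = red y) (h1 : x ≠ y) (h2 : x ≠ -y)
    (hx : quad B x ≤ 8) (hy : quad B y ≤ 8) :
    quad B x = 8 ∧ quad B y = 8 ∧ bil B x y = 0 := by
  obtain ⟨z, hz⟩ := exists_two_smul hxy
  have hz' : x + y = (2 : ℤ) • (z + y) := by
    rw [smul_add, ← hz, two_zsmul]; abel
  have hz0 : z ≠ 0 := by
    rintro rfl
    exact h1 (sub_eq_zero.1 (by rw [hz, smul_zero]))
  have hz0' : z + y ≠ 0 := by
    intro e
    rw [e, smul_zero] at hz'
    exact h2 (eq_neg_of_add_eq_zero_left hz')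
  have m1 := h.four_le hz0
  have m2 := h.four_le hz0'
  have e1 := congrArg (quad B) hz
  have e2 := congrArg (quad B) hz'
  rw [quad_smul, h.quad_sub] at e1
  rw [quad_smul, h.quad_add] at e2
  exact ⟨by omega, by omega, by omega⟩

/-- a frame: 24 pairwise orthogonal vectors of norm 8 in one class modulo 2 -/
structure IsFrame (B : Matrix (Fin 24) (Fin 24) ℤ) (v : Fin 24 → V) : Prop where
  norm : ∀ i, quad B (v i) = 8
  orth : Pairwise fun i j => bil B (v i) (v j) = 0
  congr : ∀ i j, red (v i) = red (v j)

theorem card_fibre_le_two (h : Good B) {s : Finset V} (hs : ∀ x ∈ s, quad B x ≤ 6) (c : Fin 24 → ZMod 2) :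
    (s.filter fun x => red x = c).card ≤ 2 := by
  classical
  set F := s.filter fun x => red x = c
  rcases F.eq_empty_or_nonempty with hF | ⟨x, hx⟩
  · simp [hF]
  · refine le_trans (Finset.card_le_card (t := {x, -x}) fun y hy => ?_) Finset.card_le_two
    obtain ⟨hxs, hxc⟩ := Finset.mem_filter.1 hx
    obtain ⟨hys, hyc⟩ := Finset.mem_filter.1 hy
    rw [Finset.mem_insert, Finset.mem_singleton]
    by_contra hne
    rw [not_or] at hne
    have h1 : quad B x ≤ 6 := hs x hxs
    have := h.congr_short (hxc.trans hyc.symm) (Ne.symm hne.1)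
      (fun e => hne.2 (by rw [e, neg_neg])) (by omega) (by linarith [hs y hys])
    omega

theorem fibre_or_frame (h : Good B) (hno : ¬ ∃ v, IsFrame B v) {s : Finset V}
    (hs : ∀ x ∈ s, quad B x = 8) (c : Fin 24 → ZMod 2) :
    (s.filter fun x => red x = c).card ≤ 46 := by
  classical
  set F := s.filter fun x => red x = c
  set P := F.powerset.filter fun T : Finset V => ∀ a ∈ T, ∀ b ∈ T, a ≠ b → bil B a b = 0
  obtain ⟨T, hT, hmax⟩ := Finset.exists_max_image P Finset.card
    ⟨∅, by simp [P]⟩
  simp only [P, Finset.mem_filter, Finset.mem_powerset] at hT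
  have hTF : ∀ a ∈ T, quad B a = 8 ∧ red a = c := fun a ha =>
    ⟨hs a (Finset.mem_filter.1 (hT.1 ha)).1, (Finset.mem_filter.1 (hT.1 ha)).2⟩
  have hcov : F ⊆ T ∪ T.image (fun x => -x) := by
    intro x hx
    obtain ⟨hxs, hxc⟩ := Finset.mem_filter.1 hx
    rw [Finset.mem_union, Finset.mem_image]
    by_contra hne
    rw [not_or] at hne
    have hxo : ∀ a ∈ T, bil B x a = 0 := fun a ha =>
      (h.congr_short (hxc.trans (hTF a ha).2.symm) (fun e => hne.1 (e ▸ ha))
        (fun e => hne.2 ⟨a, ha, e.symm⟩) (hs x hxs).le (hTF a ha).1.le).2.2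
    have hmem : insert x T ∈ P := by
      refine Finset.mem_filter.2 ⟨Finset.mem_powerset.2 (Finset.insert_subset hx hT.1), ?_⟩
      intro a ha b hb hab
      rw [Finset.mem_insert] at ha hb
      rcases ha with rfl | ha <;> rcases hb with rfl | hb
      · exact absurd rfl hab
      · exact hxo b hb
      · rw [h.comm]; exact hxo a ha
      · exact hT.2 a ha b hb hab
    have := hmax _ hmem
    rw [Finset.card_insert_of_notMem hne.1] at this
    omega
  have hpair : Pairwise fun i j : T => bil B (i : V) (j : V) = 0 := fun a b hab =>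
    hT.2 a a.2 b b.2 (Subtype.coe_ne_coe.2 hab)
  have h24 : T.card ≤ 24 := by
    have := h.card_orth (fun a : T => (a : V)) (fun a e => by
      have := (hTF a a.2).1
      simp [show (a : V) = 0 from e, quad, bil] at this) hpair
    simpa using this
  have hne : T.card ≠ 24 := by
    intro e
    refine hno ⟨fun i => (T.equivFinOfCardEq e).symm i, fun i => (hTF _ ((T.equivFinOfCardEq e).symm i).2).1,
      fun i j hij => hpair (fun e' => hij ((T.equivFinOfCardEq e).symm.injective e')),
      fun i j => ((hTF _ ((T.equivFinOfCardEq e).symm i).2).2).trans (hTF _ ((T.equivFinOfCardEq e).symm j).2).2.symm⟩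
  calc F.card ≤ (T ∪ T.image (fun x => -x)).card := Finset.card_le_card hcov
    _ ≤ T.card + (T.image (fun x => -x)).card := Finset.card_union_le _ _
    _ ≤ T.card + T.card := Nat.add_le_add_left Finset.card_image_le _
    _ ≤ 46 := by omega

theorem exists_frame (h : Good B) (h4 : {x : V | quad B x = 4}.ncard = 196560)
    (h6 : {x : V | quad B x = 6}.ncard = 16773120) (h8 : {x : V | quad B x = 8}.ncard = 398034000) :
    ∃ v, IsFrame B v := by
  classical
  by_contra hno
  have f4 : {x : V | quad B x = 4}.Finite := Set.finite_of_ncard_pos (by omega)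
  have f6 : {x : V | quad B x = 6}.Finite := Set.finite_of_ncard_pos (by omega)
  have f8 : {x : V | quad B x = 8}.Finite := Set.finite_of_ncard_pos (by omega)
  rw [Set.ncard_eq_toFinset_card _ f4] at h4
  rw [Set.ncard_eq_toFinset_card _ f6] at h6
  rw [Set.ncard_eq_toFinset_card _ f8] at h8
  generalize hS4 : f4.toFinset = S4 at h4
  generalize hS6 : f6.toFinset = S6 at h6
  generalize hS8 : f8.toFinset = S8 at h8
  have m4 : ∀ x ∈ S4, quad B x = 4 := fun x hx => by rwa [← hS4, Set.Finite.mem_toFinset] at hx
  have m6 : ∀ x ∈ S6, quad B x = 6 := fun x hx => by rwa [← hS6, Set.Finite.mem_toFinset] at hx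
  have m8 : ∀ x ∈ S8, quad B x = 8 := fun x hx => by rwa [← hS8, Set.Finite.mem_toFinset] at hx
  set T := S4 ∪ S6
  have hT : ∀ x ∈ T, quad B x ≤ 6 ∧ x ≠ 0 := by
    intro x hx
    rcases Finset.mem_union.1 hx with hx | hx
    · refine ⟨by rw [m4 x hx]; norm_num, fun e => ?_⟩
      simpa [e, quad, bil] using m4 x hx
    · refine ⟨by rw [m6 x hx], fun e => ?_⟩
      simpa [e, quad, bil] using m6 x hx
  have hTc : T.card = 196560 + 16773120 := by
    rw [Finset.card_union_of_disjoint, h4, h6]
    exact Finset.disjoint_left.2 fun x hx hx' => by have := m4 x hx; have := m6 x hx'; omega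
  have hA : T.card ≤ 2 * (T.image red).card :=
    Finset.card_le_mul_card_image _ _ fun c _ => card_fibre_le_two h (fun x hx => (hT x hx).1) c
  have hC : S8.card ≤ 46 * (S8.image red).card :=
    Finset.card_le_mul_card_image _ _ fun c _ => fibre_or_frame h hno m8 c
  have hdis : Disjoint (T.image red) (S8.image red) := by
    rw [Finset.disjoint_left]
    intro c hc hc'
    obtain ⟨x, hx, rfl⟩ := Finset.mem_image.1 hc
    obtain ⟨y, hy, hyx⟩ := Finset.mem_image.1 hc'
    have h1 := m8 y hy
    have h2 := (hT x hx).1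
    have := h.congr_short hyx (fun e => by subst e; omega)
      (fun e => by subst e; rw [quad_neg] at h1; omega) h1.le (by omega)
    omega
  have hle := Finset.card_le_univ (T.image red ∪ S8.image red)
  rw [Finset.card_union_of_disjoint hdis, Fintype.card_fun, ZMod.card, Fintype.card_fin] at hle
  rw [show (2 : ℕ) ^ 24 = 16777216 by norm_num] at hle
  omega

/-- coordinates with respect to a frame -/
def fr (v : Fin 24 → V) (hB : Matrix (Fin 24) (Fin 24) ℤ) : V →+ V where
  toFun x i := bil hB x (v i)
  map_zero' := funext fun _ => bil_zero_left _ _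
  map_add' x y := funext fun _ => bil_add_left _ _ _ _

theorem fr_apply (v : Fin 24 → V) (x : V) (i : Fin 24) : fr v B x i = bil B x (v i) := rfl

variable {v : Fin 24 → V}

theorem IsFrame.eight_smul (hv : IsFrame B v) (h : Good B) (x : V) :
    (8 : ℤ) • x = ∑ i, fr v B x i • v i := by
  classical
  by_contra hne
  set y := (8 : ℤ) • x - ∑ i, fr v B x i • v i with hy
  have hy0 : y ≠ 0 := sub_ne_zero.2 hne
  have hyv : ∀ j, bil B y (v j) = 0 := by
    intro j
    rw [hy, bil_sub_left, bil_smul_left, h.comm (∑ i, _), bil_sum_right, Finset.sum_eq_single j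
      (fun i _ hij => by rw [bil_smul_right, hv.orth (Ne.symm hij), mul_zero]) (by simp),
      bil_smul_right, show bil B (v j) (v j) = 8 from hv.norm j, fr_apply]
    ring
  have hne0 : ∀ i, v i ≠ 0 := fun i e => by simpa [e, quad, bil] using hv.norm i
  have := h.card_orth (fun o : Option (Fin 24) => o.elim y v)
    (fun o => by cases o <;> simp [hy0, hne0]) (by
      intro a b hab
      cases a <;> cases b
      · exact absurd rfl hab
      · exact hyv _
      · exact (h.comm _ _).trans (hyv _)
      · exact hv.orth fun e => hab (by rw [e]))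
  simp at this

theorem IsFrame.dot_fr (hv : IsFrame B v) (h : Good B) (x y : V) :
    ∑ i, fr v B x i * fr v B y i = 8 * bil B x y := by
  have e := congrArg (bil B y) (hv.eight_smul h x)
  rw [bil_smul_right, bil_sum_right] at e
  rw [h.comm x y, e]
  exact Finset.sum_congr rfl fun i _ => by rw [bil_smul_right]; rfl

theorem IsFrame.fr_injective (hv : IsFrame B v) (h : Good B) : Function.Injective (fr v B) := by
  rw [injective_iff_map_eq_zero]
  intro x hx
  refine h.eq_zero ?_
  have := hv.dot_fr h x x
  rw [hx] at this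
  have e : (0 : ℤ) = 8 * bil B x x := by simpa using this
  show bil B x x = 0
  omega

theorem IsFrame.fr_self (hv : IsFrame B v) (i : Fin 24) : fr v B (v i) = Pi.single i 8 := by
  funext j
  rw [fr_apply]
  rcases eq_or_ne i j with rfl | hij
  · rw [Pi.single_eq_same]; exact hv.norm i
  · rw [Pi.single_eq_of_ne (Ne.symm hij), hv.orth hij]

theorem IsFrame.sign (hv : IsFrame B v) (e : Fin 24 → ℤ) (he : ∀ i, e i = 1 ∨ e i = -1) :
    IsFrame B fun i => e i • v i where
  norm i := by rw [quad_smul, hv.norm]; rcases he i with h | h <;> simp [h]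
  orth i j hij := by
    show bil B (e i • v i) (e j • v j) = 0
    rw [bil_smul_left, bil_smul_right, hv.orth hij, mul_zero, mul_zero]
  congr i j := by
    have : ∀ k, red (e k • v k) = red (v k) := fun k => by
      rcases he k with h | h <;> simp [h, red_neg]
    rw [this, this, hv.congr i j]

end CfsgLib.Leech.Char
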