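import Cfsg.Agent.Lib.Golay.Octads
import Cfsg.Agent.Lib.Golay.Perm

/-!
The rank-24 lattice: normal form of its elements, evenness, integrality and minimum norm.
-/

set_option autoImplicit false

namespace CfsgLib.Leech

open Cfsg CfsgLib.Golay
open scoped Pointwise

/-- the indicator of a set, with values in `ℤ` -/
def ind (c : Finset GolayPt) (i : GolayPt) : ℤ := if i ∈ c then 1 else 0

/-- the parametrised lattice vector `m + 2 c + 4 y` -/
def mk (m : ℤ) (c : Finset GolayPt) (y : GolayPt → ℤ) (i : GolayPt) : ℤ := m + 2 * ind c i + 4 * y i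

/-- supports of code words -/
abbrev CS : Set (Finset GolayPt) := supports (golayCode : Set (GolayPt → ZMod 2))

theorem empty_mem_CS : (∅ : Finset GolayPt) ∈ CS := ⟨0, golayCode.zero_mem, by ext p; simp [support₂]⟩

theorem univ_mem_CS : (Finset.univ : Finset GolayPt) ∈ CS :=
  ⟨1, Submodule.subset_span (Or.inr rfl), by ext p; simp [support₂]⟩

theorem card_mod_four {c : Finset GolayPt} (hc : c ∈ CS) : c.card % 4 = 0 := by
  rcases card_supports hc with h | h | h | h | h <;> omega

theorem sum_ind (c : Finset GolayPt) : ∑ i, ind c i = (c.card : ℤ) := by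
  simp [ind, Finset.sum_boole]

theorem card_pt : Fintype.card GolayPt = 24 := by simp

theorem sum_mk (m : ℤ) (c : Finset GolayPt) (y : GolayPt → ℤ) :
    ∑ i, mk m c y i = 24 * m + 2 * (c.card : ℤ) + 4 * ∑ i, y i := by
  simp only [mk, Finset.sum_add_distrib, ← Finset.mul_sum, sum_ind, Finset.sum_const, Finset.card_univ,
    card_pt, nsmul_eq_mul]
  push_cast
  ring

/-- normal form of the members of the defining set -/
theorem mem_leechSet_iff {x : GolayPt → ℤ} :
    x ∈ leechSet ↔ ∃ m : ℤ, ∃ c ∈ CS, ∃ y : GolayPt → ℤ, (∑ i, y i) % 2 = m % 2 ∧ x = mk m c y := by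
  constructor
  · rintro ⟨m, hpar, hsum, hres⟩
    set c := Finset.univ.filter fun i => x i ≡ m + 2 [ZMOD 4] with hc
    have hcCS : c ∈ CS := hres (m + 2)
    have hdiv : ∀ i, (4 : ℤ) ∣ x i - m - 2 * ind c i := by
      intro i
      have hp := hpar i
      rw [Int.ModEq] at hp
      unfold ind
      split
      · next h =>
        rw [hc, Finset.mem_filter, Int.ModEq] at h
        have := h.2
        omega
      · next h =>
        rw [hc, Finset.mem_filter, Int.ModEq] at h
        simp only [Finset.mem_univ, true_and] at h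
        omega
    refine ⟨m, c, hcCS, fun i => (x i - m - 2 * ind c i) / 4, ?_, ?_⟩
    · have h1 : ∑ i, x i = 24 * m + 2 * (c.card : ℤ) + 4 * ∑ i, (x i - m - 2 * ind c i) / 4 := by
        rw [← sum_mk]
        refine Finset.sum_congr rfl fun i _ => ?_
        have := hdiv i
        simp only [mk]; omega
      have := card_mod_four hcCS
      rw [Int.ModEq, h1] at hsum
      show (∑ i, (x i - m - 2 * ind c i) / 4) % 2 = m % 2
      omega
    · funext i
      have := hdiv i
      simp only [mk]; omega
  · rintro ⟨m, c, hc, y, hy, rfl⟩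
    refine ⟨m, fun i => ?_, ?_, fun k => ?_⟩
    · simp only [mk, Int.ModEq]; omega
    · have := card_mod_four hc
      rw [Int.ModEq, sum_mk]
      omega
    · by_cases h0 : (k - m) % 4 = 0
      · convert compl_mem_supports hc using 1
        ext i
        rw [Finset.mem_filter, Finset.mem_compl, Int.ModEq]
        by_cases hi : i ∈ c <;> simp [mk, ind, hi] <;> omega
      · by_cases h2 : (k - m) % 4 = 2
        · convert hc using 1
          ext i
          rw [Finset.mem_filter, Int.ModEq]
          by_cases hi : i ∈ c <;> simp [mk, ind, hi] <;> omega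
        · convert empty_mem_CS using 1
          ext i
          rw [Finset.mem_filter, Int.ModEq]
          by_cases hi : i ∈ c <;> simp [mk, ind, hi] <;> omega

theorem ind_symmDiff (c d : Finset GolayPt) (i : GolayPt) :
    ind c i + ind d i = ind (symmDiff c d) i + 2 * ind (c ∩ d) i := by
  simp only [ind, Finset.mem_symmDiff, Finset.mem_inter]
  by_cases h : i ∈ c <;> by_cases h' : i ∈ d <;> simp [h, h']

theorem card_inter_even {c d : Finset GolayPt} (hc : c ∈ CS) (hd : d ∈ CS) : (c ∩ d).card % 2 = 0 := by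
  have h := card_mod_four (symmDiff_mem_supports hc hd)
  have h1 := card_mod_four hc
  have h2 := card_mod_four hd
  have hcard : (symmDiff c d).card = (c \ d).card + (d \ c).card :=
    Finset.card_union_of_disjoint disjoint_sdiff_sdiff
  have e1 := Finset.card_sdiff_add_card_inter c d
  have e2 := Finset.card_sdiff_add_card_inter d c
  rw [Finset.inter_comm d c] at e2
  omega

theorem zero_mem_leechSet : (0 : GolayPt → ℤ) ∈ leechSet :=
  mem_leechSet_iff.2 ⟨0, ∅, empty_mem_CS, 0, by simp, by funext i; simp [mk, ind]⟩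

theorem add_mem_leechSet {x x' : GolayPt → ℤ} (hx : x ∈ leechSet) (hx' : x' ∈ leechSet) :
    x + x' ∈ leechSet := by
  obtain ⟨m, c, hc, y, hy, rfl⟩ := mem_leechSet_iff.1 hx
  obtain ⟨m', c', hc', y', hy', rfl⟩ := mem_leechSet_iff.1 hx'
  refine mem_leechSet_iff.2 ⟨m + m', symmDiff c c', symmDiff_mem_supports hc hc',
    fun i => y i + y' i + ind (c ∩ c') i, ?_, ?_⟩
  · have := card_inter_even hc hc'
    simp only [Finset.sum_add_distrib, sum_ind]
    omega
  · funext i
    have := ind_symmDiff c c' i
    simp only [Pi.add_apply, mk]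
    linarith

theorem neg_mem_leechSet {x : GolayPt → ℤ} (hx : x ∈ leechSet) : -x ∈ leechSet := by
  obtain ⟨m, c, hc, y, hy, rfl⟩ := mem_leechSet_iff.1 hx
  refine mem_leechSet_iff.2 ⟨-m, c, hc, fun i => -(y i) - ind c i, ?_, ?_⟩
  · have := card_mod_four hc
    simp only [Finset.sum_sub_distrib, Finset.sum_neg_distrib, sum_ind]
    omega
  · funext i
    simp only [Pi.neg_apply, mk]
    ring

/-- the defining set as a subgroup -/
def leechSub : AddSubgroup (GolayPt → ℤ) where
  carrier := leechSet
  zero_mem' := zero_mem_leechSet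
  add_mem' := add_mem_leechSet
  neg_mem' := neg_mem_leechSet

theorem leechLattice_eq : leechLattice = leechSub :=
  le_antisymm ((AddSubgroup.closure_le _).2 (Set.Subset.refl _)) AddSubgroup.subset_closure

theorem mem_leechLattice {x : GolayPt → ℤ} : x ∈ leechLattice ↔ x ∈ leechSet := by
  rw [leechLattice_eq]; rfl

theorem mem_iff {x : GolayPt → ℤ} :
    x ∈ leechLattice ↔ ∃ m : ℤ, ∃ c ∈ CS, ∃ y : GolayPt → ℤ, (∑ i, y i) % 2 = m % 2 ∧ x = mk m c y := by
  rw [mem_leechLattice, mem_leechSet_iff]

theorem sqNorm_even {x : GolayPt → ℤ} (hx : x ∈ leechLattice) : (16 : ℤ) ∣ sqNorm x := by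
  obtain ⟨m, c, hc, y, hy, rfl⟩ := mem_iff.1 hx
  have he : sqNorm (mk m c y) = 24 * (m * m) + 4 * (m + 1) * (c.card : ℤ) + 8 * m * (∑ i, y i) +
      16 * (∑ i, (ind c i * y i + y i * y i)) := by
    have h1 : ∀ i, mk m c y i ^ 2 = m * m + 4 * (m + 1) * ind c i + 8 * m * y i +
        16 * (ind c i * y i + y i * y i) := by
      intro i
      have : ind c i * ind c i = ind c i := by unfold ind; split <;> simp
      simp only [mk]
      linear_combination 4 * this
    simp only [sqNorm, h1, Finset.sum_add_distrib, ← Finset.mul_sum, sum_ind, Finset.sum_const,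
      Finset.card_univ, card_pt, nsmul_eq_mul]
    push_cast
    ring
  rw [he]
  obtain ⟨q, hq⟩ : ∃ q, (c.card : ℤ) = 4 * q := ⟨(c.card : ℤ) / 4, by have := card_mod_four hc; omega⟩
  obtain ⟨r, hr⟩ : ∃ r, (∑ i, y i) = m + 2 * r := ⟨((∑ i, y i) - m) / 2, by omega⟩
  rw [hq, hr]
  refine ⟨(m + 1) * q + m * r + (m * m + m * m) + ∑ i, (ind c i * y i + y i * y i), ?_⟩
  ring

theorem sqNorm_add (x y : GolayPt → ℤ) : sqNorm (x + y) = sqNorm x + 2 * dotInt x y + sqNorm y := by
  simp only [sqNorm, dotInt, Finset.mul_sum, ← Finset.sum_add_distrib]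
  exact Finset.sum_congr rfl fun i _ => by simp only [Pi.add_apply]; ring

theorem sqNorm_sub (x y : GolayPt → ℤ) : sqNorm (x - y) = sqNorm x - 2 * dotInt x y + sqNorm y := by
  simp only [sqNorm, dotInt, Finset.mul_sum, ← Finset.sum_add_distrib, ← Finset.sum_sub_distrib]
  exact Finset.sum_congr rfl fun i _ => by simp only [Pi.sub_apply]; ring

theorem sqNorm_neg (x : GolayPt → ℤ) : sqNorm (-x) = sqNorm x := by
  simp [sqNorm]

theorem sqNorm_zero : sqNorm (0 : GolayPt → ℤ) = 0 := by simp [sqNorm]

theorem sqNorm_two_smul (x : GolayPt → ℤ) : sqNorm (2 • x) = 4 * sqNorm x := by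
  simp only [sqNorm, Pi.smul_apply, Finset.mul_sum, nsmul_eq_mul]
  exact Finset.sum_congr rfl fun i _ => by push_cast; ring

theorem dotInt_dvd {x y : GolayPt → ℤ} (hx : x ∈ leechLattice) (hy : y ∈ leechLattice) :
    (8 : ℤ) ∣ dotInt x y := by
  have h1 := sqNorm_even (add_mem hx hy)
  have h2 := sqNorm_even hx
  have h3 := sqNorm_even hy
  rw [sqNorm_add] at h1
  omega

theorem sqNorm_nonneg (x : GolayPt → ℤ) : 0 ≤ sqNorm x :=
  Finset.sum_nonneg fun i _ => sq_nonneg _

theorem min_norm {x : GolayPt → ℤ} (hx : x ∈ leechLattice) (h0 : x ≠ 0) : 32 ≤ sqNorm x := by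
  have h16 := sqNorm_even hx
  obtain ⟨m, c, hc, y, hy, rfl⟩ := mem_iff.1 hx
  rcases Int.emod_two_eq_zero_or_one m with hm | hm
  · by_cases hc0 : ∀ i, mk m c y i % 4 = 0
    · -- all coordinates divisible by four
      have hs : (∑ i, mk m c y i) % 8 = 0 := by
        have := card_mod_four hc
        rw [sum_mk]; omega
      obtain ⟨i, hi⟩ : ∃ i, mk m c y i ≠ 0 := by
        by_contra hne
        push Not at hne
        exact h0 (funext hne)
      have hi16 : 16 ≤ mk m c y i ^ 2 := by
        have := hc0 i
        rcases le_or_gt (mk m c y i) 0 with h | h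
        · have : mk m c y i ≤ -4 := by omega
          nlinarith
        · have : 4 ≤ mk m c y i := by omega
          nlinarith
      by_contra hlt
      push Not at hlt
      have hge : 16 ≤ sqNorm (mk m c y) :=
        le_trans hi16 (Finset.single_le_sum (f := fun j => mk m c y j ^ 2) (fun j _ => sq_nonneg _)
          (Finset.mem_univ i))
      have hall : ∀ j, j ≠ i → mk m c y j = 0 := by
        intro j hj
        by_contra hne
        have hj16 : 16 ≤ mk m c y j ^ 2 := by
          have := hc0 j
          rcases le_or_gt (mk m c y j) 0 with h | h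
          · have : mk m c y j ≤ -4 := by omega
            nlinarith
          · have : 4 ≤ mk m c y j := by omega
            nlinarith
        have := Finset.sum_le_sum_of_subset_of_nonneg (f := fun k => mk m c y k ^ 2)
          (Finset.subset_univ {i, j}) (fun k _ _ => sq_nonneg _)
        rw [Finset.sum_pair (Ne.symm hj)] at this
        simp only [sqNorm] at hlt
        omega
      rw [Finset.sum_eq_single i (fun j _ hj => hall j hj) (by simp)] at hs
      have hn : sqNorm (mk m c y) = mk m c y i ^ 2 := by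
        simp only [sqNorm]
        rw [Finset.sum_eq_single i (fun j _ hj => by rw [hall j hj]; rfl) (by simp)]
      rcases le_or_gt (mk m c y i) 0 with h | h
      · have : mk m c y i ≤ -8 := by
          have : mk m c y i ≠ 0 := fun e => by simp [e] at hi16
          omega
        nlinarith
      · have : 8 ≤ mk m c y i := by omega
        nlinarith
    · push Not at hc0
      obtain ⟨i, hi⟩ := hc0
      set s := Finset.univ.filter fun j => mk m c y j % 4 ≠ 0 with hs
      have hsCS : s ∈ CS := by
        by_cases hm4 : m % 4 = 0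
        · convert hc using 1
          ext j
          rw [hs, Finset.mem_filter]
          by_cases hi' : j ∈ c <;> simp [mk, ind, hi'] <;> omega
        · convert compl_mem_supports hc using 1
          ext j
          rw [hs, Finset.mem_filter, Finset.mem_compl]
          by_cases hi' : j ∈ c <;> simp [mk, ind, hi'] <;> omega
      have h8 : 8 ≤ s.card := by
        have : 0 < s.card := Finset.card_pos.2 ⟨i, Finset.mem_filter.2 ⟨Finset.mem_univ i, hi⟩⟩
        rcases card_supports hsCS with h | h | h | h | h <;> omega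
      have h4 : ∀ j ∈ s, 4 ≤ mk m c y j ^ 2 := by
        intro j hj
        simp only [hs, Finset.mem_filter] at hj
        have hev : mk m c y j % 2 = 0 := by simp only [mk]; omega
        rcases le_or_gt (mk m c y j) 0 with h | h
        · have : mk m c y j ≤ -2 := by omega
          nlinarith
        · have : 2 ≤ mk m c y j := by omega
          nlinarith
      have h5 := Finset.card_nsmul_le_sum s (fun j => mk m c y j ^ 2) 4 h4
      rw [nsmul_eq_mul] at h5
      have h6 := Finset.sum_le_sum_of_subset_of_nonneg (f := fun j => mk m c y j ^ 2)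
        (Finset.subset_univ s) (fun k _ _ => sq_nonneg _)
      simp only [sqNorm]
      push_cast at h5
      omega
  · have h1 : ∀ j, 1 ≤ mk m c y j ^ 2 := by
      intro j
      have : mk m c y j ≠ 0 := by simp only [mk]; omega
      have := sq_pos_iff.2 this
      omega
    have h5 := Finset.card_nsmul_le_sum Finset.univ (fun j => mk m c y j ^ 2) 1 (fun j _ => h1 j)
    rw [Finset.card_univ, card_pt, nsmul_eq_mul] at h5
    simp only [sqNorm] at h16 ⊢
    push_cast at h5
    omega

/-- two short lattice vectors congruent modulo 2 have equal norm and are equal up to sign below 64 -/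
theorem short_congruent {v w : GolayPt → ℤ} (hv : v ∈ leechLattice) (hw : w ∈ leechLattice)
    (hvn : sqNorm v ≤ 64) (hwn : sqNorm w ≤ 64)
    (hc : ∃ z ∈ leechLattice, v - w = 2 • z) (hne : w ≠ v) (hne' : w ≠ -v) :
    sqNorm v = 64 ∧ sqNorm w = 64 ∧ dotInt v w = 0 := by
  obtain ⟨z, hz, hvw⟩ := hc
  have hz' : v + w = 2 • (z + w) := by rw [nsmul_add, ← hvw, two_nsmul]; abel
  have hz0 : z ≠ 0 := fun e => hne (by rw [e, smul_zero, sub_eq_zero] at hvw; exact hvw.symm)
  have hz0' : z + w ≠ 0 := fun e => hne' (by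
    rw [e, smul_zero] at hz'
    exact eq_neg_of_add_eq_zero_right hz')
  have m1 := min_norm hz hz0
  have m2 := min_norm (add_mem hz hw) hz0'
  have e1 := congrArg sqNorm hvw
  have e2 := congrArg sqNorm hz'
  rw [sqNorm_two_smul, sqNorm_sub] at e1
  rw [sqNorm_two_smul, sqNorm_add] at e2
  exact ⟨by omega, by omega, by omega⟩

theorem perm_invariant {σ : Equiv.Perm GolayPt} (hσ : σ ∈ M24) {x : GolayPt → ℤ}
    (hx : x ∈ leechLattice) : (fun i => x (σ i)) ∈ leechLattice := by
  obtain ⟨m, c, hc, y, hy, rfl⟩ := mem_iff.1 hx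
  refine mem_iff.2 ⟨m, σ⁻¹ • c, smul_mem_supports (inv_mem hσ) hc, fun i => y (σ i), ?_, ?_⟩
  · rwa [Equiv.sum_comp σ y]
  · funext i
    simp only [mk, ind, Finset.mem_inv_smul_finset_iff, Equiv.Perm.smul_def]

theorem sign_invariant {d : Finset GolayPt} (hd : d ∈ CS) {x : GolayPt → ℤ} (hx : x ∈ leechLattice) :
    (fun i => if i ∈ d then -x i else x i) ∈ leechLattice := by
  obtain ⟨m, c, hc, y, hy, rfl⟩ := mem_iff.1 hx
  rcases Int.emod_two_eq_zero_or_one m with hm | hm
  · refine mem_iff.2 ⟨m, c, hc,
      fun i => y i - ind d i * (m / 2 + ind c i + 2 * y i), ?_, ?_⟩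
    · have h1 := card_inter_even hd hc
      have h2 := card_mod_four hd
      have e : ∀ i, ind d i * (m / 2 + ind c i + 2 * y i) =
          m / 2 * ind d i + ind (d ∩ c) i + 2 * (ind d i * y i) := by
        intro i
        have : ind (d ∩ c) i = ind d i * ind c i := by
          simp only [ind, Finset.mem_inter]; by_cases h : i ∈ d <;> by_cases h' : i ∈ c <;> simp [h, h']
        rw [this]; ring
      simp only [e, Finset.sum_sub_distrib, Finset.sum_add_distrib, ← Finset.mul_sum, sum_ind]
      obtain ⟨k, hk⟩ : ∃ k, (d.card : ℤ) = 2 * k := ⟨(d.card : ℤ) / 2, by omega⟩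
      obtain ⟨l, hl⟩ : ∃ l, ((d ∩ c).card : ℤ) = 2 * l := ⟨((d ∩ c).card : ℤ) / 2, by omega⟩
      rw [hk, hl, show m / 2 * (2 * k) = 2 * (m / 2 * k) by ring]
      omega
    · obtain ⟨h, rfl⟩ : ∃ h, m = 2 * h := ⟨m / 2, by omega⟩
      funext i
      rw [show (2 * h) / 2 = h by omega]
      simp only [mk, ind]
      split <;> split <;> ring
  · refine mem_iff.2 ⟨m, symmDiff c d, symmDiff_mem_supports hc hd,
      fun i => y i - ind d i * ((m + 1) / 2 + 2 * y i), ?_, ?_⟩
    · have h2 := card_mod_four hd
      have e : ∀ i, ind d i * ((m + 1) / 2 + 2 * y i) = (m + 1) / 2 * ind d i + 2 * (ind d i * y i) := by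
        intro i; ring
      simp only [e, Finset.sum_sub_distrib, Finset.sum_add_distrib, ← Finset.mul_sum, sum_ind]
      obtain ⟨k, hk⟩ : ∃ k, (d.card : ℤ) = 2 * k := ⟨(d.card : ℤ) / 2, by omega⟩
      rw [hk, show (m + 1) / 2 * (2 * k) = 2 * ((m + 1) / 2 * k) by ring]
      omega
    · obtain ⟨h, rfl⟩ : ∃ h, m = 2 * h + 1 := ⟨m / 2, by omega⟩
      funext i
      rw [show (2 * h + 1 + 1) / 2 = h + 1 by omega]
      simp only [mk, ind, Finset.mem_symmDiff]
      by_cases hi : i ∈ c <;> by_cases hj : i ∈ d <;> simp [hi, hj] <;> ring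

end CfsgLib.Leech
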