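import Cfsg.Agent.Lib.Leech.CharFrame
import Cfsg.Agent.Lib.Leech.CharCode
import Cfsg.Agent.Lib.Leech.Lattice
import Cfsg.Agent.Lib.Steiner.Witt

/-!
A rank-24 even lattice without roots and with the theta counts 196560, 16773120, 398034000 is the
lattice built from the length-24 code.
-/

set_option autoImplicit false
set_option maxRecDepth 8000

namespace CfsgLib.Leech.Char

open Cfsg Matrix

theorem sqNorm_fr {B : Matrix (Fin 24) (Fin 24) ℤ} {v : Fin 24 → V} (hv : IsFrame B v) (h : Good B)
    (x : V) : sqNorm (fr v B x) = 8 * quad B x := by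
  rw [quad, ← hv.dot_fr h x x]
  exact Finset.sum_congr rfl fun i _ => sq _

theorem coords_of_frame {B : Matrix (Fin 24) (Fin 24) ℤ} {v : Fin 24 → V} (hv : IsFrame B v)
    (h : Good B) (h4 : {x : V | quad B x = 4}.ncard = 196560) : Coords (fr v B).range := by
  have key : ∀ i j : Fin 24, i ≠ j → ∃ w : V,
      fr v B w = (Pi.single i 4 - Pi.single j 4 : V) ∧ fr v B (w + v j) = (Pi.single i 4 + Pi.single j 4 : V) := by
    intro i j hij
    obtain ⟨w, hw⟩ := exists_two_smul (hv.congr i j)
    have e := congrArg (fr v B) hw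
    rw [map_sub, map_zsmul, hv.fr_self, hv.fr_self] at e
    refine ⟨w, funext fun k => ?_, funext fun k => ?_⟩
    · have ek := congrFun e k
      simp only [Pi.sub_apply, Pi.smul_apply, smul_eq_mul, Pi.single_apply] at ek ⊢
      split_ifs at ek ⊢ <;> omega
    · have ek := congrFun e k
      rw [map_add, hv.fr_self]
      simp only [Pi.sub_apply, Pi.add_apply, Pi.smul_apply, smul_eq_mul, Pi.single_apply] at ek ⊢
      split_ifs at ek ⊢ <;> omega
  refine ⟨?_, ?_, ?_, ?_, ?_, fun i => ⟨v i, hv.fr_self i⟩, ?_⟩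
  · rintro _ ⟨x, rfl⟩
    rw [sqNorm_fr hv h]
    have := h.even x
    omega
  · rintro _ ⟨x, rfl⟩ _ ⟨y, rfl⟩
    exact ⟨_, hv.dot_fr h x y⟩
  · rintro _ ⟨x, rfl⟩ hne
    rw [sqNorm_fr hv h]
    have := h.four_le (x := x) (fun e => hne (by rw [e, map_zero]))
    omega
  · intro i j hij
    obtain ⟨w, -, hw⟩ := key i j hij
    exact ⟨_, hw⟩
  · intro i j hij
    obtain ⟨w, hw, -⟩ := key i j hij
    exact ⟨_, hw⟩
  · have e : {x : Z | x ∈ (fr v B).range ∧ sqNorm x = 32} = fr v B '' {x : V | quad B x = 4} := by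
      ext z
      constructor
      · rintro ⟨⟨x, rfl⟩, hz⟩
        rw [sqNorm_fr hv h] at hz
        exact ⟨x, by show quad B x = 4; omega, rfl⟩
      · rintro ⟨x, hx, rfl⟩
        refine ⟨⟨x, rfl⟩, ?_⟩
        rw [sqNorm_fr hv h, show quad B x = 4 from hx]
        rfl
    rw [e, Set.ncard_image_of_injective _ (hv.fr_injective h), h4]

/-- with a vector congruent to the all-one vector modulo 4, such a lattice is the coded one -/
theorem eq_leech {L : AddSubgroup Z} (hL : Coords L) {y₀ : Z} (h₀ : (fun i => 1 + 4 * y₀ i) ∈ L)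
    (φ : Fin 24 ≃ GolayPt) (hφ : ∀ w : GolayPt → ZMod 2, w ∈ golayCode ↔ (fun i => w (φ i)) ∈ code L)
    (x : GolayPt → ℤ) : x ∈ leechLattice ↔ (fun i => x (φ i)) ∈ L := by
  classical
  have hdvd : ∀ c : W, c ∈ code L → (4 : ℤ) ∣ ((support₂ c).card : ℤ) := by
    intro c hc
    by_cases h0 : c = 0
    · simp [h0, support₂]
    · have := (hL.weight hc h0).1
      omega
  have par₀ : (2 : ℤ) ∣ ∑ i, y₀ i - 1 := by
    have h16 := hL.norm16 _ h₀
    have e : sqNorm (fun i => 1 + 4 * y₀ i) = 24 + 8 * ∑ i, y₀ i + 16 * ∑ i, y₀ i ^ 2 := by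
      rw [show (24 : ℤ) = ∑ _i : Fin 24, 1 by simp, Finset.mul_sum, Finset.mul_sum,
        ← Finset.sum_add_distrib, ← Finset.sum_add_distrib]
      exact Finset.sum_congr rfl fun i _ => by ring
    omega
  -- parity of the correction of an even vector
  have par : ∀ c : W, c ∈ code L → ∀ y : Z, (fun i => 2 * bit01 (c i) + 4 * y i) ∈ L →
      (2 : ℤ) ∣ ∑ i, y i := by
    intro c hc y hy
    have h8 := hL.dot8 _ hy _ h₀
    have e : dotInt (fun i => 2 * bit01 (c i) + 4 * y i) (fun i => 1 + 4 * y₀ i) =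
        2 * ∑ i, bit01 (c i) + 4 * ∑ i, y i +
          8 * ∑ i, (bit01 (c i) * y₀ i + 2 * (y i * y₀ i)) := by
      rw [Finset.mul_sum, Finset.mul_sum, Finset.mul_sum, ← Finset.sum_add_distrib, ← Finset.sum_add_distrib]
      exact Finset.sum_congr rfl fun i _ => by ring
    rw [sum_bit01] at e
    have := hdvd c hc
    omega
  -- indicators
  have hind : ∀ (w : GolayPt → ZMod 2) (i : Fin 24), ind (support₂ w) (φ i) = bit01 (w (φ i)) := by
    intro w i
    simp [ind, bit01, support₂]
  constructor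
  · intro hx
    obtain ⟨m, c, ⟨w, hw, rfl⟩, y, hy, rfl⟩ := mem_iff.1 hx
    set c' : W := fun i => w (φ i) with hc'
    have hc : c' ∈ code L := (hφ w).1 hw
    obtain ⟨y', hy'⟩ := mem_code.1 hc
    have hp := par _ hc _ hy'
    have hm : (m • fun i => 1 + 4 * y₀ i) + (fun i => 2 * bit01 (c' i) + 4 * y' i) ∈ L :=
      add_mem (zsmul_mem h₀ m) hy'
    have hm' : (fun i => (m + 2 * bit01 (c' i)) + 4 * (m * y₀ i + y' i)) ∈ L := by
      convert hm using 1
      funext i
      simp only [Pi.add_apply, Pi.smul_apply, smul_eq_mul]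
      ring
    have := hL.shift hm' (y' := fun i => y (φ i)) (by
      rw [Equiv.sum_comp φ y, Finset.sum_add_distrib, ← Finset.mul_sum]
      obtain ⟨k, hk⟩ := par₀
      rw [show ∑ i, y₀ i = 2 * k + 1 by omega, show m * (2 * k + 1) = 2 * (m * k) + m by ring]
      omega)
    convert this using 1
    funext i
    simp only [mk, hind, hc']
  · intro hx
    set z : Z := fun i => x (φ i) with hz
    set m := z 0 % 2 with hm
    set u : Z := z - m • fun i => 1 + 4 * y₀ i with hu'
    have hu : u ∈ L := sub_mem hx (zsmul_mem h₀ m)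
    have hev : ∀ i, u i % 2 = 0 := by
      intro i
      have h1 := hL.same_parity hx i 0
      have hm2 : m = 0 ∨ m = 1 := by omega
      simp only [hu', Pi.sub_apply, Pi.smul_apply, smul_eq_mul]
      rcases hm2 with e | e <;> rw [e] <;> omega
    have hc := pat_mem hu hev
    have hform : (fun i => 2 * bit01 (pat u i) + 4 * ((u i / 2) / 2)) = u := by
      funext i
      have h1 := bit01_mod (u i / 2)
      have := hev i
      show 2 * bit01 ((u i / 2 : ℤ) : ZMod 2) + 4 * ((u i / 2) / 2) = u i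
      omega
    have hp := par _ hc _ (hform.symm ▸ hu)
    set w : GolayPt → ZMod 2 := fun p => pat u (φ.symm p) with hw'
    have hw : w ∈ golayCode := (hφ w).2 (by simpa [hw'] using hc)
    refine mem_iff.2 ⟨m, support₂ w, ⟨w, hw, rfl⟩,
      fun p => (u (φ.symm p) / 2) / 2 + m * y₀ (φ.symm p), ?_, ?_⟩
    · rw [Equiv.sum_comp φ.symm fun i => (u i / 2) / 2 + m * y₀ i, Finset.sum_add_distrib, ← Finset.mul_sum]
      obtain ⟨k, hk⟩ := par₀
      rw [show ∑ i, y₀ i = 2 * k + 1 by omega, show m * (2 * k + 1) = 2 * (m * k) + m by ring]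
      omega
    · funext p
      have e := congrFun hform (φ.symm p)
      have e2 : u (φ.symm p) = x p - m * (1 + 4 * y₀ (φ.symm p)) := by simp [hu', hz]
      have e3 : ind (support₂ w) p = bit01 (pat u (φ.symm p)) := by
        simp [ind, bit01, support₂, hw']
      simp only [mk, e3]
      linear_combination (-1 : ℤ) * e - e2

theorem characterisation (B : Matrix (Fin 24) (Fin 24) ℤ) (h : Good B)
    (h4 : {x : V | quad B x = 4}.ncard = 196560) (h6 : {x : V | quad B x = 6}.ncard = 16773120)
    (h8 : {x : V | quad B x = 8}.ncard = 398034000) :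
    ∃ f : V ≃+ leechLattice, ∀ x : V, sqNorm ((f x : leechLattice) : GolayPt → ℤ) = 8 * quad B x := by
  classical
  obtain ⟨v₀, hv₀⟩ := exists_frame h h4 h6 h8
  obtain ⟨-, -, z, ⟨x₀, hx₀⟩, hodd⟩ := (coords_of_frame hv₀ h h4).structure_thm
  set e : Fin 24 → ℤ := fun i => if z i % 4 = 1 then 1 else -1 with he
  set v : Fin 24 → V := fun i => e i • v₀ i with hv'
  have hv : IsFrame B v := hv₀.sign e fun i => by simp only [he]; split <;> simp
  have hL := coords_of_frame hv h h4
  obtain ⟨hdim, hblk, -⟩ := hL.structure_thm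
  have h₀ : (fun i => 1 + 4 * ((e i * z i - 1) / 4)) ∈ (fr v B).range := by
    refine ⟨x₀, funext fun i => ?_⟩
    have hz : bil B x₀ (v₀ i) = z i := congrFun hx₀ i
    rw [fr_apply, hv']
    simp only [bil_smul_right, hz]
    have := hodd i
    simp only [he]
    split <;> omega
  obtain ⟨φ, hφ⟩ := CfsgLib.Steiner.exists_octad_label (Fintype.card_fin 24) hblk
  have hcode := fun w => CfsgLib.Steiner.code_unique hdim (φ := φ) (fun w hw => by
    have hmem : support₂ (fun i => w (φ i)) ∈ blocks (fr v B).range := by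
      rw [← hφ, CfsgLib.Steiner.mem_pullback]
      convert hw using 1
      ext p
      simp only [support₂, Finset.mem_image, Finset.mem_filter, Finset.mem_univ, true_and]
      exact ⟨fun ⟨i, hi, e⟩ => e ▸ hi, fun hp => ⟨φ.symm p, by simpa using hp, φ.apply_symm_apply p⟩⟩
    obtain ⟨⟨c, hc, hcw⟩, -⟩ := hmem
    suffices e : (fun i => w (φ i)) = c by rw [e]; exact hc
    funext i
    have := Finset.ext_iff.1 hcw i
    simp only [support₂, Finset.mem_filter, Finset.mem_univ, true_and] at this
    revert this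
    generalize c i = p
    generalize w (φ i) = q
    revert p q
    decide) w
  have heq := eq_leech hL h₀ φ hcode
  have hmem : ∀ x : V, (fun p => fr v B x (φ.symm p)) ∈ leechLattice := fun x =>
    (heq _).2 ⟨x, funext fun i => by simp⟩
  let g : V →+ leechLattice :=
    { toFun := fun x => ⟨fun p => fr v B x (φ.symm p), hmem x⟩
      map_zero' := Subtype.ext (funext fun p => by simp)
      map_add' := fun a b => Subtype.ext (funext fun p => by simp) }
  have hg : Function.Bijective g := by
    refine ⟨fun a b hab => hv.fr_injective h (funext fun i => ?_), fun y => ?_⟩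
    · simpa [g] using congrFun (congrArg Subtype.val hab) (φ i)
    · obtain ⟨x, hx⟩ := (heq _).1 y.2
      refine ⟨x, Subtype.ext (funext fun p => ?_)⟩
      simpa [g] using congrFun hx (φ.symm p)
  refine ⟨AddEquiv.ofBijective g hg, fun x => ?_⟩
  rw [← sqNorm_fr hv h]
  exact Equiv.sum_comp φ.symm fun i => fr v B x i ^ 2

end CfsgLib.Leech.Char
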