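import Cfsg.Agent.Lib.Leech.Aut

/-!
Generators of the monomial group and automorphisms carrying the standard short vectors into the
fibre orbits.
-/

set_option autoImplicit false
set_option maxRecDepth 20000

namespace CfsgLib.Leech

/-- the zero vector and the standard vectors of norms 32, 48 and 64 -/
def mains : List (List ℤ) :=
  [
   [0, 0, 0, 0, 0, 0, 0, 0, 0, 0, 0, 0, 0, 0, 0, 0, 0, 0, 0, 0, 0, 0, 0, 0],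
   [4, 0, 0, 0, 0, 0, 0, 0, 0, 0, 0, 0, 0, 0, 0, 0, 0, 0, 0, 0, 0, 0, 0, 4],
   [-1, -1, -1, -1, -1, -1, -1, -1, -1, -1, -1, -1, -1, -1, -1, -1, -1, -1, -1, -1, -1, -1, -1, -5],
   [0, 0, 0, 0, 0, 0, 0, 0, 0, 0, 0, 0, 0, 0, 0, 0, 0, 0, 0, 0, 0, 0, 0, 8]]

/-- signed permutations generating the monomial group: permutation, sign mask, matrix modulo two -/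
def monoGens : List (ℕ × ℕ × List ℕ) :=
  [
   (983478296959358443554250846857397270, 0, [12705793, 294916, 3297294, 7344147, 11759649, 294981, 12705923, 4473102, 7344642, 7509030, 3721296, 5607178, 28672, 1318912, 1339392, 9334784, 5488640, 40960, 11358208, 15085568, 13242368, 14442496, 1908736, 12636160]),
   (1795248432537898728475572672376535, 0, [6852609, 4794494, 15081915, 7335095, 10465711, 8188829, 16324414, 1489129, 3337751, 13519484, 14619499, 13533308, 16322560, 10637312, 5001216, 5017600, 11800576, 6230016, 12021760, 2846720, 10817536, 14639104, 2686976, 3477504]),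
   (980275914351787324191492553553580224, 0, [1, 8932746, 568221, 4665071, 1542558, 14449782, 10015686, 16088494, 1375102, 16610787, 8507892, 11145206, 14983168, 28672, 8630272, 159744, 14753792, 7921664, 3166208, 10776576, 598016, 1097728, 3862528, 1581056]),
   (984818244535754528103549039458486304, 13062145, [9486339, 2, 294916, 3592200, 14733330, 7508000, 13013058, 1704064, 7737600, 15254016, 5264384, 2000896, 4096, 8192, 16384, 9453568, 9551872, 9617408, 9748480, 524288, 8437760, 2097152, 13680640, 8388608])]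

/-- the sextet automorphism -/
def xiW : List (List ℤ) :=
  [
   [-3, 1, 1, 1, 1, 1, 1, 1, 1, 1, 1, 1, 1, 1, 1, 1, 1, 1, 1, 1, 1, 1, 1, 1],
   [1, -1, -1, -1, 1, 3, 1, 1, 1, 1, 1, 1, -1, 1, 1, 1, -1, 1, -1, 1, 1, 1, -1, 1],
   [2, -2, 0, 0, 0, 2, 0, 0, -2, 0, 0, 0, 0, 2, 2, 0, -2, 0, -2, 0, 0, 0, 0, 0],
   [1, 1, -1, 1, -1, -1, -1, -1, -1, -1, -1, -1, 1, -1, -1, 1, -1, -1, -1, -1, -1, -3, 1, 1],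
   [-2, 2, 2, 0, 0, 0, 0, 0, 0, 0, 0, 0, 2, 0, 0, 0, 0, 2, 0, 2, -2, 0, 2, 0],
   [1, -1, -1, -1, 1, 1, 1, -1, -1, 1, -1, 1, -1, 1, -1, -1, -1, 1, -3, 1, 1, -1, -1, 1],
   [-3, 1, 1, 1, 1, -1, 1, 1, 1, 1, 1, 1, 1, -1, -1, 1, 1, -1, -1, 1, -1, -1, 1, -1],
   [1, -1, -1, -1, 1, 1, 1, 1, -1, -1, 1, -1, -1, -1, 1, 1, -3, -1, -1, 1, -1, 1, -1, 1],
   [-1, -1, 1, -1, -1, -1, 1, 1, -1, 1, -1, 1, -1, -1, 1, -1, -1, 1, 1, 1, 1, 1, -1, -3],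
   [-1, -1, -1, 1, 1, 1, 1, 1, -1, 1, 1, 1, -1, -1, 1, -1, -1, -1, -1, -3, 1, -1, -1, 1],
   [-1, 1, -1, -1, 1, -1, -1, 1, 1, 1, 1, -1, -1, -3, -1, -1, 1, 1, -1, 1, 1, 1, -1, -1],
   [0, 0, 2, -2, -2, 0, 0, -2, -2, 0, 0, 0, 0, 0, 2, -2, 0, 2, 0, 0, 0, 4, 0, 0],
   [0, 0, 0, 0, 0, 0, 0, 0, -4, 0, 0, 0, 0, 4, 4, -4, 0, 0, 0, 0, 0, 4, 0, -4],
   [0, 0, 0, 0, 0, -2, 2, 0, -2, 2, 0, 2, 0, 2, -2, -2, 2, -2, -2, -2, 6, -2, -2, 2],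
   [0, 0, 0, 0, 0, -2, 2, 0, 2, 2, 0, 2, 0, -2, -6, -2, 2, 2, -2, 2, 2, -2, -2, 2],
   [0, 0, 0, 0, 0, 0, 2, 0, 2, 2, 0, 2, 0, 0, 0, 2, -2, 0, 4, 2, -4, 0, -2, 0],
   [0, 0, 0, 0, -2, 2, 0, -2, 0, 0, -2, 0, 2, 8, 2, 0, 0, -2, 0, 0, 0, 0, 0, 2],
   [0, 0, 0, 0, 0, -2, 0, 0, 0, 0, 0, 0, 0, -2, -2, 0, 0, -2, -2, 0, -6, 6, 0, 2],
   [0, 0, 0, 0, 2, 2, 0, 2, 4, 0, 2, 0, -2, -4, -2, -4, 12, 2, 8, -4, 0, 4, 0, 2],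
   [0, 0, 0, 0, 0, -4, 0, 0, -2, 0, 0, 0, 0, 6, 0, -2, -2, -4, 6, 2, 2, -2, 0, 0],
   [0, 0, 0, 0, 0, 6, 2, 0, -2, 2, 0, 2, 0, -2, -2, -2, -2, 6, 2, 2, -2, -2, -2, 2],
   [0, 0, 0, 0, 0, -2, 0, 0, 2, 0, 0, 0, 0, 0, 2, -2, 2, 2, -4, 2, 4, 0, 0, -6],
   [0, 0, 0, 0, -2, -6, 0, -2, -4, 0, -2, 0, 2, 0, 2, 0, 0, -6, 0, -4, -8, -8, 0, -2],
   [0, 0, 0, 0, 0, 4, -2, 0, -6, -2, 0, -2, 0, 0, 0, -2, -2, 0, 0, -2, 0, 0, 2, 4]]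

/-- images of the basis under automorphisms, with the type moved and the class reached -/
def mergeData : List (ℕ × ℕ × List (List ℤ)) :=
  [(0, 0, [
   [3, -1, -1, -1, -1, -1, -1, -1, -1, -1, -1, -1, -1, -1, -1, -1, -1, -1, -1, -1, -1, -1, -1, -1],
   [-2, 0, 0, 0, 0, 0, 0, 0, 0, 0, 0, 0, -2, 0, -2, 0, -2, -2, -2, 0, 0, 0, -2, -2],
   [-2, 2, 0, 0, 0, 0, 0, 0, 0, 0, 0, 0, 0, 2, 0, 2, 0, -2, -2, 2, 0, 0, 0, -2],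
   [0, 0, 2, 0, 0, 0, 0, 0, 0, 0, 0, 0, 2, 2, 0, 2, 0, 0, 2, 0, 2, 0, 2, 2],
   [3, -1, -1, 1, -1, -1, -1, -1, -1, -1, -1, -1, 1, 1, -1, -1, -1, 1, 1, 1, -1, 1, 1, -1],
   [-2, 0, 0, 0, 2, 0, 0, 0, 0, 0, 0, 0, 0, 2, -2, 0, 0, 0, -2, 2, 2, 0, -2, 0],
   [3, -1, -1, -1, -1, 1, -1, -1, -1, -1, -1, -1, -1, 1, 1, -1, -1, 1, 1, -1, 1, 1, -1, 1],
   [-2, 0, 0, 0, 0, 0, 2, 0, 0, 0, 0, 0, -2, 0, 0, 2, -2, -2, 0, 2, 0, 2, 0, 0],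
   [0, 0, -2, 0, 0, 0, 0, 2, 0, 0, 0, 0, 0, -2, 2, 0, 0, 2, 0, 2, 0, 0, -2, -2],
   [0, 0, 0, -2, 0, 0, 0, 0, 2, 0, 0, 0, -2, 0, 0, 2, 2, -2, 0, 0, 2, 0, -2, 0],
   [0, -2, 0, 0, 0, 0, 0, 0, 0, 2, 0, 0, -2, -2, 0, -2, 0, 2, 0, 0, 2, 2, 0, 0],
   [0, 0, -2, 2, 0, -2, 0, 0, 0, 0, 2, 0, 2, -2, 0, 0, 2, 0, -2, 2, -2, 2, 0, -2],
   [0, 0, 0, 0, 0, 0, 0, 0, 0, 0, 0, 0, 0, 0, 4, 0, 4, 0, -4, 4, -4, 0, 0, -4],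
   [0, 0, 0, 0, 0, 0, 0, 0, 0, 0, 0, 0, 0, 0, 0, 0, 4, 0, -4, 0, 4, -4, -4, 4],
   [0, 0, 0, 0, 0, 0, 0, 0, 0, 0, 0, 0, 0, 0, -4, -4, 0, 4, 0, 0, 4, 0, -4, 4],
   [0, 0, 0, 0, 0, 0, 0, 0, 0, 0, 0, 0, 0, 0, 0, 0, -4, 0, 4, 0, -4, 0, -4, 0],
   [0, 0, 0, 0, 0, 0, 0, 0, 0, 0, 0, 0, 4, 4, 0, 0, 0, -4, -4, 0, -4, -4, 0, 0],
   [0, 0, 0, 0, 0, 0, 0, 0, 0, 0, 0, 0, 0, 0, 0, 0, 0, 0, 0, 0, -4, 8, 0, 4],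
   [0, 0, 0, 0, 0, 0, 0, 0, 0, 0, 0, 0, -4, -8, -4, -8, 8, 0, 4, -8, -4, 0, 0, 0],
   [0, 0, 0, 0, 0, 0, 0, 0, 0, 0, 0, 0, 0, 0, 4, 0, 0, 0, 0, 4, -4, -8, 0, 4],
   [0, 0, 0, 0, 0, 0, 0, 0, 0, 0, 0, 0, 0, 0, -8, 0, 0, 0, 4, 4, 0, 0, -4, -4],
   [0, 0, 0, 0, 0, 0, 0, 0, 0, 0, 0, 0, 0, 0, 4, -4, 0, 4, -4, 0, 4, 0, 0, -4],
   [0, 0, 0, 0, 0, 0, 0, 0, 0, 0, 0, 0, 4, 8, 8, 4, 4, 0, 8, 0, 0, 0, 0, 4],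
   [0, 0, 0, 0, 0, 0, 0, 0, 0, 0, 0, 0, 0, 0, -4, 4, 4, -4, 0, 4, 0, 0, 4, 0]]),
   (1, 4096, [
   [1, -3, -1, 1, -1, -1, -1, 1, -1, 1, 1, -1, 1, -1, 1, 1, -1, -1, 1, -1, 1, 1, -1, -1],
   [0, 2, -2, 2, 0, 0, 0, 0, -2, 2, 2, 0, 0, 0, 2, 0, 0, 0, 2, 0, 0, 0, 0, 0],
   [0, 2, -2, 0, 2, 0, 0, 0, 0, 0, 2, 2, 0, 0, 0, 0, 0, 0, 2, 0, -2, 0, 2, 0],
   [-2, 0, 2, -2, 2, 0, 0, 0, 0, 0, 0, 2, 0, 0, -2, 0, 2, 0, -2, 0, 0, 0, 0, 0],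
   [1, -3, -1, -1, 1, -1, -1, 1, -1, 1, -1, -1, -1, -1, -1, -1, -1, -1, -1, -1, 1, 1, 1, -1],
   [0, 2, 0, 0, 2, 0, 2, 0, 0, 2, 0, 0, 0, 0, 2, 0, 2, 0, 2, 0, 0, 0, 2, 0],
   [1, -3, 1, 1, 1, -1, -1, 1, -1, -1, -1, -1, -1, -1, 1, 1, 1, -1, -1, -1, 1, 1, -1, 1],
   [0, 2, 0, 2, 0, 0, 0, 0, -2, 0, 2, 2, -2, 0, 0, 0, 0, 0, 0, 2, 0, 0, 2, 0],
   [2, 0, -2, 0, -2, 0, 0, 0, 0, -2, -2, 0, 0, 0, 2, 0, 0, 2, 0, 0, 0, 0, 2, 0],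
   [0, 0, 0, 2, 0, 0, 0, 0, 2, 0, 2, 2, 0, 2, 2, 2, 2, 0, 0, 0, 0, 0, 0, 0],
   [0, 0, 0, 2, -2, 2, 0, 0, 0, 0, -2, -2, -2, 0, 0, 0, 2, 0, 0, 0, 2, 0, 0, 0],
   [2, 0, -2, -2, -2, 0, 0, -2, 2, 0, 0, 0, -2, 0, 0, -2, -2, 0, 2, 0, 0, 0, 2, -2],
   [0, 0, -4, 0, 0, 0, 0, 0, 4, -4, 0, 0, 0, 0, 0, 0, -4, 0, 4, 0, 0, 0, 4, 0],
   [0, 0, 4, 0, 0, 0, 0, 0, 4, 0, 0, 0, 4, 0, 4, 0, 4, 0, 4, 0, 0, 0, 0, 0],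
   [0, 0, 4, 0, 0, 0, 0, 0, 0, 4, -4, -4, 0, 0, 4, 0, 4, 0, 0, 0, 0, 0, 0, 0],
   [0, 0, 0, 0, 0, 0, 0, 0, -4, 0, 0, 0, 0, 0, 4, 0, -4, 0, -4, 0, 0, 0, 0, 0],
   [0, 0, 0, -4, 4, 0, 0, 0, 0, 0, 4, 0, 4, 0, 0, 0, -4, 0, 4, 0, 0, 0, 0, 0],
   [0, 0, 4, 0, 0, 0, 0, 0, 0, 0, 0, 0, -8, 0, 0, 0, -4, 0, 0, 0, 0, 0, 0, 0],
   [0, 0, 0, 4, -8, 0, 0, 0, 8, 4, 0, -8, 0, 0, 0, 0, -4, 0, -4, 0, 0, 0, -8, 0],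
   [0, 0, 4, 0, 0, 0, 0, 0, 0, -4, 0, 0, 8, 0, 0, 0, -4, 0, 0, 0, 0, 0, 4, 0],
   [0, 0, -4, 0, 0, 0, 0, 0, 0, 8, 0, 0, 0, 0, 4, 0, 0, 0, -4, 0, 0, 0, 4, 0],
   [0, 0, -4, 0, 0, 0, 0, 0, 0, -4, -4, -4, 0, 0, 0, 0, 4, 0, 4, 0, 0, 0, 0, 0],
   [0, 0, 4, -4, 8, 0, 0, 0, 4, -8, 0, 4, 0, 0, 0, 0, 0, 0, -8, 0, 0, 0, 0, 0],
   [0, 0, 0, 0, 0, 0, 0, 0, 4, 4, 4, 4, 0, 0, -4, 0, 0, 0, 0, 0, 0, 0, 4, 0]]),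
   (3, 12288, [
   [0, 0, 0, 2, 0, -2, 0, 2, 0, -2, 2, 0, 2, 0, 0, 0, 0, 0, -2, -2, 0, 0, 0, 0],
   [-1, 1, -1, 1, -1, -1, 1, -1, -1, -3, -1, 1, -1, 1, 1, 1, 1, 1, -1, -1, 1, -1, 1, -1],
   [-1, 1, -1, 1, -1, 1, 1, -1, -1, -1, -1, 1, -1, -1, 1, 1, -1, 1, 1, 1, 1, -1, 3, 1],
   [1, -1, 1, -1, 1, 1, 1, 1, -1, 3, -1, -1, -1, 1, -1, 1, -1, -1, 1, 1, -1, -1, 1, 1],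
   [0, 0, 2, 0, 0, -2, 2, 2, 0, 0, 2, 0, 2, 0, 0, 0, -2, 0, 0, 0, 0, 2, 0, 0],
   [1, 1, -1, 1, -1, -1, 1, -1, -1, -1, -1, 1, -3, 1, 1, 1, 1, 1, 1, 1, -1, 1, 1, 1],
   [1, 1, 1, -1, 1, -1, 1, 3, 1, -1, 1, -1, 1, -1, -1, 1, 1, -1, -1, -1, -1, 1, -1, 1],
   [-1, 1, 1, -1, -1, 1, 1, -1, 1, -1, -1, 1, -1, 1, 1, 1, 1, -1, -1, 1, 1, -1, 3, -1],
   [0, 0, 0, 0, 0, 0, -2, 0, 2, -2, 0, 0, 0, -2, 0, 0, 0, 2, 0, 2, 0, 2, 0, -2],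
   [2, 0, 0, 0, 0, 0, -2, 0, 0, -2, -2, 0, 0, 0, 0, 0, 2, 0, 0, 0, 0, -2, 2, 2],
   [1, 1, 1, -1, -1, -1, -1, 1, 1, -1, -1, -1, -1, 1, 1, -1, 1, -1, -1, 1, 1, 1, -3, -1],
   [-1, 1, 1, 1, -3, -1, -1, -1, 1, 1, 1, 1, 1, -1, 1, -3, -1, 3, 1, 1, 1, 1, 1, -1],
   [-2, 2, -2, 2, -2, 2, -2, -2, 2, -2, 2, -2, 2, -2, 2, -2, -2, 2, 2, 2, 2, 2, 2, 2],
   [2, 0, -4, 4, 0, 0, -2, 2, 0, 0, -2, 0, -2, 0, 0, -2, 4, 0, 2, 0, -4, 0, 0, 2],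
   [2, 0, 0, 0, 0, -2, 0, 2, -2, 0, -2, 2, -2, 2, 0, 0, 4, 0, 0, 0, -4, 4, -4, 0],
   [-2, -2, 2, -2, 2, 0, 2, -2, 0, -2, 2, 0, 2, 0, 0, 2, 2, 2, -2, 0, -2, 0, 0, -2],
   [-2, 0, -4, 4, 0, 0, 2, -2, 0, 2, 2, 0, 2, 0, 2, 2, -2, 2, 2, -2, -2, -2, 2, 2],
   [-2, 4, 4, -4, -4, 0, 0, -2, 0, 2, 2, 0, 2, 0, 0, 0, 2, -2, 0, 0, -2, 0, 0, 0],
   [-2, -2, 2, -2, 2, -2, -8, -2, -2, -2, 2, 2, 2, 2, 0, -8, 2, -2, 0, -8, 2, 0, -8, 0],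
   [-2, -4, -4, 4, 4, 2, 0, -2, 2, 2, 2, -2, 2, -2, 2, 0, 2, -2, 0, 2, -2, 2, 2, 0],
   [0, -2, 2, -2, 2, -4, 0, 0, -4, -4, 0, 4, 0, 4, 2, 0, 0, 4, 0, 2, 0, 2, 2, 0],
   [2, 2, -2, 2, -2, 2, 0, 2, 2, -2, -2, -2, -2, -2, 0, 0, -2, 2, 0, 0, 2, 4, -4, 0],
   [0, -4, 4, -4, 4, 4, 2, 0, 4, 4, 0, -4, 0, -4, -2, 2, 0, 0, 6, 2, -4, -2, 2, 6],
   [0, 0, 0, 0, 0, -2, -2, 0, -2, 2, 0, 2, 0, 2, 2, -2, -2, -2, 2, 2, 2, -2, 6, 2]]),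
   (3, 9486336, [
   [3, -1, -1, -1, -1, -1, -1, -1, -1, -1, -1, -1, -1, -1, -1, -1, -1, -1, -1, -1, -1, -1, -1, -1],
   [-2, 0, 0, 0, 0, 0, 0, 0, 0, 0, 0, 0, -2, 0, -2, 0, -2, -2, -2, 0, 0, 0, -2, -2],
   [-2, 2, 0, 0, 0, 0, 0, 0, 0, 0, 0, 0, 0, 2, 0, 2, 0, -2, -2, 2, 0, 0, 0, -2],
   [0, 0, 2, 0, 0, 0, 0, 0, 0, 0, 0, 0, 2, 2, 0, 2, 0, 0, 2, 0, 2, 0, 2, 2],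
   [3, -1, -1, 1, -1, -1, -1, -1, -1, -1, -1, -1, 1, 1, -1, -1, -1, 1, 1, 1, -1, 1, 1, -1],
   [-2, 0, 0, 0, 2, 0, 0, 0, 0, 0, 0, 0, 0, 2, -2, 0, 0, 0, -2, 2, 2, 0, -2, 0],
   [3, -1, -1, -1, -1, 1, -1, -1, -1, -1, -1, -1, -1, 1, 1, -1, -1, 1, 1, -1, 1, 1, -1, 1],
   [-2, 0, 0, 0, 0, 0, 2, 0, 0, 0, 0, 0, -2, 0, 0, 2, -2, -2, 0, 2, 0, 2, 0, 0],
   [0, 0, -2, 0, 0, 0, 0, 2, 0, 0, 0, 0, 0, -2, 2, 0, 0, 2, 0, 2, 0, 0, -2, -2],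
   [0, 0, 0, -2, 0, 0, 0, 0, 2, 0, 0, 0, -2, 0, 0, 2, 2, -2, 0, 0, 2, 0, -2, 0],
   [0, -2, 0, 0, 0, 0, 0, 0, 0, 2, 0, 0, -2, -2, 0, -2, 0, 2, 0, 0, 2, 2, 0, 0],
   [0, 0, -2, 2, 0, -2, 0, 0, 0, 0, 2, 0, 2, -2, 0, 0, 2, 0, -2, 2, -2, 2, 0, -2],
   [0, 0, 0, 0, 0, 0, 0, 0, 0, 0, 0, 0, 0, 0, 4, 0, 4, 0, -4, 4, -4, 0, 0, -4],
   [0, 0, 0, 0, 0, 0, 0, 0, 0, 0, 0, 0, 0, 0, 0, 0, 4, 0, -4, 0, 4, -4, -4, 4],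
   [0, 0, 0, 0, 0, 0, 0, 0, 0, 0, 0, 0, 0, 0, -4, -4, 0, 4, 0, 0, 4, 0, -4, 4],
   [0, 0, 0, 0, 0, 0, 0, 0, 0, 0, 0, 0, 0, 0, 0, 0, -4, 0, 4, 0, -4, 0, -4, 0],
   [0, 0, 0, 0, 0, 0, 0, 0, 0, 0, 0, 0, 4, 4, 0, 0, 0, -4, -4, 0, -4, -4, 0, 0],
   [0, 0, 0, 0, 0, 0, 0, 0, 0, 0, 0, 0, 0, 0, 0, 0, 0, 0, 0, 0, -4, 8, 0, 4],
   [0, 0, 0, 0, 0, 0, 0, 0, 0, 0, 0, 0, -4, -8, -4, -8, 8, 0, 4, -8, -4, 0, 0, 0],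
   [0, 0, 0, 0, 0, 0, 0, 0, 0, 0, 0, 0, 0, 0, 4, 0, 0, 0, 0, 4, -4, -8, 0, 4],
   [0, 0, 0, 0, 0, 0, 0, 0, 0, 0, 0, 0, 0, 0, -8, 0, 0, 0, 4, 4, 0, 0, -4, -4],
   [0, 0, 0, 0, 0, 0, 0, 0, 0, 0, 0, 0, 0, 0, 4, -4, 0, 4, -4, 0, 4, 0, 0, -4],
   [0, 0, 0, 0, 0, 0, 0, 0, 0, 0, 0, 0, 4, 8, 8, 4, 4, 0, 8, 0, 0, 0, 0, 4],
   [0, 0, 0, 0, 0, 0, 0, 0, 0, 0, 0, 0, 0, 0, -4, 4, 4, -4, 0, 4, 0, 0, 4, 0]]),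
   (1, 1, [
   [0, 0, 2, 2, 0, 0, 0, 0, 0, -2, 0, 0, 0, 0, 2, 2, -2, 0, 0, 0, 0, 0, 2, 2],
   [2, -2, 0, 0, -2, 0, 0, 0, 0, 0, 0, 0, -2, 0, 0, 2, -2, 0, -2, 0, -2, 0, 0, 0],
   [0, -2, -2, 0, -2, -2, 0, 0, 0, 0, 0, 0, -2, 0, 0, 0, 0, 0, 0, 0, -2, -2, 0, -2],
   [-2, 0, -2, 0, 2, 0, 2, -2, 0, 2, 0, 0, 0, 0, 0, -2, 2, 0, 0, 0, 0, 0, 0, 0],
   [-2, 0, 0, 0, 2, -2, 0, 0, 0, -2, 0, 0, 0, 0, 2, 0, -2, 0, 0, 0, 2, 0, 0, 2],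
   [1, -3, -1, -1, -1, -1, -1, -1, 1, 1, -1, 1, -1, 1, 1, 1, 1, 1, -1, 1, -1, 1, -1, -1],
   [-1, 1, 1, 1, 1, 1, 1, -1, 1, -1, 1, -1, 1, -1, 3, 1, -1, 1, 1, 1, 1, 1, -1, 1],
   [0, 0, -2, 0, -2, 0, 0, 0, 0, 2, 2, 0, -2, 0, 0, 0, -2, 0, -2, 0, 0, 0, 0, -2],
   [2, 0, 0, 0, 0, 0, -2, 2, 2, -2, 0, -2, 0, 0, 0, 0, 0, 0, 0, 0, 2, 0, 0, -2],
   [1, -1, 1, 1, -1, 1, -1, -1, 1, 3, 1, -1, -1, -1, 1, 1, 1, 1, 1, -1, -1, -1, 1, -1],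
   [1, 1, 1, -1, -1, 1, -1, -1, 1, 1, -1, -1, 1, -1, -1, 1, -1, 1, -1, 1, 3, 1, -1, 1],
   [0, 0, 0, 0, 0, -2, -4, 2, 0, -2, 0, 2, -2, 0, -2, 0, 0, 0, 0, 0, 2, -2, 0, 0],
   [1, 1, -1, -1, -3, -3, -3, 3, -1, -3, -1, 1, 1, -1, 1, 1, 1, 1, 1, -1, 1, -5, 1, -3],
   [-1, -1, 1, 1, -1, 3, -3, -1, 3, 1, -3, 1, 1, 1, 1, 3, 5, 1, 1, 1, -3, 1, 1, -1],
   [-1, -3, 3, -1, 1, 3, -1, -1, 3, 1, -3, 1, 1, 1, 1, 1, 1, 1, -1, 1, 1, 5, -3, 1],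
   [1, -1, 1, 1, 3, 1, 1, 3, -1, -1, 3, -1, 1, 1, 1, -1, -3, 1, -3, -1, -1, 1, -1, -1],
   [-1, -1, -1, -1, 1, -1, 1, 1, -3, -3, -1, 3, -1, 3, 1, 1, 1, 1, 1, 1, -5, -3, 3, -1],
   [-2, 0, 0, 0, 0, 2, 0, 2, -2, 2, 4, 4, 0, 0, 0, 0, -2, 0, 0, 2, 4, -2, -4, 0],
   [4, 2, 8, 0, 0, 4, -4, 2, -2, 2, -2, 4, 6, -4, -4, 0, -4, -4, 4, -4, 0, 2, 0, 6],
   [-3, 1, -1, -1, -1, 1, -1, 3, -1, -3, 1, -1, 5, 3, 1, -1, 3, 1, -1, -1, -3, 1, 5, -3],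
   [2, -6, 0, 0, 2, -2, -2, 2, 2, 2, -2, 0, -2, 0, 2, -2, -4, 2, -2, -4, 0, 2, 0, 2],
   [2, 2, 2, -2, -2, -2, 0, -2, 2, -4, -4, -2, 0, -2, 0, 2, 2, 0, 0, 2, 2, 0, -2, -2],
   [-4, 2, -4, 0, 8, 0, 0, -2, -2, 2, 4, -2, 4, -2, 2, -4, 4, 2, 4, 0, -2, -2, -2, -6],
   [-2, -2, -4, 0, -2, -2, -2, 0, 0, 4, 0, 2, -2, 0, 0, -2, 0, 0, 2, -2, 0, -2, 4, 2]]),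
   (3, 4097, [
   [1, -1, -1, -1, 1, -1, -1, 1, -1, -1, -1, -1, 1, 1, 3, 1, -1, 1, -1, -1, -1, -1, 1, -1],
   [1, 1, 1, -1, 1, 1, 1, -1, -1, 1, -1, 1, 3, 1, 1, -1, 1, 1, -1, -1, -1, -1, -1, -1],
   [1, 1, 1, -1, -1, 1, 3, -1, 1, 1, -1, 1, 1, 1, -1, -1, 1, -1, -1, 1, -1, -1, 1, -1],
   [-1, -1, -1, 1, -1, 1, -1, -1, 1, 1, -1, 1, -3, -1, -1, -1, 1, -1, 1, 1, 1, 1, 1, -1],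
   [0, 0, -2, 0, -2, 0, -2, 0, 0, 0, 0, -2, 0, 2, 2, 2, 0, 0, 0, 0, 0, 0, 2, 0],
   [0, 2, 2, -2, 0, 2, 0, -2, 0, 2, 0, 0, 0, 0, 0, -2, 0, 0, 0, 0, 0, -2, 0, 0],
   [-1, -1, -1, -1, 1, -1, -1, 1, -1, 1, -1, -1, -1, 1, 3, 1, -1, 1, 1, 1, 1, 1, 1, 1],
   [0, 2, 0, 2, 0, 0, 2, 0, 0, 2, -2, 0, 2, 0, 0, -2, 2, 0, 0, 0, 0, 0, 0, 0],
   [0, 0, 0, 0, 0, 0, 2, 0, -2, 0, 2, -2, 2, 0, 0, 0, -2, -2, 0, 0, 0, 0, 0, 2],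
   [0, 0, 0, 0, 2, 0, 2, 0, 0, 0, -2, 2, 0, 0, 0, -2, -2, 0, 2, 0, 0, -2, 0, 0],
   [-1, 1, -1, 1, 1, 1, -1, 1, -1, 1, 1, -1, 1, -1, 1, 1, -1, 1, 1, 1, 1, -1, -3, 1],
   [1, 3, -1, 1, -1, 1, 1, 1, 1, -1, 3, -1, 1, 1, -1, 1, -1, -1, -1, -1, -3, -1, 1, 1],
   [1, 1, 1, -1, -3, 1, 5, 3, 1, -3, 1, -1, 1, 1, -1, 1, -1, -1, -3, 1, -1, -3, 1, 3],
   [3, -1, 3, -3, 3, 1, -1, 1, -1, 1, 1, 1, -3, -3, -1, -3, -3, 1, 1, 1, -1, -3, 1, 1],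
   [1, 1, 1, -3, 3, 1, -5, -1, -1, 3, 3, -1, -1, -1, 1, -1, -1, 1, 3, -1, 3, -1, -1, 1],
   [0, 0, 0, 0, -2, -2, 0, 0, -2, 0, 0, 0, 2, 2, 2, -2, 0, 0, 0, -4, 2, 4, 0, 0],
   [3, -1, 3, -3, -3, 1, 1, -1, 3, -3, -1, 1, -1, -1, 1, -1, 1, 1, -3, -1, -3, 1, 3, -1],
   [-2, 6, -2, 2, 0, -2, 0, 2, 2, 0, 2, 2, 0, 0, 2, 0, 2, 2, 0, 0, 2, 2, 2, 2],
   [1, 1, 1, 3, 7, -3, -5, 3, -1, -9, 3, 1, 1, 3, -3, 5, -3, 5, 1, -3, 3, -1, -5, -1],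
   [4, -4, 4, 0, -4, -4, 0, 2, 0, -2, 0, -2, -2, -2, 0, -4, 0, -2, -2, 0, 0, 0, 0, 2],
   [1, 1, 1, 1, -1, 3, -1, -3, -1, 1, 1, -1, 3, 5, 1, -1, -1, -1, 3, -5, 3, -3, 1, -3],
   [-1, -1, -1, -5, 1, 3, 1, 1, -1, 1, 1, -3, 1, -1, -1, 3, -1, -1, -1, 3, -1, -1, -3, 3],
   [-1, -1, -1, 1, -5, -1, 3, -1, 1, -1, -3, 1, -9, 1, -3, -3, -3, -1, 3, 3, 3, 7, 3, 3],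
   [1, 1, 1, 5, -1, 1, 1, -1, 3, -1, -1, 1, -1, 1, -1, -1, 1, -1, 1, 1, -1, -5, 3, -3]]),
   (2, 32769, [
   [1, 1, -1, 1, -1, 1, 3, 1, -1, -1, 1, -1, 1, 1, 1, 1, 1, -1, -1, 1, 1, 1, 1, 1],
   [-1, 1, -1, 1, 1, 1, -1, 1, -1, -1, 3, 1, -1, 1, 1, 1, 1, 1, 1, -1, 1, 1, 1, 1],
   [-2, 0, 0, 0, 2, 0, -2, 0, 0, -2, 0, 2, 0, 0, 2, 0, 0, 0, 0, -2, 0, 2, 0, 0],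
   [1, -1, 1, 1, 1, -1, -1, -1, 1, 1, -1, -1, -1, -1, -1, -1, -1, -1, -1, -1, -1, 1, -1, -3],
   [1, -1, -1, 1, -1, -1, 3, 1, 1, -1, -1, 1, 1, 1, -1, 1, 1, -1, -1, 1, -1, 1, 1, -1],
   [-1, -1, 1, 1, 1, 1, -1, 1, 1, -1, 1, 1, -3, -1, 1, 1, -1, 1, 1, -1, -1, 1, 1, 1],
   [1, -1, -1, 1, -1, 1, 3, -1, 1, 1, 1, -1, 1, 1, -1, -1, -1, -1, -1, 1, -1, 1, 1, 1],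
   [0, 0, 0, 0, 2, 0, -2, 0, 2, 0, 2, 2, 0, 2, 0, 0, 0, 0, 0, -2, 2, 0, 0, 0],
   [0, 0, 0, -2, 0, 0, 0, -2, 0, -2, 0, 2, 0, 0, 0, 0, 0, 0, 0, 2, 0, -2, 2, 2],
   [1, 1, 1, 1, 1, 1, -1, -1, -1, 1, 1, 1, -1, -1, 1, -1, -1, -1, -1, -1, 1, 1, -1, 3],
   [1, 1, -1, 1, -1, 1, 1, -1, 1, 1, 1, 1, -1, 1, -1, 1, -1, 1, 1, 1, -1, -3, -1, 1],
   [-1, 1, -1, -1, -1, -1, -1, 1, 1, -1, -3, 3, 1, -1, 1, 3, 1, 1, -1, 1, 1, -1, 1, 1],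
   [-2, 0, 0, -4, 0, 2, 0, 0, 0, -4, -2, 4, 4, -2, 2, 2, 0, 0, 0, 0, 0, 0, -2, 2],
   [-2, 0, 4, 2, 0, 2, 0, -2, 0, 0, 0, -4, -2, -4, 2, 2, -2, 0, 0, 0, 0, 0, 0, 4],
   [0, -2, 2, 4, -2, 0, 2, 0, 2, 2, 2, -2, -4, -2, 0, 0, 0, 2, 2, 2, -2, -2, 2, 2],
   [2, 0, 0, -2, 0, -2, 0, 2, 0, 0, 4, 0, 2, 0, -2, -2, 2, 0, 0, 0, 0, 0, 4, 0],
   [-2, 0, 2, -2, 0, 2, 0, 2, -2, -2, -2, -2, 2, -2, 2, 2, 2, 0, 0, -4, 0, 4, 2, -2],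
   [0, 0, -2, -2, 0, 0, 0, 2, 6, 6, 0, 2, 2, 0, 0, 0, 2, 0, 0, 0, 0, 0, 0, 0],
   [2, 4, -4, 0, -4, -2, 4, 4, -4, 4, -2, -4, 0, -2, -2, -2, 4, 4, 4, 4, 4, -4, -6, 6],
   [0, 0, 8, -4, 0, 0, 0, 0, 0, -4, 0, -4, 4, 0, 0, 0, 0, 0, 0, 0, 0, 0, 0, 0],
   [2, 0, 0, 4, 0, -2, 0, 4, 0, -4, 2, 4, -4, -2, -2, -2, 4, 0, 0, 0, 0, 0, 2, 2],
   [-2, -2, -2, 0, -2, 2, 2, -4, -2, -2, 0, 2, 0, 0, 2, 2, -4, 2, 2, 2, -2, -2, 0, 0],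
   [4, -4, 2, -4, 2, -4, -2, -4, 2, 2, -4, -2, 4, -4, -4, -4, -4, -2, -2, -4, -4, 4, 0, 0],
   [0, 2, 2, 2, 2, 0, -2, 2, 2, -2, -4, 2, -2, 0, 0, 0, 2, -2, -2, -2, 2, 2, -4, 0]]),
   (2, 774145, [
   [1, 1, 1, 1, 1, 1, 1, 1, 1, 1, 1, 1, 1, 1, 1, 1, 1, 1, 1, 1, -3, 1, 1, 1],
   [0, 0, 0, 2, 2, 0, 0, 0, 0, 0, 0, 2, 0, 2, 0, 2, 0, 2, 2, 0, 2, 0, 0, 0],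
   [0, -2, 0, 0, 2, -2, -2, 0, 0, -2, 0, 2, 0, 0, 0, 2, 0, 0, 0, 0, 2, 0, 0, 0],
   [0, 0, 0, 0, -2, -2, 0, 0, 0, -2, -2, -2, 0, -2, -2, 0, 0, 0, -2, 0, 0, 0, 0, 0],
   [1, -1, 1, 1, -1, -1, 1, 1, 1, 1, 1, 1, 1, -1, 1, -1, 1, 1, -1, 1, -3, -1, -1, 1],
   [-2, -2, 0, 0, 2, -2, 0, 0, 0, 0, -2, 0, 0, 2, 0, 0, 0, 2, 0, 0, 2, 0, 0, 0],
   [1, 1, 1, 1, -1, -1, 1, 1, -1, 1, -1, -1, 1, 1, 1, -1, 1, -1, 1, 1, -3, 1, -1, 1],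
   [0, -2, 0, 2, 0, 0, 0, 0, 0, -2, 0, 0, 0, 0, 0, 2, 0, 0, 2, -2, 2, 0, -2, 0],
   [0, -2, 0, 0, 0, 2, 0, -2, 0, 0, 0, 2, 0, 2, 2, -2, 0, -2, 0, 0, 0, 0, 0, 0],
   [0, 0, 0, -2, 0, 0, 0, 0, 0, -2, -2, 0, 0, 2, 0, 2, 0, 0, 2, 0, 0, 2, 0, -2],
   [0, 0, -2, 0, 0, 2, 2, 0, 0, 2, -2, 0, 0, 0, 0, -2, 0, 0, 2, 0, 0, 0, -2, 0],
   [0, -2, 0, -2, 2, 2, 0, 0, 2, 0, 2, 2, 0, 0, 2, 0, -2, 0, -2, 0, 0, -2, -2, 0],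
   [0, -4, 0, -4, 4, 0, 0, 0, 0, 0, 4, 4, 0, 0, 0, 0, 0, -4, 0, 0, 0, 0, 0, 0],
   [0, 0, 0, -4, 4, 0, 0, 0, 0, 0, -4, -4, 0, 4, 0, 0, 0, 0, 0, 0, 0, 0, 4, 0],
   [0, 0, 0, 0, 0, 0, 0, 0, 0, 4, -4, -4, 0, 4, 0, -4, 0, 4, 0, 0, 0, 0, 0, 0],
   [0, 0, 0, 4, -4, 0, 0, 0, 0, 0, 4, 0, 0, 4, 0, 0, 0, 0, 0, 0, 0, 0, 0, 0],
   [0, 0, 0, 0, 4, -4, 0, 0, 0, 0, 4, 0, 0, 0, 0, 4, 0, 0, -4, 0, 0, 0, 4, 0],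
   [0, 0, 0, 0, 0, 0, 0, 0, 0, 0, 4, -4, 0, 0, 0, 0, 0, 0, 0, 0, 0, 0, -8, 0],
   [0, 8, 0, -8, -4, 8, 0, 0, 0, 8, 4, 0, 0, 0, 0, 0, 0, 4, 4, 0, 0, 0, 0, 0],
   [0, -4, 0, 0, 0, 0, 0, 0, 0, 0, 4, -4, 0, 0, 0, 0, 0, -4, 0, 0, 0, 0, 8, 0],
   [0, -4, 0, 0, -4, 0, 0, 0, 0, 0, 0, 4, 0, 4, 0, 0, 0, 8, 0, 0, 0, 0, 0, 0],
   [0, 0, 0, 0, 4, 0, 0, 0, 0, 4, -4, 4, 0, 0, 0, -4, 0, -4, 0, 0, 0, 0, 0, 0],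
   [0, 0, 0, -4, -8, -8, 0, 0, 0, -4, 0, -4, 0, 0, 0, 0, 0, -8, -4, 0, 0, 0, 0, 0],
   [0, -4, 0, -4, 0, 0, 0, 0, 0, -4, 0, 0, 0, -4, 0, 4, 0, 4, 0, 0, 0, 0, 0, 0]]),
   (1, 2, [
   [2, 0, -2, 0, 0, 0, 0, 0, 0, -2, 0, -2, 0, 0, 0, 0, 2, -2, 0, 2, 0, 0, 0, 2],
   [0, 0, 0, 2, -2, 0, 0, 0, 0, -2, 0, 0, 0, 0, -2, 0, 0, -2, -2, 2, 0, 0, 0, -2],
   [-1, 1, 1, 1, -1, 1, -1, 1, -1, -1, -1, 1, -1, 1, 1, -1, -1, -1, -1, 1, 1, 1, -1, -3],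
   [-2, 0, 2, 0, 2, 0, 0, 0, 0, 2, -2, 0, 0, 0, 2, 0, 0, 2, 0, 0, 0, 0, 2, 0],
   [0, 0, -2, 0, 2, 0, -2, 0, 0, 0, 0, 0, 0, 0, 2, 0, 2, -2, 0, 0, 0, -2, 0, 2],
   [-1, 1, 1, 1, -1, 1, -1, -1, 1, -1, -1, 1, 1, -1, -1, -1, 1, 1, -1, 1, 1, -1, -1, -3],
   [1, 1, -1, -1, 1, -1, 1, -1, 1, -1, -1, -1, 1, 1, 1, 1, 3, -1, 1, -1, -1, -1, 1, 1],
   [-1, 1, 1, 3, -1, -1, -1, 1, -1, -1, -1, 1, 1, 1, -1, -1, -1, -1, -1, -1, -1, 1, 1, -1],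
   [2, 0, 0, -2, 0, 0, 0, 0, 0, 0, 0, 2, 0, 0, -2, -2, 0, -2, 0, -2, 0, 0, -2, 0],
   [1, 1, 3, 1, -1, -1, 1, 1, 1, -1, -1, -1, -1, 1, -1, -1, 1, 1, 1, 1, -1, 1, -1, -1],
   [0, 0, 0, 0, -2, 0, 0, -2, 2, 0, 0, 0, 0, 0, -2, 0, 0, 0, 0, -2, -2, -2, 0, 2],
   [1, -1, -1, 1, -1, 1, -3, 1, -1, 1, 1, 1, -1, 1, -1, -1, -1, -1, 1, -1, 3, -1, -3, 1],
   [0, 2, -2, -2, -2, 2, -2, 2, -2, -2, 2, 2, -4, 2, 0, -2, 0, 0, 0, -2, 2, 2, -4, 0],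
   [2, 0, 2, -2, -2, 2, 0, -2, 2, -2, -2, 0, 0, -2, -2, 0, 2, 4, 4, 2, 2, 2, 0, -2],
   [2, 0, 0, 0, 0, 0, 0, -4, 4, 0, 0, 0, 2, -4, -2, 0, 2, 2, 2, 0, 0, -4, 2, -2],
   [2, 0, -2, 0, 2, -2, 0, 2, -2, 2, 2, 0, 2, 0, -2, 0, 2, -2, -2, 0, -2, 0, 2, -2],
   [-2, 0, -2, 0, 0, 4, 0, 2, -2, 0, 2, 0, 0, 0, 2, 0, 2, 0, 0, 4, 4, 4, 0, -2],
   [0, 0, -2, 4, 0, 0, 0, 2, -2, 0, 2, 0, 2, 4, 0, 0, 0, 2, 2, -4, 0, -4, 2, 0],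
   [4, -4, -6, 2, 0, -4, 4, -2, 2, 0, 6, -4, -4, -2, -4, 4, -4, 4, 4, 2, -4, -2, -4, 4],
   [0, 2, -2, -6, 0, 0, -2, 2, -2, 0, 2, 2, 2, -2, 0, -2, 0, 2, 2, 2, 0, 6, 2, 0],
   [2, 2, 0, 4, 2, -2, -2, 0, 0, 2, 0, 2, -2, -4, -2, -2, 2, -2, -2, 4, -2, -4, -2, -2],
   [0, 0, 0, -4, -2, 2, 0, -4, 4, -2, 0, 0, -2, 0, 0, 0, 0, -2, -2, -4, 2, 0, -2, 0],
   [-4, 0, 2, -4, 6, -2, 0, 2, -2, 6, -2, 0, 0, 4, 4, 0, 4, 4, 4, -4, -2, 4, 0, -4],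
   [-2, 2, 2, 4, 0, 0, -2, 2, -2, 0, -2, 2, -2, 0, 2, -2, -2, 2, 2, 4, 0, 0, -2, 2]]),
   (3, 4098, [
   [1, 1, -1, 1, -3, -1, -1, -1, 1, -1, -1, 1, -1, 1, -1, 1, 1, -1, 1, -1, -1, 1, -1, 1],
   [0, 2, 0, 0, 0, 0, -2, -2, 0, -2, 0, 0, 0, -2, 0, 2, 0, 0, 0, 0, 0, 0, -2, -2],
   [-1, 1, 1, -1, 1, 1, -1, -3, -1, -1, 1, -1, 1, -1, -1, -1, 1, 1, 1, 1, 1, -1, -1, -1],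
   [-1, 1, 1, -1, 1, 1, 1, 1, -1, 1, -1, 1, -1, 1, 1, -3, -1, 1, -1, 1, 1, -1, 1, 1],
   [0, 0, -2, 2, -2, 0, 0, 0, 0, 0, -2, 0, 0, 2, -2, 0, 0, 0, 0, 0, 2, 0, 0, 2],
   [-1, 1, -1, 1, 1, 1, -1, -1, -1, -1, 1, -1, -1, -1, 1, -1, 1, 1, -1, 1, 1, 1, -1, -3],
   [2, 0, 0, 2, -2, 0, 0, 0, 0, 0, -2, 2, 0, 2, 0, 0, 0, 0, 0, 0, 0, 2, 2, 0],
   [0, 0, 2, 0, 0, 0, 0, -2, 0, -2, 0, 0, 0, -2, 0, 0, -2, 0, 0, 0, 2, -2, 0, -2],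
   [0, -2, 0, 2, 0, 0, 2, 0, 0, -2, 2, 0, 2, 0, 0, 2, 2, 0, 0, 0, 0, 0, 0, 0],
   [1, 1, 1, -1, 1, -1, 1, -3, -1, -1, 1, 1, -1, -1, 1, -1, 1, -1, -1, -1, -1, 1, 1, -1],
   [1, -1, -1, 1, -1, -1, 1, 1, -1, 1, 1, 1, -1, -1, 1, 3, -1, 1, -1, -1, 1, 1, 1, -1],
   [0, -2, -2, 0, 0, -2, 0, 0, 0, 0, 2, -2, 2, 0, -2, 0, 2, 0, 0, -2, 2, -2, -2, 0],
   [2, -4, 0, 0, 0, 0, 0, -4, 0, 0, 4, -4, 2, 0, -2, 0, 2, 2, 2, 0, 0, 0, -2, 2],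
   [1, -1, -1, -1, 1, -1, -1, 1, -3, -1, 3, 1, -3, 1, 3, -3, 3, -1, 1, 1, -3, 3, -1, -3],
   [0, 0, -4, 2, 0, 2, 0, 4, -2, 0, 0, 2, -2, 0, 2, 0, 0, -2, -2, 0, 0, 4, 0, -4],
   [1, 1, 1, 1, -1, 1, 1, 1, 3, -3, -3, -1, 3, -1, 1, 1, -1, -3, -1, 1, 1, 1, -1, 1],
   [0, 2, 2, 0, 0, 0, -4, 0, 0, 0, 0, -4, 0, 0, -2, -4, 2, 0, 2, 2, -2, 0, -4, 2],
   [4, 0, 0, 0, 0, 0, 0, 2, 2, 0, 0, -2, 2, 0, -2, -2, -4, 0, 0, -4, 4, 0, 2, -2],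
   [0, -2, -6, -4, 0, -4, 2, 2, 2, 4, -2, -2, 0, 0, 0, 6, -4, -4, 0, -8, -8, 4, 0, 0],
   [1, -3, 1, 1, -1, 1, 1, 1, 1, -1, 1, -3, -1, -1, 3, -3, 1, -3, 5, 5, -3, -1, -1, 3],
   [-3, 3, -5, 1, -1, 1, 3, -3, -1, -3, -1, -1, 1, -1, -1, 1, -1, -3, -5, 1, 1, 1, -3, -1],
   [0, -4, 0, 2, 0, 2, -2, 0, -2, 2, 2, 2, 0, 0, 0, 4, 4, 4, 0, 0, 0, 2, 0, 0],
   [0, -2, 6, 0, 4, 0, 4, 0, -2, 2, -4, -2, 4, 4, 4, -8, 0, 0, 0, 2, 2, 2, 4, 4],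
   [-2, 2, -2, -2, 0, -2, 2, -4, -2, 0, 2, -2, -2, 0, -2, -4, -2, 0, 0, 0, 0, -4, 0, 0]]),
   (2, 32770, [
   [2, 0, 0, 0, -2, 0, 0, 0, 0, 0, 0, 0, 0, 2, 2, 0, 0, 0, -2, -2, 2, 0, -2, 0],
   [1, -1, 1, -1, 1, 1, -1, -1, 1, 1, -1, 1, 1, 1, 1, 1, -3, 1, -1, 1, 1, -1, -1, 1],
   [1, -1, 1, -1, 1, 1, 1, -1, -1, 1, -1, 1, 1, -1, -1, 1, -1, 1, -1, 1, -1, -1, 1, 3],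
   [-1, 1, 1, 1, 1, 1, 1, 1, -1, 1, 1, 1, -1, -1, -1, -1, 1, -1, 1, -1, -1, -1, 3, -1],
   [1, 1, 1, 1, -1, -1, 1, 1, -1, 1, -1, -1, 1, 1, 1, -1, 1, -1, 1, -3, 1, 1, -1, 1],
   [-1, -1, 1, -1, 1, -1, -1, 1, -1, 1, -1, 1, 1, 1, -1, 1, -3, -1, -1, 1, -1, -1, 1, 1],
   [1, 1, 1, -1, -3, -1, -1, 1, -1, 1, 1, -1, -1, 1, 1, -1, 1, -1, 1, -1, 1, -1, -1, -1],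
   [1, 1, 1, -1, 1, 1, -1, -3, 1, 1, -1, 1, 1, -1, 1, 1, -1, -1, 1, 1, -1, -1, 1, 1],
   [0, 0, 0, 0, -2, -2, 0, 0, 2, -2, 0, -2, 2, 0, 0, 0, 0, 0, 0, 2, 0, 0, 0, 2],
   [1, 1, -1, -1, -1, 1, -1, -1, -1, -1, 1, 1, 1, 1, -1, 1, -1, 1, -1, 1, -1, -3, 1, -1],
   [-1, 1, -1, -1, 1, -1, -3, 1, 1, -1, -1, -1, 1, 1, 1, -1, 1, -1, 1, 1, 1, -1, -1, -1],
   [0, 0, -2, 0, 0, 0, 2, 0, 0, -2, -4, -2, 2, 0, 0, 2, 0, 0, 0, 0, 0, 2, 0, 2],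
   [0, -2, -2, -2, -2, 0, 2, -2, -2, -2, -2, 0, 4, -2, -2, 0, 2, 0, -2, 2, 0, 2, -2, 4],
   [0, -4, -2, 0, -2, 0, -2, 2, -2, -2, 0, 0, -2, 2, -2, 0, -2, -2, -4, 2, -2, -2, 2, -2],
   [-2, 0, 0, 0, 0, -2, -4, 4, 0, 0, 0, -2, -2, 4, 0, -2, -4, -2, 0, 0, -2, 0, 0, -2],
   [0, 2, 2, 2, -2, 0, 2, -2, 2, 2, 2, 0, 0, 2, 2, 0, -2, 0, 2, 2, 0, 2, -2, 0],
   [2, -4, 2, 0, 0, 2, 4, 0, -2, 2, 0, 2, 0, 0, -2, 2, 0, 0, -4, 0, 0, 4, 0, 0],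
   [0, 4, 0, -4, 0, 0, 2, -2, 0, 0, -4, 0, -2, 0, 0, 0, 0, -2, 4, 0, -2, 2, -2, -2],
   [0, 2, -8, 2, 2, 0, -4, 0, 0, -8, 2, 0, -4, 2, 0, 0, -2, 4, 2, -2, 4, 4, -8, -4],
   [0, -4, 0, 4, -2, 0, 2, -2, 0, 0, 4, 0, 0, -2, 0, 0, 2, -4, -4, 2, -4, 2, -2, 0],
   [0, 2, 0, 2, 2, 0, 0, 0, 0, 0, 2, 0, 4, 6, 0, 0, -6, 0, 2, -2, 0, 0, 0, 4],
   [-2, -2, 0, -2, -2, -2, -4, 4, 0, 0, -2, -2, 2, -2, 0, -2, 2, 2, -2, 2, 2, 0, 0, 2],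
   [0, 4, 2, 4, -4, 0, 4, 0, -6, 2, 4, 0, -2, -4, -6, 0, 4, -2, 4, 4, -2, 0, 4, -2],
   [2, 0, -2, 0, 4, 2, 2, -2, -2, -2, 0, 2, 2, 0, -2, 2, 0, -2, 0, -4, -2, -2, 2, 2]]),
   (3, 528386, [
   [2, 0, 2, -2, -2, -2, 0, 0, 0, 0, 0, 0, 0, 0, 0, 2, 0, 0, 0, 0, -2, 0, 2, 0],
   [1, -1, 1, -1, -1, 1, 1, 1, 1, -1, 1, -1, -1, 1, 1, 1, 1, 1, -1, 1, 1, 3, 1, 1],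
   [0, 0, 0, 0, 0, 2, 0, 2, 0, -2, 2, 0, 0, 2, 0, 0, 0, 2, 0, 0, 0, 2, -2, 0],
   [-2, 2, -2, 0, 2, 0, 0, 0, 0, 0, 0, 2, 0, 0, 0, -2, 0, 2, 0, 0, 0, -2, 0, 0],
   [1, 1, 1, 1, -1, -1, -1, -1, -1, -1, -1, 1, -1, -1, -1, 1, 1, 1, 1, -1, -3, -1, 1, 1],
   [0, -2, -2, 0, 0, 2, 0, 0, 0, 0, 0, 0, 0, 2, 0, 0, 2, 2, 0, 2, 0, 2, 0, 0],
   [1, 1, 1, -1, -1, -1, -1, -1, 1, 1, -3, 1, -1, -1, -1, 1, -1, 1, 1, 1, -1, -1, 1, -1],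
   [0, 0, 0, 0, 0, 2, 0, 2, 0, -2, 0, 2, -2, 0, 2, 0, 0, 0, 0, 0, 2, 2, 0, 0],
   [1, -1, -1, 1, -1, 1, -1, -1, 1, -1, -1, -1, -1, 1, -1, 1, -1, -3, -1, -1, -1, 1, -1, -1],
   [0, 0, 0, -2, 0, 0, 0, 0, 2, 0, 0, 2, 2, 2, 0, 0, 0, 0, 0, 0, 2, 2, 0, -2],
   [0, 0, 0, 0, 0, 2, 0, -2, 0, 2, -2, 0, 0, -2, 0, 0, 0, -2, 0, 0, 0, 2, 2, 0],
   [1, -1, 1, 1, 1, 1, -1, -1, -3, -3, 1, -1, 1, 1, -1, 1, 1, -3, 1, -1, -1, 1, -1, 1],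
   [-2, -2, 2, 2, -2, 2, -2, 2, -2, -2, 2, -2, 2, 2, -2, 2, -2, -2, 2, -2, -2, 2, -2, -2],
   [-1, -3, -3, -5, 1, -1, -1, 1, 1, 3, -1, -1, 3, 3, -1, -1, 1, -1, 1, 3, -1, 1, -1, -1],
   [1, -3, -3, -1, 1, -1, -1, -3, 1, 3, -5, -1, 1, -1, 1, -1, 3, 1, -1, 3, -1, 1, 1, 1],
   [1, -1, -1, 1, -3, -3, -1, -1, 1, -3, -1, -1, -3, -1, 1, 1, -1, 1, -1, -1, 3, -1, 1, 1],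
   [-1, -1, 1, -1, -1, -3, -1, 3, -3, -1, 5, -3, -1, 3, -1, -1, 1, 3, 1, 1, -1, -1, -1, -1],
   [0, 0, 2, 2, 2, 0, -4, 0, -4, -2, -2, 2, 0, -4, 0, 2, 0, 0, 0, 2, 4, 0, 0, 0],
   [1, -1, 5, 1, -3, -5, 5, -3, 1, 3, -1, -3, 9, -7, 1, 1, 3, -7, -1, 1, 3, -1, 1, 1],
   [-1, -5, -3, -1, -3, -3, -1, 5, -1, 1, 1, -1, -1, 1, -1, -3, -3, -1, 1, -3, -1, -3, -1, -1],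
   [2, 0, -2, 2, -4, 0, 0, -2, 2, -4, -2, 0, 2, 2, 2, 0, 6, 2, -2, -2, 0, 2, 2, 2],
   [-1, -1, 1, 1, 1, 3, 1, -3, 1, 3, -1, -3, -1, 1, -1, 1, -3, -1, 1, 1, -5, 3, -1, -1],
   [-5, 3, -5, 1, 1, -3, -1, -1, 1, -3, -1, 3, -1, -1, -5, -3, -3, 3, 5, -1, 3, -5, -5, -5],
   [0, 2, 0, 0, 0, 2, 0, 4, -2, -2, 2, 4, 4, 2, 0, -2, 4, 0, 0, -2, 0, 0, 0, 0]]),
   (3, 27, [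
   [2, 0, -2, 2, 0, -2, 0, 0, 0, 0, 0, 2, -2, 0, 0, 0, 0, 0, 0, -2, 0, 2, 0, 0],
   [1, 1, 1, -1, 1, -3, 1, 1, -1, 1, 1, 1, -1, 1, 1, -1, -1, -1, 1, 1, -1, 1, -1, 1],
   [0, 0, 0, -2, 0, 0, 2, 0, -2, 0, 2, 0, 0, 0, 0, -2, 0, -2, 2, 2, 0, 0, 0, 0],
   [-1, -3, 1, -1, -1, 1, 1, -1, 1, -1, 1, -1, 1, -1, -1, 1, 1, 1, -1, 1, -1, -1, 1, -1],
   [2, 0, -2, 2, -2, 0, 0, 0, 0, 0, 0, 2, 0, 0, -2, 0, 2, 0, -2, 0, 0, 0, 0, 0],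
   [0, 0, 0, -2, 0, 0, 2, 0, 0, 2, 2, 0, 0, 2, 2, 0, 0, 0, 0, 2, 0, 0, -2, 0],
   [1, -1, -1, 1, -1, -1, -1, -1, 3, 1, -1, 1, -1, -1, -1, 1, 1, -1, -1, -1, 1, 1, -1, -1],
   [1, 1, 3, -1, 1, -1, 1, 1, -1, 1, 1, -1, 1, -1, -1, -1, 1, -1, 1, 1, -1, 1, -1, -1],
   [-1, 3, -1, 1, -1, -1, -1, -1, -1, 1, -1, -1, 1, 1, 1, -1, 1, -1, 1, -1, 1, -1, -1, -1],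
   [-1, -1, 1, -1, 1, -1, 1, -1, 1, 1, 1, -1, 1, 1, 1, -1, -1, -1, 1, -1, 1, 3, 1, -1],
   [1, 1, 1, -1, -1, -1, -1, 1, 1, 1, -3, -1, 1, 1, 1, 1, 1, 1, -1, -1, 1, 1, -1, 1],
   [2, 2, -2, 0, 0, 2, -2, 0, -4, 0, 0, 0, 2, 2, 0, -2, 0, 0, 0, 0, 0, 0, 0, 0],
   [0, 4, -2, 0, -2, 4, 0, 0, -4, -2, 0, 0, 0, 0, 2, -2, 0, -4, 2, 0, 2, 2, 0, 0],
   [-1, -1, -3, -3, 1, 1, 1, -1, 1, 3, 1, -1, -1, 1, 5, 3, -3, 1, 1, -1, 1, 1, 1, -3],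
   [-1, -1, -1, -1, 1, -1, -1, 1, 3, 5, -1, 1, -1, 3, 3, 3, 1, 3, -3, 1, 1, -1, -1, -1],
   [0, 2, 2, 4, 2, -2, -2, 0, 2, 0, 2, 2, 0, 0, 0, 0, 2, -2, 0, 0, -2, -2, 0, 0],
   [1, -1, -1, 1, -1, 3, 1, -1, -3, -1, 5, 3, -3, -1, 1, 1, -3, -1, 3, 1, -1, -1, 1, 1],
   [2, 0, 2, 0, 2, 2, -6, 2, 0, 0, 2, 0, 2, -2, -2, 0, 2, 0, -2, 2, 2, 2, -2, 0],
   [-3, 3, -1, 1, 5, 1, -5, 5, 3, -1, -5, 3, -1, 1, 1, -3, -5, 5, -5, -7, 1, 3, 3, 5],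
   [-2, 2, -2, 4, 0, 4, 2, 2, 0, 0, 2, -2, -2, -2, 2, 4, 0, -2, 4, -2, -2, -2, 2, -2],
   [-1, 1, 1, 1, 1, -3, 3, 1, -1, 3, 3, 3, 1, 5, 1, -3, 3, -1, -5, -1, -1, -1, 1, 1],
   [0, 2, -2, -2, -4, 0, 0, -2, 0, 0, -6, 0, -2, 2, 2, 0, 0, 0, 2, 2, 2, 0, -2, 0],
   [-3, -3, 1, 1, -3, 7, -1, -5, 7, -1, 3, -1, 5, -5, -1, -1, 1, -3, 1, 1, -1, -3, 3, -3],
   [0, -2, 0, -2, 0, 2, 4, 2, -4, 0, 4, -2, 2, 0, -2, -2, 0, 0, -2, -2, 0, 2, 2, 0]]),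
   (2, 4123, [
   [1, 1, 1, -1, -1, 1, 1, 1, -1, -1, 1, 1, 1, -1, -1, 3, -1, -1, 1, 1, -1, -1, 1, -1],
   [2, 0, 2, 0, -2, 0, -2, 0, 0, 0, 0, 0, 2, 0, 0, 0, 0, 0, -2, 0, 0, -2, 2, 0],
   [0, 0, 2, 0, 0, -2, -2, 0, 0, 0, 0, 0, 2, 0, 0, 0, 0, 2, -2, -2, 0, 0, 0, 2],
   [-2, 2, 0, 2, 0, 0, 0, 0, 0, 0, 0, 0, -2, 0, 0, -2, 0, 0, 0, 0, 0, 2, -2, 2],
   [0, 2, 0, -2, 0, 0, 2, 0, -2, 0, 0, 2, 0, 0, 0, 0, -2, 0, 2, 0, -2, 0, 0, 0],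
   [1, -1, 1, 1, -3, -1, -1, -1, 1, 1, 1, 1, 1, 1, 1, -1, -1, 1, -1, -1, 1, 1, 1, 1],
   [-1, 1, -1, -1, -1, 1, 1, -1, -3, -1, 1, 1, -1, -1, -1, 1, -1, -1, 1, 1, 1, 1, 1, -1],
   [-1, 1, 1, 1, -1, -1, -1, -1, -1, -1, -1, -1, 1, 1, 1, -1, 1, 1, -1, -1, 1, -3, 1, 1],
   [0, -2, -2, -2, 0, -2, 0, -2, 0, 2, 0, 0, 0, 0, 0, 2, 0, 0, 0, 0, 0, -2, 0, 0],
   [0, 0, 0, 2, -2, 0, 0, 0, 0, 0, 0, -2, 0, -2, 0, 2, 0, 2, -2, 0, 2, 0, 0, 0],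
   [-1, -1, -1, -1, -1, 1, 1, -1, 1, 1, -1, -1, -1, -1, 1, -1, -1, -1, 1, 1, 1, -1, 3, -1],
   [1, -1, -1, -1, 1, -3, 1, 1, 1, 1, -1, -1, 1, 1, 1, 1, -1, 1, 1, -3, -3, -1, 1, -1],
   [-1, -3, -1, -3, 3, -1, -1, 1, 1, 1, 1, -1, 3, 1, -1, 3, -1, 5, 1, -3, -1, -1, 1, 1],
   [0, -4, 0, 2, -4, 0, -2, 2, 2, 0, 2, 0, -2, 0, 2, 4, 0, 0, 0, 0, 2, 4, 0, 0],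
   [3, -1, -1, -1, -5, 1, 1, -1, 1, 1, 1, 1, -3, 1, 3, -1, -1, -3, 1, 1, 3, 3, 1, -1],
   [3, 1, -1, -1, -1, 1, -1, -3, -3, -1, 1, -1, 1, 1, -1, -1, 1, -1, 1, 1, -1, -3, -3, -1],
   [2, 0, 4, 2, 2, 0, -4, 2, 0, 0, 2, 2, 2, 2, -2, 2, 0, 2, 2, -2, -2, 2, -2, 0],
   [0, 2, -2, 0, 0, 2, 2, -2, -2, -2, -2, -2, 0, 2, 0, -2, 2, 0, 2, -6, 0, 0, 2, -2],
   [6, -2, -4, -2, 2, 6, 6, 4, 4, -2, -6, -4, 2, 0, 0, 2, 2, -2, 0, 6, 0, 2, 2, -6],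
   [-3, -3, 1, -1, 1, 1, -3, 1, 1, -1, 3, 1, 1, 3, 1, 3, 1, 1, 3, 1, 1, -1, -7, -1],
   [6, 2, 0, -2, -6, -2, 2, 0, 0, 2, -2, 0, 2, 0, 0, -2, -2, 2, 0, 2, 0, -2, -2, 2],
   [-1, -3, -1, -3, 3, -1, -1, -1, 1, 3, 3, 1, -1, -1, 1, 1, -3, -1, -1, 1, 1, 1, 5, 1],
   [-5, 1, -3, 3, 3, -1, -1, -5, -5, -1, 1, -3, -3, 1, -1, -1, 1, 5, 1, 1, -1, 7, -7, 1],
   [-2, 2, 2, 2, -2, -2, 2, 4, 2, 0, -4, 0, 2, 0, 0, 0, 0, 4, 0, -2, 0, 0, -2, 2]])]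

end CfsgLib.Leech
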