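import Cfsg.Agent.Lib.Leech.Walk
import Cfsg.Agent.Lib.Leech.GenData
import Cfsg.Agent.Lib.Leech.FibreData0
import Cfsg.Agent.Lib.Leech.FibreData1
import Cfsg.Agent.Lib.Leech.FibreData2
import Cfsg.Agent.Lib.Leech.FibreData3

/-!
Kernel checks of the class certificates.
-/

set_option autoImplicit false
set_option maxRecDepth 20000

namespace CfsgLib.Leech

/-- the four fibres -/
def fibres : List FibreCert := [fibre0, fibre1, fibre2, fibre3]

theorem base0_ok : baseOK monoGens fibre0 = true := by decide +kernel
theorem base1_ok : baseOK monoGens fibre1 = true := by decide +kernel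
theorem base2_ok : baseOK monoGens fibre2 = true := by decide +kernel
theorem base3_ok : baseOK monoGens fibre3 = true := by decide +kernel

theorem fibre0_ok : fibreOK fibre0 = true := by decide +kernel
theorem fibre1_ok : fibreOK fibre1 = true := by decide +kernel
theorem fibre2_ok : fibreOK fibre2 = true := by decide +kernel
theorem fibre3_ok : fibreOK fibre3 = true := by decide +kernel

theorem bases_cover : fibre0.acc ||| fibre1.acc ||| fibre2.acc ||| fibre3.acc = 2 ^ 4096 - 1 := by
  decide +kernel

/-- check of one merging automorphism -/
def mergeOK (e : ℕ × ℕ × List (List ℤ)) : Bool :=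
  decide (e.1 < 4) && autOK e.2.2 &&
    CfsgLib.Golay.comb (e.2.2.map keyL) (keyL (mains.getD e.1 [])) == e.2.1

theorem mergeData_ok : mergeData.all mergeOK = true := by decide +kernel

theorem merge_covers : ((fibre0.orbs ++ fibre1.orbs ++ fibre2.orbs ++ fibre3.orbs).all fun O =>
    mergeData.any fun e => e.1 == O.typ && e.2.1 == O.rep) = true := by decide +kernel

theorem mains_ok : mains.all inL = true ∧
    mains.map (fun l => dotL l l) = [0, 32, 48, 64] := by decide +kernel

end CfsgLib.Leech
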