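import Cfsg.Agent.Lib.Leech.Check

/-!
The four orbits on classes modulo twice the lattice: zero and the three short types.
-/

set_option autoImplicit false
set_option maxRecDepth 10000

namespace CfsgLib.Leech

open Cfsg CfsgLib.Golay

attribute [local irreducible] dL bL key keyL coord packB linL

/-- the standard vector of a type -/
def mainV (t : ℕ) : GolayPt → ℤ := vec (mains.getD t [])

/-- the norm of a type -/
def typeNorm (t : ℕ) : ℤ := [(0 : ℤ), 32, 48, 64].getD t 0

theorem main_inL {t : ℕ} (ht : t < 4) : inL (mains.getD t []) = true := by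
  have hl : mains.length = 4 := by
    have := congrArg List.length mains_ok.2
    simpa using this
  rw [List.getD_eq_getElem _ _ (hl ▸ ht)]
  exact List.all_eq_true.1 mains_ok.1 _ (List.getElem_mem _)

theorem mainV_mem {t : ℕ} (ht : t < 4) : mainV t ∈ leechLattice := vec_mem (main_inL ht)

theorem mainV_norm {t : ℕ} (ht : t < 4) : sqNorm (mainV t) = typeNorm t := by
  have hl : mains.length = 4 := by
    have := congrArg List.length mains_ok.2
    simpa using this
  rw [mainV, sqNorm_vec (inL_length (main_inL ht)), typeNorm, ← mains_ok.2]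
  rw [List.getD_eq_getElem _ _ (hl ▸ ht), List.getD_eq_getElem _ _ (by simpa [hl] using ht),
    List.getElem_map]

/-- the class of a standard vector -/
def mainK (t : ℕ) : ℕ := key (mainV t)

theorem mainK_lt (t : ℕ) : mainK t < 2 ^ 24 := key_lt _

theorem mainK_eq {t : ℕ} (ht : t < 4) : mainK t = keyL (mains.getD t []) :=
  keyL_eq (inL_length (main_inL ht))

/-- the class `k` is of type `t` -/
def Typ (t k : ℕ) : Prop := ∃ g : ↥Co0, act g (mainK t) = k

theorem Typ.act {t k : ℕ} (h : Typ t k) (g : ↥Co0) : Typ t (act g k) := by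
  obtain ⟨s, rfl⟩ := h
  exact ⟨g * s, act_mul _ _ _⟩

theorem Typ.exists_vec {t k : ℕ} (ht : t < 4) (h : Typ t k) :
    ∃ v : ↥leechLattice, sqNorm (v : GolayPt → ℤ) = typeNorm t ∧ key (v : GolayPt → ℤ) = k := by
  obtain ⟨g, rfl⟩ := h
  refine ⟨g • ⟨mainV t, mainV_mem ht⟩, (sqNorm_smul _ _).trans (mainV_norm ht), ?_⟩
  rw [mainK, ← act_key g ⟨mainV t, mainV_mem ht⟩]

theorem typeNorm_inj {s t : ℕ} (hs : s < 4) (ht : t < 4) (h : typeNorm s = typeNorm t) : s = t := by
  interval_cases s <;> interval_cases t <;> first | rfl | simp [typeNorm] at h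

theorem typeNorm_le {t : ℕ} (ht : t < 4) : typeNorm t ≤ 64 := by
  interval_cases t <;> simp [typeNorm]

theorem sqNorm_eq_of_key {v w : GolayPt → ℤ} (hv : v ∈ leechLattice) (hw : w ∈ leechLattice)
    (hvn : sqNorm v ≤ 64) (hwn : sqNorm w ≤ 64) (h : key v = key w) : sqNorm v = sqNorm w := by
  by_cases h1 : w = v
  · rw [h1]
  · by_cases h2 : w = -v
    · rw [h2, sqNorm_neg]
    · obtain ⟨a, b, -⟩ := short_congruent hv hw hvn hwn ((key_eq_iff hv hw).1 h) h1 h2
      rw [a, b]

theorem Typ.unique {s t k : ℕ} (hs : s < 4) (ht : t < 4) (h : Typ s k) (h' : Typ t k) : s = t := by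
  obtain ⟨v, hv, hvk⟩ := h.exists_vec hs
  obtain ⟨w, hw, hwk⟩ := h'.exists_vec ht
  refine typeNorm_inj hs ht ?_
  rw [← hv, ← hw]
  exact sqNorm_eq_of_key v.2 w.2 (hv ▸ typeNorm_le hs) (hw ▸ typeNorm_le ht) (hvk.trans hwk.symm)

/-- the automorphism maps classes with equal low parts to classes with equal low parts -/
def LoLinear (g : ↥Co0) : Prop := ∀ k, k < 2 ^ 24 → lo (act g k) = lo (act g (lo k))

theorem lo_lt (k : ℕ) : lo k < 4096 := by
  rw [lo, show (4095 : ℕ) = 2 ^ 12 - 1 from rfl, Nat.and_two_pow_sub_one_eq_mod]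
  exact Nat.mod_lt _ (by norm_num)

theorem LoLinear.mul {g h : ↥Co0} (hg : LoLinear g) (hh : LoLinear h) : LoLinear (g * h) := by
  intro k hk
  rw [act_mul, act_mul, hg _ (act_lt h k), hh k hk, ← hg _ (act_lt h (lo k))]

theorem lo_comb_zero : ∀ (cs : List ℕ), (∀ c ∈ cs, lo c = 0) → ∀ k, lo (comb cs k) = 0 := by
  intro cs
  induction cs with
  | nil => intro _ k; simp [comb, lo]
  | cons c cs ih =>
    intro h k
    simp only [List.mem_cons, forall_eq_or_imp] at h
    rw [comb, lo, Nat.and_xor_distrib_right]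
    have := ih h.2 (k / 2)
    rw [lo] at this
    have hc := h.1
    rw [lo] at hc
    split <;> simp [this, hc]

theorem comb_append : ∀ (as bs : List ℕ) (k : ℕ),
    comb (as ++ bs) k = comb as k ^^^ comb bs (k / 2 ^ as.length) := by
  intro as
  induction as with
  | nil => intro bs k; simp [comb]
  | cons a as ih =>
    intro bs k
    rw [List.cons_append, comb, comb, ih, List.length_cons, Nat.div_div_eq_div_mul, ← pow_succ',
      Nat.xor_assoc]

theorem genOK_spec {e : ℕ × ℕ × List ℕ} (h : genOK e = true) :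
    ∃ g : ↥Co0, LoLinear g ∧ ∀ k, k < 2 ^ 24 → act g k = comb e.2.2 k := by
  simp only [genOK, Bool.and_eq_true, beq_iff_eq, List.all_eq_true] at h
  obtain ⟨⟨⟨hQ, hm⟩, hcols⟩, hlow⟩ := h
  have hσ := toPerm_mem_M24 hQ
  have hd : dec e.2.1 ∈ CS := ⟨wd e.2.1, wd_mem_of_inC hm, support_wd _⟩
  have hact : ∀ k, k < 2 ^ 24 → act (mono hσ hd) k = comb e.2.2 k := by
    intro k hk
    rw [act_mono hQ hm hk hσ hd, hcols]
  refine ⟨_, fun k hk => ?_, hact⟩
  have hlo : lo k < 2 ^ 24 := lt_trans (lo_lt k) (by norm_num)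
  rw [hact k hk, hact _ hlo]
  have key0 : ∀ j, lo (comb e.2.2 j) = lo (comb (e.2.2.take 12) j) := by
    intro j
    conv_lhs => rw [← List.take_append_drop 12 e.2.2, comb_append, lo, Nat.and_xor_distrib_right]
    have := lo_comb_zero _ hlow (j / 2 ^ (e.2.2.take 12).length)
    rw [lo] at this
    rw [this, Nat.xor_zero]; rfl
  rw [key0, key0]
  congr 1
  have hmod : ∀ (l : List ℕ) (a : ℕ), comb l a = comb l (a % 2 ^ l.length) := by
    intro l
    induction l with
    | nil => simp [comb]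
    | cons r rs ih =>
      intro a
      simp only [comb, List.length_cons]
      rw [ih (a / 2), ih ((a % 2 ^ (rs.length + 1)) / 2)]
      have h1 : a % 2 ^ (rs.length + 1) % 2 = a % 2 :=
        Nat.mod_mod_of_dvd _ (dvd_pow_self 2 (by omega))
      have h2 : (a % 2 ^ (rs.length + 1)) / 2 % 2 ^ rs.length = a / 2 % 2 ^ rs.length := by
        rw [pow_succ', Nat.mod_mul_right_div_self, Nat.mod_mod]
      simp only [h1, h2]
  rw [hmod, hmod (e.2.2.take 12) (lo k), lo, show (4095 : ℕ) = 2 ^ 12 - 1 from rfl,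
    Nat.and_two_pow_sub_one_eq_mod, Nat.mod_mod_of_dvd]
  rw [List.length_take]
  exact pow_dvd_pow 2 (min_le_left _ _)

theorem lo_idem {k : ℕ} (h : k < 4096) : lo k = k := by
  rw [lo, show (4095 : ℕ) = 2 ^ 12 - 1 from rfl, Nat.and_two_pow_sub_one_eq_mod,
    Nat.mod_eq_of_lt h]

theorem base_reach {N : List (ℕ × ℕ × List ℕ)} {F : FibreCert} (h : baseOK N F = true) {l : ℕ}
    (hl : F.acc.testBit l = true) : ∃ g : ↥Co0, LoLinear g ∧ lo (act g F.low) = l := by
  simp only [baseOK, Bool.and_eq_true, decide_eq_true_eq, List.all_eq_true, beq_iff_eq] at h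
  obtain ⟨⟨hlow, hN⟩, hw⟩ := h
  have hlt : F.low < 2 ^ 24 := lt_trans hlow (by norm_num)
  have hone : LoLinear 1 := fun k hk => by
    rw [act_one hk, act_one (lt_trans (lo_lt k) (by norm_num)), lo_idem (lo_lt k)]
  obtain ⟨g, hg, hgl, -⟩ := walkC_sound (R := LoLinear) (fun _ _ a b => a.mul b)
    (fun cols hc => by
      obtain ⟨e, he, rfl⟩ := List.mem_map.1 hc
      exact genOK_spec (hN e he))
    _ _ _ _ _ hw
    (fun k hk => ⟨1, hone, by rw [List.mem_singleton.1 hk, act_one hlt]⟩)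
    (fun b hb => by
      rw [Nat.one_shiftLeft, Nat.testBit_two_pow, decide_eq_true_eq] at hb
      exact ⟨1, hone, by rw [act_one hlt, lo_idem hlow, ← hb], rfl⟩)
    l hl
  exact ⟨g, hg, hgl⟩

theorem hi_lt {k : ℕ} (h : k < 2 ^ 24) : hi k < 4096 := by
  rw [hi, Nat.shiftRight_eq_div_pow]
  omega

theorem class_split {a b : ℕ} (h1 : lo a = lo b) (h2 : hi a = hi b) : a = b := by
  simp only [lo, hi, Nat.shiftRight_eq_div_pow, show (4095 : ℕ) = 2 ^ 12 - 1 from rfl,
    Nat.and_two_pow_sub_one_eq_mod] at h1 h2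
  omega

theorem orb_reach {F : FibreCert} {O : OrbCert} (hF : fibreOK F = true) (hO : O ∈ F.orbs)
    (hrep : Typ O.typ O.rep) {b : ℕ} (hb : O.acc.testBit b = true) :
    ∃ k, k < 2 ^ 24 ∧ lo k = F.low ∧ hi k = b ∧ Typ O.typ k := by
  simp only [fibreOK, Bool.and_eq_true, List.all_eq_true, beq_iff_eq] at hF
  obtain ⟨⟨hg, horbs⟩, -⟩ := hF
  have h := horbs O hO
  simp only [orbOK', Bool.and_eq_true, decide_eq_true_eq, beq_iff_eq] at h
  obtain ⟨⟨⟨-, hr⟩, hlo⟩, hw⟩ := h
  have hr' : O.rep < 2 ^ 24 := by norm_num; exact hr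
  obtain ⟨g, -, hgb, hgl⟩ := walkC_sound (R := fun _ => True) (fun _ _ _ _ => trivial)
    (fun cols hc => by
      obtain ⟨e, he, rfl⟩ := List.mem_map.1 hc
      obtain ⟨g, -, hga⟩ := genOK_spec (hg e he)
      exact ⟨g, trivial, hga⟩)
    _ _ _ _ _ hw
    (fun k hk => ⟨1, trivial, by rw [List.mem_singleton.1 hk, act_one hr']⟩)
    (fun c hc => by
      rw [Nat.one_shiftLeft, Nat.testBit_two_pow, decide_eq_true_eq] at hc
      exact ⟨1, trivial, by rw [act_one hr', hc], by rw [act_one hr', beq_iff_eq, hlo]⟩)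
    b hb
  exact ⟨act g O.rep, act_lt _ _, by simpa using hgl, hgb, hrep.act g⟩

theorem testBit_allAcc : ∀ (l : List OrbCert) (b : ℕ), (allAcc l).testBit b = true →
    ∃ O ∈ l, O.acc.testBit b = true := by
  intro l
  induction l with
  | nil => intro b h; simp [allAcc] at h
  | cons O Os ih =>
    intro b h
    rw [allAcc, Nat.testBit_or, Bool.or_eq_true] at h
    rcases h with h | h
    · exact ⟨O, List.mem_cons_self, h⟩
    · obtain ⟨P, hP, hPb⟩ := ih b h
      exact ⟨P, List.mem_cons_of_mem _ hP, hPb⟩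

theorem testBit_typeAcc (t : ℕ) : ∀ (l : List OrbCert) (b : ℕ), (typeAcc t l).testBit b = true ↔
    ∃ O ∈ l, O.typ = t ∧ O.acc.testBit b = true := by
  intro l
  induction l with
  | nil => intro b; simp [typeAcc]
  | cons O Os ih =>
    intro b
    rw [typeAcc, Nat.testBit_or, Bool.or_eq_true, ih]
    by_cases h : O.typ = t <;> simp [h]

theorem fibres_cases {F : FibreCert} (h : F ∈ fibres) :
    F = fibre0 ∨ F = fibre1 ∨ F = fibre2 ∨ F = fibre3 := by simpa [fibres] using h

theorem fibres_ok {F : FibreCert} (h : F ∈ fibres) :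
    baseOK monoGens F = true ∧ fibreOK F = true := by
  rcases fibres_cases h with rfl | rfl | rfl | rfl
  exacts [⟨base0_ok, fibre0_ok⟩, ⟨base1_ok, fibre1_ok⟩, ⟨base2_ok, fibre2_ok⟩, ⟨base3_ok, fibre3_ok⟩]

theorem orbs_typ {F : FibreCert} (h : F ∈ fibres) {O : OrbCert} (hO : O ∈ F.orbs) :
    O.typ < 4 ∧ Typ O.typ O.rep := by
  have hmem : O ∈ fibre0.orbs ++ fibre1.orbs ++ fibre2.orbs ++ fibre3.orbs := by
    simp only [List.mem_append]
    rcases fibres_cases h with rfl | rfl | rfl | rfl <;> simp [hO]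
  have h1 := List.all_eq_true.1 merge_covers O hmem
  simp only [List.any_eq_true, Bool.and_eq_true, beq_iff_eq] at h1
  obtain ⟨e, he, het, her⟩ := h1
  have h2 := List.all_eq_true.1 mergeData_ok e he
  simp only [mergeOK, Bool.and_eq_true, decide_eq_true_eq, beq_iff_eq] at h2
  obtain ⟨⟨ht, haut⟩, hk⟩ := h2
  refine ⟨het ▸ ht, (linIso haut).aut, ?_⟩
  rw [← het, act_lin haut (mainK_lt _), mainK_eq ht, hk, her]

/-- the four fibres over the orbit representatives cover everything -/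
theorem exists_fibre {l : ℕ} (hl : l < 4096) : ∃ F ∈ fibres, F.acc.testBit l = true := by
  have h : (fibre0.acc ||| fibre1.acc ||| fibre2.acc ||| fibre3.acc).testBit l = true := by
    rw [bases_cover, Nat.testBit_two_pow_sub_one]; simpa using hl
  simp only [Nat.testBit_or, Bool.or_eq_true] at h
  rcases h with ((h | h) | h) | h
  exacts [⟨_, by simp [fibres], h⟩, ⟨_, by simp [fibres], h⟩, ⟨_, by simp [fibres], h⟩,
    ⟨_, by simp [fibres], h⟩]

theorem fibre_typ {F : FibreCert} (hF : F ∈ fibres) {k : ℕ} (hk : k < 2 ^ 24) (hlo : lo k = F.low)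
    {t : ℕ} (ht : t < 4) :
    Typ t k ↔ (typeAcc t F.orbs).testBit (hi k) = true := by
  have hok := (fibres_ok hF).2
  have hcov : allAcc F.orbs = 2 ^ 4096 - 1 := by
    have := hok
    simp only [fibreOK, Bool.and_eq_true, beq_iff_eq] at this
    exact this.2
  constructor
  · intro h
    obtain ⟨O, hO, hOb⟩ := testBit_allAcc F.orbs (hi k)
      (by rw [hcov, Nat.testBit_two_pow_sub_one]; simpa using hi_lt hk)
    obtain ⟨k', -, hlo', hhi', htyp'⟩ := orb_reach hok hO (orbs_typ hF hO).2 hOb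
    have : k' = k := class_split (hlo'.trans hlo.symm) hhi'
    subst this
    exact (testBit_typeAcc t _ _).2 ⟨O, hO, htyp'.unique (orbs_typ hF hO).1 ht h, hOb⟩
  · intro h
    obtain ⟨O, hO, rfl, hOb⟩ := (testBit_typeAcc t _ _).1 h
    obtain ⟨k', -, hlo', hhi', htyp'⟩ := orb_reach hok hO (orbs_typ hF hO).2 hOb
    have : k' = k := class_split (hlo'.trans hlo.symm) hhi'
    rwa [← this]

/-- the map between fibres induced by an automorphism respecting low parts -/
theorem fibre_bij {g : ↥Co0} (hg : LoLinear g) {r l : ℕ} (hr : r < 4096) (hl : lo (act g r) = l) :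
    ∀ k, k < 2 ^ 24 → lo k = r → lo (act g k) = l := by
  intro k hk hkr
  rw [hg k hk, hkr, hl]

/-- the classes with a given low part -/
def fib (l : ℕ) : Set ℕ := {k | k < 2 ^ 24 ∧ lo k = l}

theorem fib_ncard {l : ℕ} (hl : l < 4096) : (fib l).ncard = 4096 := by
  have he : fib l = (fun h => l + 4096 * h) '' Set.Iio 4096 := by
    ext k
    simp only [fib, Set.mem_setOf_eq, Set.mem_image, Set.mem_Iio, lo,
      show (4095 : ℕ) = 2 ^ 12 - 1 from rfl, Nat.and_two_pow_sub_one_eq_mod]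
    constructor
    · rintro ⟨h1, h2⟩; exact ⟨k / 4096, by omega, by omega⟩
    · rintro ⟨h, h1, rfl⟩; omega
  rw [he, Set.InjOn.ncard_image (fun a _ b _ h => by have h' : l + 4096 * a = l + 4096 * b := h; omega)]
  rw [← Finset.coe_Iio, Set.ncard_coe_finset]
  simp

theorem act_fib {g : ↥Co0} (hg : LoLinear g) {r : ℕ} (hr : r < 4096) :
    (act g) '' fib r = fib (lo (act g r)) := by
  refine Set.eq_of_subset_of_ncard_le ?_ ?_ ((Set.finite_Iio (2 ^ 24)).subset fun k hk => hk.1)
  · rintro _ ⟨k, ⟨hk, hkr⟩, rfl⟩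
    exact ⟨act_lt g k, fibre_bij hg hr rfl k hk hkr⟩
  · rw [fib_ncard (lo_lt _), Set.InjOn.ncard_image, fib_ncard hr]
    intro a ha b hb hab
    rw [← act_inv_act g ha.1, hab, act_inv_act g hb.1]

theorem classify {k : ℕ} (hk : k < 2 ^ 24) : ∃ t, t < 4 ∧ Typ t k := by
  obtain ⟨F, hF, hFl⟩ := exists_fibre (lo_lt k)
  obtain ⟨g, hg, hgl⟩ := base_reach (fibres_ok hF).1 hFl
  have hlow : F.low < 4096 := by
    have := (fibres_ok hF).1
    simp only [baseOK, Bool.and_eq_true, decide_eq_true_eq] at this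
    exact this.1.1
  have hmem : k ∈ (act g) '' fib F.low := by
    rw [act_fib hg hlow, hgl]; exact ⟨hk, rfl⟩
  obtain ⟨k', ⟨hk', hlo'⟩, rfl⟩ := hmem
  have hok := (fibres_ok hF).2
  simp only [fibreOK, Bool.and_eq_true, beq_iff_eq] at hok
  obtain ⟨O, hO, hOb⟩ := testBit_allAcc F.orbs (hi k')
    (by rw [hok.2, Nat.testBit_two_pow_sub_one]; simpa using hi_lt hk')
  have ht := (orbs_typ hF hO).1
  exact ⟨O.typ, ht, ((fibre_typ hF hk' hlo' ht).2 ((testBit_typeAcc _ _ _).2 ⟨O, hO, rfl, hOb⟩)).act g⟩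

end CfsgLib.Leech
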