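import Cfsg.Agent.Lib.Leech.BasisData

/-!
Coordinates in the basis, classes modulo twice the lattice, and automorphisms given by images.
-/

set_option autoImplicit false
set_option maxRecDepth 10000
set_option maxHeartbeats 200000

namespace CfsgLib.Leech

open Cfsg CfsgLib.Golay

/-- basis vector -/
def bV (j : Fin 24) : GolayPt → ℤ := vec (bL.getD j.val [])

/-- dual vector -/
def dV (j : Fin 24) : GolayPt → ℤ := vec (dL.getD j.val [])

theorem data_inL : bL.all inL = true ∧ dL.all inL = true := by decide +kernel

theorem data_length : bL.length = 24 ∧ dL.length = 24 := by decide +kernel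

theorem data_dual : ∀ i k : Fin 24, (∑ j : Fin 24, (bL.getD j.val []).getD i.val 0 * (dL.getD j.val []).getD k.val 0) =
    if i = k then 8 else 0 := by decide +kernel

theorem bV_mem (j : Fin 24) : bV j ∈ leechLattice := by
  refine vec_mem (List.all_eq_true.1 data_inL.1 _ ?_)
  rw [List.getD_eq_getElem?_getD, List.getElem?_eq_getElem (by rw [data_length.1]; exact j.isLt)]
  exact List.getElem_mem _

theorem dV_mem (j : Fin 24) : dV j ∈ leechLattice := by
  refine vec_mem (List.all_eq_true.1 data_inL.2 _ ?_)
  rw [List.getD_eq_getElem?_getD, List.getElem?_eq_getElem (by rw [data_length.2]; exact j.isLt)]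
  exact List.getElem_mem _

theorem getD_ofFn {α : Type} {n : ℕ} (f : Fin n → α) (d : α) (i : ℕ) :
    (List.ofFn f).getD i d = if h : i < n then f ⟨i, h⟩ else d := by
  by_cases h : i < n
  · rw [dif_pos h, List.getD_eq_getElem?_getD, List.getElem?_eq_getElem (by simpa using h),
      Option.getD_some, List.getElem_ofFn]
  · rw [dif_neg h, List.getD_eq_default _ _ (by simpa using h)]

attribute [local irreducible] dL bL

/-- coordinate of a lattice vector in the basis -/
def coord (x : GolayPt → ℤ) (j : Fin 24) : ℤ := dotInt x (dV j) / 8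

theorem eight_coord {x : GolayPt → ℤ} (hx : x ∈ leechLattice) (j : Fin 24) :
    8 * coord x j = dotInt x (dV j) := Int.mul_ediv_cancel' (dotInt_dvd hx (dV_mem j))

theorem coord_add {x y : GolayPt → ℤ} (hx : x ∈ leechLattice) (hy : y ∈ leechLattice) (j : Fin 24) :
    coord (x + y) j = coord x j + coord y j := by
  have h1 := eight_coord (add_mem hx hy) j
  rw [dotInt_add_left', ← eight_coord hx, ← eight_coord hy] at h1
  omega

theorem coord_zero (j : Fin 24) : coord 0 j = 0 := by simp [coord, dotInt_zero_left]

theorem coord_zsmul {x : GolayPt → ℤ} (hx : x ∈ leechLattice) (z : ℤ) (j : Fin 24) :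
    coord (z • x) j = z * coord x j := by
  have h1 := eight_coord (zsmul_mem hx z) j
  rw [dotInt_smul_left, ← eight_coord hx, mul_left_comm] at h1
  omega

/-- the basis as a list of vectors -/
def bList : List (GolayPt → ℤ) := bL.map vec

theorem bList_eq : bList = List.ofFn bV := by
  refine List.ext_getElem ?_ fun i h1 h2 => ?_
  · rw [bList, List.length_map, List.length_ofFn, data_length.1]
  · rw [List.length_ofFn] at h2
    simp only [bList, List.getElem_map, List.getElem_ofFn, bV]
    rw [List.getD_eq_getElem?_getD, List.getElem?_eq_getElem (by rw [data_length.1]; exact h2),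
      Option.getD_some]

theorem recon {x : GolayPt → ℤ} (hx : x ∈ leechLattice) :
    linL (List.ofFn (coord x)) bList = x := by
  rw [bList_eq, linL_ofFn]
  funext p
  have h : 8 * (∑ j, coord x j • bV j) p = 8 * x p := by
    simp only [Finset.sum_apply, Pi.smul_apply, smul_eq_mul, Finset.mul_sum, ← mul_assoc, eight_coord hx]
    simp only [dotInt, Finset.sum_mul]
    rw [Finset.sum_comm]
    rw [Finset.sum_eq_single p]
    · have := data_dual (idxEquiv p) (idxEquiv p)
      rw [if_pos rfl] at this
      simp only [mul_assoc, ← Finset.mul_sum]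
      rw [show ∑ j, dV j p * bV j p = 8 by
        rw [← this]; exact Finset.sum_congr rfl fun j _ => mul_comm _ _]
      ring
    · intro q _ hqp
      have := data_dual (idxEquiv p) (idxEquiv q)
      rw [if_neg (fun h => hqp (idxEquiv.injective h).symm)] at this
      simp only [mul_assoc, ← Finset.mul_sum]
      rw [show ∑ j, dV j q * bV j p = 0 by
        rw [← this]; exact Finset.sum_congr rfl fun j _ => mul_comm _ _]
      ring
    · simp
  omega

/-! ### Classes modulo twice the lattice -/

/-- the class modulo two, as 24 bits -/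
def key (x : GolayPt → ℤ) : ℕ := packB (List.ofFn fun j => decide (coord x j % 2 = 1))

/-- the class of a coordinate list -/
def keyL (l : List ℤ) : ℕ := packB (dL.map fun d => decide (dotL l d / 8 % 2 = 1))

theorem key_lt (x : GolayPt → ℤ) : key x < 2 ^ 24 := by
  have := packB_lt (List.ofFn fun j => decide (coord x j % 2 = 1))
  rwa [List.length_ofFn] at this

theorem testBit_key (x : GolayPt → ℤ) (j : Fin 24) :
    (key x).testBit j.val = decide (coord x j % 2 = 1) := by
  rw [key, testBit_packB, getD_ofFn, dif_pos j.isLt]

theorem key_add {x y : GolayPt → ℤ} (hx : x ∈ leechLattice) (hy : y ∈ leechLattice) :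
    key (x + y) = key x ^^^ key y := by
  apply Nat.eq_of_testBit_eq
  intro i
  by_cases hi : i < 24
  · have hh := fun z => testBit_key z ⟨i, hi⟩
    simp only at hh
    rw [Nat.testBit_xor, hh, hh, hh, coord_add hx hy]
    rcases Int.emod_two_eq_zero_or_one (coord x ⟨i, hi⟩) with a | a <;>
      rcases Int.emod_two_eq_zero_or_one (coord y ⟨i, hi⟩) with b | b <;> simp [Int.add_emod, a, b]
  · rw [Nat.testBit_lt_two_pow (lt_of_lt_of_le (key_lt _) (Nat.pow_le_pow_right (by norm_num) (by omega))),
      Nat.testBit_lt_two_pow (lt_of_lt_of_le (Nat.xor_lt_two_pow (key_lt x) (key_lt y))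
        (Nat.pow_le_pow_right (by norm_num) (by omega)))]

theorem key_zero : key 0 = 0 := by
  apply Nat.eq_of_testBit_eq
  intro i
  rw [key, testBit_packB, getD_ofFn]
  by_cases hi : i < 24 <;> simp [hi, coord_zero]

theorem key_neg {x : GolayPt → ℤ} (hx : x ∈ leechLattice) : key (-x) = key x := by
  apply Nat.eq_of_testBit_eq
  intro i
  rw [key, key, testBit_packB, testBit_packB]
  have e : (fun j => decide (coord (-x) j % 2 = 1)) = fun j => decide (coord x j % 2 = 1) := by
    funext j
    rw [show (-x) = (-1 : ℤ) • x by simp, coord_zsmul hx, decide_eq_decide]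
    omega
  rw [e]

theorem key_zsmul {x : GolayPt → ℤ} (hx : x ∈ leechLattice) (z : ℤ) :
    key (z • x) = if z % 2 = 1 then key x else 0 := by
  apply Nat.eq_of_testBit_eq
  intro i
  by_cases hi : i < 24
  · have hh := fun w => testBit_key w ⟨i, hi⟩
    simp only at hh
    rw [hh, coord_zsmul hx]
    split
    · next h => rw [hh]; simp [Int.mul_emod, h]
    · next h =>
      have : z % 2 = 0 := by omega
      simp [Int.mul_emod, this]
  · rw [Nat.testBit_lt_two_pow (lt_of_lt_of_le (key_lt _) (Nat.pow_le_pow_right (by norm_num) (by omega)))]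
    split
    · rw [Nat.testBit_lt_two_pow (lt_of_lt_of_le (key_lt _) (Nat.pow_le_pow_right (by norm_num) (by omega)))]
    · simp

theorem key_linL : ∀ (zs : List ℤ) (ws : List (GolayPt → ℤ)), (∀ w ∈ ws, w ∈ leechLattice) →
    zs.length = ws.length →
    key (linL zs ws) = comb (ws.map key) (packB (zs.map fun z => decide (z % 2 = 1))) := by
  intro zs
  induction zs with
  | nil =>
    intro ws _ hl
    rw [List.length_eq_zero_iff.1 hl.symm]
    simp [linL, comb, key_zero, packB]
  | cons z zs ih =>
    intro ws h hl
    cases ws with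
    | nil => simp at hl
    | cons w ws =>
      simp only [List.mem_cons, forall_eq_or_imp] at h
      rw [linL, key_add (zsmul_mem h.1 z) (linL_mem zs ws h.2), key_zsmul h.1,
        ih ws h.2 (by simpa using hl), List.map_cons, List.map_cons, packB, comb]
      by_cases hz : z % 2 = 1
      · simp [hz, show ∀ r : ℕ, (1 + 2 * r) % 2 = 1 by omega, show ∀ r : ℕ, (1 + 2 * r) / 2 = r by omega]
      · simp [hz]

theorem key_eq_iff {x y : GolayPt → ℤ} (hx : x ∈ leechLattice) (hy : y ∈ leechLattice) :
    key x = key y ↔ ∃ z ∈ leechLattice, x - y = 2 • z := by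
  constructor
  · intro h
    have he : ∀ j, coord (x - y) j % 2 = 0 := by
      intro j
      have h1 := testBit_key x j
      rw [h, testBit_key, decide_eq_decide] at h1
      have h2 := coord_add (sub_mem hx hy) hy j
      rw [sub_add_cancel] at h2
      omega
    refine ⟨∑ j, (coord (x - y) j / 2) • bV j, sum_mem fun j _ => zsmul_mem (bV_mem j) _, ?_⟩
    conv_lhs => rw [← recon (sub_mem hx hy), bList_eq, linL_ofFn]
    rw [Finset.smul_sum]
    refine Finset.sum_congr rfl fun j _ => ?_
    have := he j
    rw [two_nsmul, ← add_smul,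
      show coord (x - y) j / 2 + coord (x - y) j / 2 = coord (x - y) j by omega]
  · rintro ⟨z, hz, hxy⟩
    rw [show x = y + (z + z) by rw [← two_nsmul, ← hxy, add_sub_cancel], key_add hy (add_mem hz hz),
      key_add hz hz, Nat.xor_self, Nat.xor_zero]

/-- the lattice vector with given class -/
def vecOf (k : ℕ) : GolayPt → ℤ := linL (List.ofFn fun j : Fin 24 => if k.testBit j.val then 1 else 0) bList

theorem bList_mem : ∀ w ∈ bList, w ∈ leechLattice := by
  intro w hw
  obtain ⟨l, hl, rfl⟩ := List.mem_map.1 hw
  exact vec_mem (List.all_eq_true.1 data_inL.1 l hl)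

theorem vecOf_mem (k : ℕ) : vecOf k ∈ leechLattice := linL_mem _ _ bList_mem

theorem keyL_eq {l : List ℤ} (h : l.length = 24) : key (vec l) = keyL l := by
  rw [key, keyL]
  congr 1
  refine List.ext_getElem (by rw [List.length_ofFn, List.length_map, data_length.2]) fun i h1 h2 => ?_
  rw [List.length_ofFn] at h1
  rw [List.getElem_ofFn, List.getElem_map]
  have hd : i < dL.length := by rw [data_length.2]; exact h1
  have hdv : dV ⟨i, h1⟩ = vec dL[i] := by
    simp only [dV, List.getD_eq_getElem?_getD, List.getElem?_eq_getElem hd, Option.getD_some]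
  have hlen : (dL[i]).length = 24 := by
    have := List.all_eq_true.1 data_inL.2 _ (List.getElem_mem hd)
    simp only [inL, Bool.and_eq_true, beq_iff_eq] at this
    exact this.1.1.1
  rw [coord, hdv, dotInt_vec h hlen]

theorem key_bList : bList.map key = (List.range 24).map fun j => 2 ^ j := by
  have h1 : bList.map key = bL.map keyL := by
    rw [bList, List.map_map]
    refine List.map_congr_left fun l hl => ?_
    have := List.all_eq_true.1 data_inL.1 l hl
    simp only [inL, Bool.and_eq_true, beq_iff_eq] at this
    exact keyL_eq this.1.1.1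
  rw [h1]
  decide +kernel

theorem comb_pow : ∀ (n a k : ℕ), comb ((List.range n).map fun j => 2 ^ (a + j)) k = 2 ^ a * (k % 2 ^ n) := by
  intro n
  induction n with
  | zero => intro a k; simp [comb, Nat.mod_one]
  | succ n ih =>
    intro a k
    rw [List.range_succ_eq_map, List.map_cons, List.map_map, comb,
      show ((fun j => 2 ^ (a + j)) ∘ Nat.succ) = fun j => 2 ^ (a + 1 + j) from
        funext fun j => by simp [Nat.add_assoc, Nat.add_comm 1 j], ih, add_zero]
    have hdiv : k % 2 ^ (n + 1) = k % 2 + 2 * (k / 2 % 2 ^ n) := by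
      rw [pow_succ', Nat.mod_mul]
    rw [hdiv]
    rcases Nat.mod_two_eq_zero_or_one k with h | h
    · simp [h, pow_succ]; ring
    · rw [if_pos h, h, mul_add, mul_one, pow_succ, mul_assoc]
      rw [← mul_assoc, show 2 ^ a * 2 = 2 ^ (a + 1) from (pow_succ 2 a).symm]
      generalize k / 2 % 2 ^ n = r
      have hlt : 2 ^ a < 2 ^ (a + 1) := Nat.pow_lt_pow_succ (by norm_num)
      rw [Nat.add_comm (2 ^ a), Nat.two_pow_add_eq_or_of_lt hlt]
      apply Nat.eq_of_testBit_eq
      intro i
      rw [Nat.testBit_xor, Nat.testBit_or, Nat.testBit_two_pow, Nat.testBit_two_pow_mul]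
      by_cases hi : a = i
      · subst hi; simp
      · simp [hi]

theorem key_vecOf {k : ℕ} (hk : k < 2 ^ 24) : key (vecOf k) = k := by
  rw [vecOf, key_linL _ _ bList_mem (by rw [List.length_ofFn, bList, List.length_map, data_length.1]),
    key_bList]
  have hp : packB ((List.ofFn fun j : Fin 24 => if k.testBit j.val then (1 : ℤ) else 0).map
      fun z => decide (z % 2 = 1)) = k := by
    apply Nat.eq_of_testBit_eq
    intro i
    rw [testBit_packB, List.map_ofFn]
    by_cases hi : i < 24
    · rw [List.getD_eq_getElem?_getD, List.getElem?_eq_getElem (by simpa using hi), Option.getD_some,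
        List.getElem_ofFn]
      simp only [Function.comp_apply]
      split <;> simp_all
    · rw [List.getD_eq_default _ _ (by simpa using hi),
        Nat.testBit_lt_two_pow (lt_of_lt_of_le hk (Nat.pow_le_pow_right (by norm_num) (by omega)))]
  have h0 := comb_pow 24 0 k
  simp only [Nat.zero_add, pow_zero, one_mul] at h0
  rw [hp, h0, Nat.mod_eq_of_lt hk]

end CfsgLib.Leech
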