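import Cfsg.Agent.Lib.Leech.Classes

/-!
Numbers of classes of the three short types.
-/

set_option autoImplicit false
set_option maxRecDepth 20000

namespace CfsgLib.Leech

open Cfsg CfsgLib.Golay

/-- number of bits among the first 4096 -/
def bits (n : ℕ) : ℕ := (List.range 4096).countP fun i => n.testBit i

theorem ncard_bits (n : ℕ) : {h : ℕ | h < 4096 ∧ n.testBit h = true}.ncard = bits n := by
  rw [bits, List.countP_eq_length_filter,
    ← List.toFinset_card_of_nodup (List.nodup_range.filter _), ← Set.ncard_coe_finset]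
  congr 1
  ext i
  simp

theorem bases_disjoint :
    fibre0.acc &&& fibre1.acc = 0 ∧ fibre0.acc &&& fibre2.acc = 0 ∧ fibre0.acc &&& fibre3.acc = 0 ∧
    fibre1.acc &&& fibre2.acc = 0 ∧ fibre1.acc &&& fibre3.acc = 0 ∧ fibre2.acc &&& fibre3.acc = 0 := by
  decide +kernel

theorem base_bits : bits fibre0.acc = 1 ∧ bits fibre1.acc = 2048 ∧ bits fibre2.acc = 759 ∧
    bits fibre3.acc = 1288 := by decide +kernel

theorem type1_bits : bits (typeAcc 1 fibre0.orbs) = 552 ∧ bits (typeAcc 1 fibre1.orbs) = 24 ∧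
    bits (typeAcc 1 fibre2.orbs) = 64 ∧ bits (typeAcc 1 fibre3.orbs) = 0 := by decide +kernel

theorem type2_bits : bits (typeAcc 2 fibre0.orbs) = 0 ∧ bits (typeAcc 2 fibre1.orbs) = 2048 ∧
    bits (typeAcc 2 fibre2.orbs) = 2048 ∧ bits (typeAcc 2 fibre3.orbs) = 2048 := by decide +kernel

theorem type3_bits : bits (typeAcc 3 fibre0.orbs) = 3543 ∧ bits (typeAcc 3 fibre1.orbs) = 2024 ∧
    bits (typeAcc 3 fibre2.orbs) = 1984 ∧ bits (typeAcc 3 fibre3.orbs) = 2048 := by decide +kernel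

attribute [local irreducible] dL bL key keyL coord packB linL bits

/-- the classes of type `t` -/
def typeSet (t : ℕ) : Set ℕ := {k | k < 2 ^ 24 ∧ Typ t k}

theorem fibres_low {F : FibreCert} (hF : F ∈ fibres) : F.low < 4096 := by
  have := (fibres_ok hF).1
  simp only [baseOK, Bool.and_eq_true, decide_eq_true_eq] at this
  exact this.1.1

theorem ncard_fib_typ {F : FibreCert} (hF : F ∈ fibres) {l : ℕ} (hl : F.acc.testBit l = true)
    {t : ℕ} (ht : t < 4) :
    {k | k ∈ fib l ∧ Typ t k}.ncard = bits (typeAcc t F.orbs) := by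
  obtain ⟨g, hg, hgl⟩ := base_reach (fibres_ok hF).1 hl
  have hlow := fibres_low hF
  have h1 : {k | k ∈ fib l ∧ Typ t k} = (act g) '' {k | k ∈ fib F.low ∧ Typ t k} := by
    ext k
    constructor
    · rintro ⟨hk, hT⟩
      have hk' : k ∈ (act g) '' fib F.low := by rw [act_fib hg hlow, hgl]; exact hk
      obtain ⟨j, hj, rfl⟩ := hk'
      refine ⟨j, ⟨hj, ?_⟩, rfl⟩
      have := hT.act g⁻¹
      rwa [act_inv_act g hj.1] at this
    · rintro ⟨j, ⟨hj, hT⟩, rfl⟩
      refine ⟨?_, hT.act g⟩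
      rw [← hgl, ← act_fib hg hlow]
      exact ⟨j, hj, rfl⟩
  have h2 : {k | k ∈ fib F.low ∧ Typ t k} =
      (fun h => F.low + 4096 * h) '' {h | h < 4096 ∧ (typeAcc t F.orbs).testBit h = true} := by
    ext k
    have hiEq : hi k = k / 4096 := by rw [hi, Nat.shiftRight_eq_div_pow]
    have hloEq : ∀ j, lo j = j % 4096 := fun j => by
      rw [lo, show (4095 : ℕ) = 2 ^ 12 - 1 from rfl, Nat.and_two_pow_sub_one_eq_mod]
    constructor
    · rintro ⟨⟨hk, hkl⟩, hT⟩
      refine ⟨hi k, ⟨hi_lt hk, (fibre_typ hF hk hkl ht).1 hT⟩, ?_⟩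
      rw [hloEq] at hkl
      show F.low + 4096 * hi k = k
      rw [hiEq]; omega
    · rintro ⟨h, ⟨hh, hb⟩, rfl⟩
      have hk : F.low + 4096 * h < 2 ^ 24 := by omega
      have hkl : lo (F.low + 4096 * h) = F.low := by rw [hloEq]; omega
      have hhi : hi (F.low + 4096 * h) = h := by rw [hi, Nat.shiftRight_eq_div_pow]; omega
      exact ⟨⟨hk, hkl⟩, (fibre_typ hF hk hkl ht).2 (by rw [hhi]; exact hb)⟩
  rw [h1, Set.InjOn.ncard_image (fun a ha b hb hab => by
      rw [← act_inv_act g ha.1.1, hab, act_inv_act g hb.1.1]),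
    h2, Set.InjOn.ncard_image (fun a _ b _ h => by
      have h' : F.low + 4096 * a = F.low + 4096 * b := h
      omega), ncard_bits]

theorem ncard_base_typ {F : FibreCert} (hF : F ∈ fibres) {t : ℕ} (ht : t < 4) :
    {k | k < 2 ^ 24 ∧ F.acc.testBit (lo k) = true ∧ Typ t k}.ncard =
      bits F.acc * bits (typeAcc t F.orbs) := by
  classical
  let s : Finset ℕ := (Finset.range 4096).filter fun l => F.acc.testBit l
  have hs : s.card = bits F.acc := by
    rw [← ncard_bits, ← Set.ncard_coe_finset]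
    congr 1
    ext l; simp [s]
  have hfin : ∀ l, {k | k ∈ fib l ∧ Typ t k}.Finite := fun l =>
    (Set.finite_Iio (2 ^ 24)).subset fun k hk => hk.1.1
  have he : {k | k < 2 ^ 24 ∧ F.acc.testBit (lo k) = true ∧ Typ t k} =
      ((s.biUnion fun l => (hfin l).toFinset : Finset ℕ) : Set ℕ) := by
    ext k
    simp only [Set.mem_setOf_eq, Finset.coe_biUnion, Set.mem_iUnion, Set.Finite.coe_toFinset, fib,
      exists_prop, Finset.mem_coe, s, Finset.mem_filter, Finset.mem_range]
    constructor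
    · rintro ⟨hk, hb, hT⟩; exact ⟨lo k, ⟨lo_lt k, hb⟩, ⟨hk, rfl⟩, hT⟩
    · rintro ⟨l, ⟨-, hb⟩, ⟨hk, rfl⟩, hT⟩; exact ⟨hk, hb, hT⟩
  rw [he, Set.ncard_coe_finset, Finset.card_biUnion]
  · rw [Finset.sum_const_nat (m := bits (typeAcc t F.orbs)), hs]
    intro l hl
    rw [← Set.ncard_eq_toFinset_card _ (hfin l)]
    exact ncard_fib_typ hF (Finset.mem_filter.1 hl).2 ht
  · intro a _ b _ hab
    rw [Function.onFun, Finset.disjoint_left]
    intro k hka hkb
    rw [Set.Finite.mem_toFinset] at hka hkb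
    exact hab (hka.1.2.symm.trans hkb.1.2)

theorem ncard_typeSet {t : ℕ} (ht : t < 4) :
    (typeSet t).ncard = bits fibre0.acc * bits (typeAcc t fibre0.orbs) +
      bits fibre1.acc * bits (typeAcc t fibre1.orbs) + bits fibre2.acc * bits (typeAcc t fibre2.orbs) +
      bits fibre3.acc * bits (typeAcc t fibre3.orbs) := by
  rw [← ncard_base_typ (F := fibre0) (by simp [fibres]) ht,
    ← ncard_base_typ (F := fibre1) (by simp [fibres]) ht,
    ← ncard_base_typ (F := fibre2) (by simp [fibres]) ht,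
    ← ncard_base_typ (F := fibre3) (by simp [fibres]) ht]
  set A := fun F : FibreCert => {k | k < 2 ^ 24 ∧ F.acc.testBit (lo k) = true ∧ Typ t k} with hA
  have hfin : ∀ F, (A F).Finite := fun F => (Set.finite_Iio (2 ^ 24)).subset fun k hk => hk.1
  have hdis : ∀ F G : FibreCert, F.acc &&& G.acc = 0 → Disjoint (A F) (A G) := by
    intro F G h
    rw [Set.disjoint_left]
    rintro k ⟨-, h1, -⟩ ⟨-, h2, -⟩
    have := congrArg (fun n : ℕ => n.testBit (lo k)) h
    simp [Nat.testBit_and, h1, h2] at this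
  have he : typeSet t = A fibre0 ∪ A fibre1 ∪ A fibre2 ∪ A fibre3 := by
    ext k
    simp only [typeSet, hA, Set.mem_setOf_eq, Set.mem_union]
    constructor
    · rintro ⟨hk, hT⟩
      obtain ⟨F, hF, hFl⟩ := exists_fibre (lo_lt k)
      rcases fibres_cases hF with rfl | rfl | rfl | rfl
      exacts [Or.inl (Or.inl (Or.inl ⟨hk, hFl, hT⟩)), Or.inl (Or.inl (Or.inr ⟨hk, hFl, hT⟩)),
        Or.inl (Or.inr ⟨hk, hFl, hT⟩), Or.inr ⟨hk, hFl, hT⟩]
    · rintro (((h | h) | h) | h) <;> exact ⟨h.1, h.2.2⟩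
  obtain ⟨d01, d02, d03, d12, d13, d23⟩ := bases_disjoint
  rw [he, Set.ncard_union_eq ((((hdis _ _ d03).union_left (hdis _ _ d13))).union_left (hdis _ _ d23))
      (((hfin _).union (hfin _)).union (hfin _)) (hfin _),
    Set.ncard_union_eq ((hdis _ _ d02).union_left (hdis _ _ d12)) ((hfin _).union (hfin _)) (hfin _),
    Set.ncard_union_eq (hdis _ _ d01) (hfin _) (hfin _)]

theorem ncard_type1 : (typeSet 1).ncard = 98280 := by
  obtain ⟨a, b, c, d⟩ := base_bits
  obtain ⟨e, f, g, h⟩ := type1_bits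
  rw [ncard_typeSet (by norm_num), a, b, c, d, e, f, g, h]

theorem ncard_type2 : (typeSet 2).ncard = 8386560 := by
  obtain ⟨a, b, c, d⟩ := base_bits
  obtain ⟨e, f, g, h⟩ := type2_bits
  rw [ncard_typeSet (by norm_num), a, b, c, d, e, f, g, h]

theorem ncard_type3 : (typeSet 3).ncard = 8292375 := by
  obtain ⟨a, b, c, d⟩ := base_bits
  obtain ⟨e, f, g, h⟩ := type3_bits
  rw [ncard_typeSet (by norm_num), a, b, c, d, e, f, g, h]

end CfsgLib.Leech
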