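import Cfsg.Agent.Lib.Leech.Form

/-!
The stabilizer of the standard cross: normal 2-subgroups and sign changes.
-/

set_option autoImplicit false
set_option maxRecDepth 10000

namespace CfsgLib.Leech

open Cfsg CfsgLib.Golay
open scoped Pointwise

attribute [local irreducible] dL bL key keyL coord packB linL

/-- the standard vector of norm 64 -/
abbrev v8 : ↥leechLattice := eightL none

theorem mem_crossStab_iff_dbl {g : ↥Co0} : g ∈ crossStab ↔ IsDbl (g • v8 - v8) := by
  rw [mem_crossStab, isDbl_sub_iff, mainK_three none]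
  show act g (key ((v8 : ↥leechLattice) : GolayPt → ℤ)) = _ ↔ _
  rw [act_key]
  rfl

theorem bil_v8 (v : ↥leechLattice) : bil v v8 = ((v : GolayPt → ℤ) none : ZMod 2) := by
  rw [bil]
  show ((dotInt (v : GolayPt → ℤ) (eight none) / 8 : ℤ) : ZMod 2) = _
  rw [dotInt_eight, Int.mul_ediv_cancel_left _ (by norm_num : (8 : ℤ) ≠ 0)]

theorem mono_smul_eight {σ : Equiv.Perm GolayPt} {d : Finset GolayPt} (hσ : σ ∈ M24) (hd : d ∈ CS)
    (p q : GolayPt) : ((mono hσ hd • eightL p : ↥leechLattice) : GolayPt → ℤ) q ≠ 0 ↔ σ q = p := by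
  rw [mono, Iso.aut_smul]
  show monoFun σ d (eight p) q ≠ 0 ↔ _
  by_cases h : σ q = p <;> by_cases hq : q ∈ d <;> simp [monoFun, eight, h, hq]

theorem perm_unique {σ σ' : Equiv.Perm GolayPt} {d d' : Finset GolayPt} {hσ : σ ∈ M24}
    {hd : d ∈ CS} {hσ' : σ' ∈ M24} {hd' : d' ∈ CS} (h : mono hσ hd = mono hσ' hd') : σ = σ' :=
  (mono_inj h).1

theorem perm_mul {σ σ' τ : Equiv.Perm GolayPt} {d d' e : Finset GolayPt} {hσ : σ ∈ M24}
    {hd : d ∈ CS} {hσ' : σ' ∈ M24} {hd' : d' ∈ CS} {hτ : τ ∈ M24} {he : e ∈ CS}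
    (h : mono hσ hd * mono hσ' hd' = mono hτ he) : τ = σ' * σ := by
  refine Equiv.ext fun q => ?_
  rw [← mono_smul_eight hτ he ((σ' * σ) q) q, ← h, mul_smul, mono, Iso.aut_smul, mono,
    Iso.aut_smul]
  show monoFun σ d (monoFun σ' d' (eight ((σ' * σ) q))) q ≠ 0
  by_cases h1 : q ∈ d <;> by_cases h2 : σ q ∈ d' <;>
    simp [monoFun, eight, h1, h2, Equiv.Perm.mul_apply]

theorem mono_mul_perm {σ σ' : Equiv.Perm GolayPt} {d d' : Finset GolayPt} (hσ : σ ∈ M24)
    (hd : d ∈ CS) (hσ' : σ' ∈ M24) (hd' : d' ∈ CS) :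
    ∃ (e : Finset GolayPt) (he : e ∈ CS),
      mono hσ hd * mono hσ' hd' = mono (mul_mem hσ' hσ) he := by
  obtain ⟨τ, e, hτ, he, h⟩ := crossStab_eq_mono
    (mul_mem (mono_mem_crossStab hσ hd) (mono_mem_crossStab hσ' hd'))
  obtain rfl := perm_mul h
  exact ⟨e, he, h⟩

theorem one_eq_mono : (1 : ↥Co0) = mono (one_mem M24) empty_mem_CS :=
  aut_ext fun v => Subtype.ext (by
    rw [one_smul, mono, Iso.aut_smul]; funext i; simp [monoIso, monoFun])

theorem inv_mono_perm {σ : Equiv.Perm GolayPt} {d : Finset GolayPt} (hσ : σ ∈ M24) (hd : d ∈ CS) :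
    ∃ (e : Finset GolayPt) (he : e ∈ CS), (mono hσ hd)⁻¹ = mono (inv_mem hσ) he := by
  obtain ⟨τ, e, hτ, he, h⟩ := crossStab_eq_mono (inv_mem (mono_mem_crossStab hσ hd))
  have h' : mono hσ hd * mono hτ he = mono (one_mem M24) empty_mem_CS := by
    rw [← h, mul_inv_cancel, one_eq_mono]
  obtain rfl : τ = σ⁻¹ := eq_inv_of_mul_eq_one_left (perm_mul h').symm
  exact ⟨e, he, h⟩

/-- elements of a normal 2-subgroup of the cross stabilizer are sign changes -/
theorem sign_of_normal_two {N : Subgroup ↥Co0} (hN : IsPGroup 2 N) (hle : N ≤ crossStab)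
    (hnorm : ∀ g ∈ crossStab, ∀ n ∈ N, g * n * g⁻¹ ∈ N) {n : ↥Co0} (hn : n ∈ N) :
    ∃ (d : Finset GolayPt) (hd : d ∈ CS), n = mono (one_mem M24) hd := by
  let M : Subgroup ↥M24 :=
    { carrier := {σ | ∃ (d : Finset GolayPt) (hd : d ∈ CS), mono (σ := σ.1) σ.2 hd ∈ N}
      one_mem' := ⟨∅, empty_mem_CS, by
        show mono (one_mem M24) empty_mem_CS ∈ N
        rw [← one_eq_mono]; exact one_mem N⟩
      mul_mem' := fun {a b} ⟨d, hd, h⟩ ⟨d', hd', h'⟩ => by
        obtain ⟨e, he, h''⟩ := mono_mul_perm b.2 hd' a.2 hd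
        exact ⟨e, he, by have := mul_mem h' h; rwa [h''] at this⟩
      inv_mem' := fun {a} ⟨d, hd, h⟩ => by
        obtain ⟨e, he, h'⟩ := inv_mono_perm a.2 hd
        exact ⟨e, he, by have := inv_mem h; rwa [h'] at this⟩ }
  haveI : M.Normal := ⟨fun a ⟨d, hd, h⟩ t => by
    obtain ⟨e0, he0, h0⟩ := inv_mono_perm t.2 empty_mem_CS
    obtain ⟨e1, he1, h1⟩ := mono_mul_perm (inv_mem t.2) he0 a.2 hd
    obtain ⟨e2, he2, h2⟩ := mono_mul_perm (mul_mem a.2 (inv_mem t.2)) he1 t.2 empty_mem_CS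
    refine ⟨e2, he2, ?_⟩
    have hm := hnorm _ (inv_mem (mono_mem_crossStab t.2 empty_mem_CS)) _ h
    rw [inv_inv, h0, h1, h2] at hm
    convert hm using 2
    exact mul_assoc t.1 a.1 t.1⁻¹⟩
  have hM : IsPGroup 2 M := by
    rintro ⟨a, d, hd, h⟩
    obtain ⟨k, hk⟩ := hN ⟨_, h⟩
    refine ⟨k, Subtype.ext (Subtype.ext ?_)⟩
    have hk' : (mono a.2 hd) ^ 2 ^ k = (1 : ↥Co0) := congrArg Subtype.val hk
    have hp : ∀ n : ℕ, ∃ (e : Finset GolayPt) (he : e ∈ CS),
        (mono a.2 hd) ^ n = mono (pow_mem a.2 n) he := by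
      intro n
      induction n with
      | zero => exact ⟨∅, empty_mem_CS, by rw [pow_zero, one_eq_mono]; congr 1⟩
      | succ n ih =>
        obtain ⟨e, he, h1⟩ := ih
        obtain ⟨e', he', h2⟩ := mono_mul_perm a.2 hd (pow_mem a.2 n) he
        refine ⟨e', he', ?_⟩
        rw [pow_succ', h1, h2]
        congr 1
        exact (pow_succ _ _).symm
    obtain ⟨e, he, h1⟩ := hp (2 ^ k)
    rw [h1, one_eq_mono] at hk'
    show a.1 ^ 2 ^ k = 1
    exact perm_unique hk'
  haveI := isSimpleGroup_M24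
  have hMbot : M = ⊥ := by
    rcases (inferInstance : M.Normal).eq_bot_or_eq_top with h | h
    · exact h
    · exfalso
      obtain ⟨k, hk⟩ := IsPGroup.iff_card.1 hM
      rw [h, Subgroup.card_top, natCard_M24] at hk
      have h3 : (3 : ℕ) ∣ 2 ^ k := hk ▸ (by norm_num)
      exact absurd (Nat.Prime.dvd_of_dvd_pow Nat.prime_three h3) (by norm_num)
  obtain ⟨σ, d, hσ, hd, rfl⟩ := crossStab_eq_mono (hle hn)
  have : (⟨σ, hσ⟩ : ↥M24) ∈ M := ⟨d, hd, hn⟩
  rw [hMbot, Subgroup.mem_bot] at this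
  obtain rfl : σ = 1 := congrArg Subtype.val this
  exact ⟨d, hd, rfl⟩

theorem sign_diff {d : Finset GolayPt} (hd : d ∈ CS) {o : Finset GolayPt} (ho : o ∈ CS) :
    ((mono (one_mem M24) hd • (⟨_, indicator_mem ho⟩ : ↥leechLattice) - ⟨_, indicator_mem ho⟩ :
      ↥leechLattice) : GolayPt → ℤ) = fun i => -4 * ind (o ∩ d) i := by
  funext i
  rw [AddSubgroup.coe_sub, Pi.sub_apply, mono, Iso.aut_smul]
  by_cases h1 : i ∈ d <;> by_cases h2 : i ∈ o <;> simp [monoIso, monoFun, ind, h1, h2]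

/-- a sign change acting trivially on the orthogonal section of the cross vector is central -/
theorem sign_trivial {d : Finset GolayPt} (hd : d ∈ CS)
    (h : ∀ v, bil v v8 = 0 → IsDbl (mono (one_mem M24) hd • v - v) ∨
      IsDbl (mono (one_mem M24) hd • v - v - v8)) :
    mono (one_mem M24) hd ∈ Subgroup.center ↥Co0 := by
  have hoct : ∀ o ∈ CS, o.card = 8 → o ∩ d = ∅ ∨ o ⊆ d := by
    intro o ho hcard
    set S := o ∩ d with hS
    set k := S.card with hk
    have hkeven : k % 2 = 0 := card_inter_even ho hd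
    have hk8 : k ≤ 8 := hcard ▸ Finset.card_le_card Finset.inter_subset_left
    by_cases h0 : k = 0
    · exact Or.inl (Finset.card_eq_zero.1 h0)
    by_cases h8 : k = 8
    · refine Or.inr ?_
      have : S = o := Finset.eq_of_subset_of_card_le Finset.inter_subset_left (by omega)
      exact this ▸ Finset.inter_subset_right
    exfalso
    set vo : ↥leechLattice := ⟨_, indicator_mem ho⟩
    have hb : bil vo v8 = 0 := by
      rw [bil_v8]
      show ((2 * ind o none : ℤ) : ZMod 2) = 0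
      rw [Int.cast_mul]; rw [show ((2 : ℤ) : ZMod 2) = 0 from rfl, zero_mul]
    set T := if k ≤ 4 then S else o \ S with hT
    have hTc : T.card = if k ≤ 4 then k else 8 - k := by
      rw [hT]
      split
      · rfl
      · rw [Finset.card_sdiff_of_subset Finset.inter_subset_left, hcard]
    set w : GolayPt → ℤ := fun i => 4 * ind T i with hw
    have hdiff := sign_diff hd ho
    have hwm : w ∈ leechLattice ∧ ∃ z ∈ leechLattice,
        (fun i => -4 * ind S i) - w = 2 • z := by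
      have hzero : (fun i => -4 * ind S i) ∈ leechLattice := hdiff ▸ Subtype.prop _
      by_cases h4 : k ≤ 4
      · have e : w = -(fun i => -4 * ind S i) := by
          funext i; simp [hw, hT, h4]
        refine ⟨e ▸ neg_mem hzero, _, hzero, ?_⟩
        rw [e, sub_neg_eq_add, two_nsmul]
      · have e : w = (fun i => -4 * ind S i) + 2 • (fun i => 2 * ind o i) := by
          funext i
          have hsub : i ∈ S → i ∈ o := fun h => (Finset.mem_inter.1 h).1
          by_cases h1 : i ∈ S <;> by_cases h2 : i ∈ o <;>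
            simp [hw, hT, h4, ind, h1, h2] <;> first | rfl | exact absurd (hsub h1) h2
        refine ⟨e ▸ add_mem hzero (nsmul_mem (indicator_mem ho) 2), _, neg_mem (indicator_mem ho), ?_⟩
        rw [e, sub_add_cancel_left, smul_neg]
    obtain ⟨hwL, hwz⟩ := hwm
    have hwk : key (fun i => -4 * ind S i) = key w :=
      (key_eq_iff (hdiff ▸ Subtype.prop _) hwL).2 hwz
    have hn : sqNorm w = 16 * T.card := by
      have e : ∀ i, w i ^ 2 = 16 * ind T i := by intro i; simp only [hw, ind]; split <;> norm_num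
      simp only [sqNorm, e, ← Finset.mul_sum, sum_ind]
    have hn32 : sqNorm w = 32 ∨ sqNorm w = 64 := by
      rw [hn, hTc]; split <;> omega
    rcases h vo hb with e | e
    · rw [isDbl_iff_key, hdiff, hwk, ← key_zero] at e
      have := sqNorm_eq_of_key hwL (zero_mem _) (by omega) (by rw [sqNorm_zero]; norm_num) e
      rw [sqNorm_zero] at this
      omega
    · rw [isDbl_sub_iff, hdiff, hwk] at e
      have hv8 : sqNorm ((v8 : ↥leechLattice) : GolayPt → ℤ) = 64 := sqNorm_eight none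
      have h64 := sqNorm_eq_of_key hwL v8.2 (by omega) hv8.le e
      rw [hv8] at h64
      obtain ⟨p, hp⟩ := cross_class hwL h64 (by rw [e, mainK_three none]; rfl)
      rcases hp with hp | hp <;> have hp' := congrFun hp p <;>
        simp only [hw, eight, Pi.neg_apply, Pi.single_eq_same, ind] at hp' <;> split at hp' <;> omega
  rw [← SetLike.mem_coe, center_eq]
  rcases d.eq_empty_or_nonempty with hd0 | ⟨p, hp⟩
  · subst hd0
    exact Or.inl one_eq_mono.symm
  · obtain rfl : d = Finset.univ := Finset.eq_univ_of_forall fun q => by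
      by_cases hpq : p = q
      · exact hpq ▸ hp
      obtain ⟨o, ho, hcard, hpo, hqo⟩ := exists_octad_of_ne hpq
      rcases hoct o ho hcard with e | e
      · exact absurd (Finset.mem_inter.2 ⟨hpo, hp⟩) (by rw [e]; simp)
      · exact e hqo
    exact Or.inr rfl

/-- the group of sign changes -/
def signGroup : Subgroup ↥Co0 where
  carrier := {g | ∃ (d : Finset GolayPt) (hd : d ∈ CS), g = mono (one_mem M24) hd}
  one_mem' := ⟨∅, empty_mem_CS, one_eq_mono⟩
  mul_mem' := fun {a b} ⟨d, hd, ha⟩ ⟨d', hd', hb⟩ => by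
    obtain ⟨e, he, h⟩ := mono_mul_perm (one_mem M24) hd (one_mem M24) hd'
    refine ⟨e, he, ?_⟩
    rw [ha, hb, h]
    congr 1
  inv_mem' := fun {a} ⟨d, hd, ha⟩ => by
    obtain ⟨e, he, h⟩ := inv_mono_perm (one_mem M24) hd
    refine ⟨e, he, ?_⟩
    rw [ha, h]
    congr 1

theorem natCard_signGroup : Nat.card signGroup = 4096 := by
  let f : ↥CS → ↥signGroup := fun x => ⟨mono (one_mem M24) x.2, x.1, x.2, rfl⟩
  have hf : Function.Bijective f := by
    refine ⟨fun x y h => Subtype.ext (mono_inj (congrArg Subtype.val h)).2, fun g => ?_⟩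
    obtain ⟨d, hd, he⟩ := g.2
    exact ⟨⟨d, hd⟩, Subtype.ext he.symm⟩
  rw [← Nat.card_eq_of_bijective f hf, Nat.card_coe_set_eq]
  show (support₂ '' (golayCode : Set (GolayPt → ZMod 2))).ncard = 4096
  rw [Set.InjOn.ncard_image support₂_injective.injOn, ← natCard_golayCode]
  exact (Nat.card_coe_set_eq _).symm

theorem center_le_signGroup : Subgroup.center ↥Co0 ≤ signGroup := by
  intro g hg
  rw [← SetLike.mem_coe, center_eq] at hg
  rcases hg with rfl | hg
  · exact one_mem _
  · exact ⟨Finset.univ, univ_mem_CS, hg⟩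

/-- a sign change carrying an octad vector to its sum with the standard short vector, modulo two -/
theorem exists_sign_uV : ∃ (d : Finset GolayPt) (hd : d ∈ CS) (v : ↥leechLattice),
    bil v v8 = 0 ∧ IsDbl (mono (one_mem M24) hd • v - v - uV) := by
  have h1 : inC 9347075 = true := by decide +kernel
  have h2 : inC 12599513 = true := by decide +kernel
  have hd : dec 9347075 ∈ CS := ⟨wd _, wd_mem_of_inC h1, support_wd _⟩
  have ho : dec 12599513 ∈ CS := ⟨wd _, wd_mem_of_inC h2, support_wd _⟩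
  refine ⟨_, hd, ⟨_, indicator_mem ho⟩, ?_, ?_⟩
  · rw [bil_v8]
    show ((2 * ind (dec 12599513) none : ℤ) : ZMod 2) = 0
    rw [Int.cast_mul]; rw [show ((2 : ℤ) : ZMod 2) = 0 from rfl, zero_mul]
  · refine ⟨-uV, Subtype.ext ?_⟩
    rw [AddSubgroup.coe_sub, sign_diff hd ho, AddSubgroup.coe_add, AddSubgroup.coe_neg]
    show (fun i => -4 * ind (dec 12599513 ∩ dec 9347075) i) - Spor.vecU = -Spor.vecU + -Spor.vecU
    funext i
    revert i
    decide +kernel

end CfsgLib.Leech
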