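import Cfsg.Agent.Lib.Leech.PerpIrred

/-!
The bilinear form on the lattice modulo two: nondegeneracy and isotropic subspaces.
-/

set_option autoImplicit false
set_option maxRecDepth 10000

namespace CfsgLib.Leech

open Cfsg CfsgLib.Golay

attribute [local irreducible] dL bL key keyL coord packB linL

theorem bil_oddV_uV : bil oddV uV = 1 := by rw [bil, dotInt_oddV]; decide

theorem isDbl_of_bil_zero {x : ↥leechLattice} (h : ∀ w, bil x w = 0) : IsDbl x := by
  rcases ud_of_orth (fun w _ => h w) with e | e
  · exact e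
  · exfalso
    have := bil_congr e oddV
    rw [h oddV, bil_comm, bil_oddV_uV] at this
    exact absurd this (by decide)

theorem exists_bil_one {x : ↥leechLattice} (h : ¬IsDbl x) : ∃ w, bil x w = 1 := by
  by_contra hc
  push Not at hc
  exact h (isDbl_of_bil_zero fun w => by
    have := hc w
    revert this
    generalize bil x w = a
    revert a
    decide)

/-- a lattice element from coordinates modulo two -/
def liftV (x : Fin 24 → ZMod 2) : ↥leechLattice :=
  ∑ j, ((x j).val : ℤ) • (⟨bV j, bV_mem j⟩ : ↥leechLattice)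

/-- coordinates modulo two -/
def kap (v : ↥leechLattice) (j : Fin 24) : ZMod 2 := (coord (v : GolayPt → ℤ) j : ZMod 2)

theorem key_eq_iff_kap (v w : ↥leechLattice) :
    key (v : GolayPt → ℤ) = key (w : GolayPt → ℤ) ↔ kap v = kap w := by
  constructor
  · intro h
    funext j
    have h1 := testBit_key (v : GolayPt → ℤ) j
    rw [h, testBit_key, decide_eq_decide] at h1
    rw [kap, kap, ← ZMod.intCast_mod _ 2, ← ZMod.intCast_mod (coord (w : GolayPt → ℤ) j) 2]
    congr 1
    have : ((2 : ℕ) : ℤ) = 2 := rfl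
    omega
  · intro h
    refine Nat.eq_of_testBit_eq fun i => ?_
    by_cases hi : i < 24
    · have h1 := testBit_key (v : GolayPt → ℤ) ⟨i, hi⟩
      have h2 := testBit_key (w : GolayPt → ℤ) ⟨i, hi⟩
      simp only at h1 h2
      rw [h1, h2, decide_eq_decide]
      have := congrFun h ⟨i, hi⟩
      rw [kap, kap, ZMod.intCast_eq_intCast_iff_dvd_sub] at this
      have : ((2 : ℕ) : ℤ) = 2 := rfl
      omega
    · have h2 : 2 ^ 24 ≤ 2 ^ i := Nat.pow_le_pow_right (by norm_num) (by omega)
      rw [Nat.testBit_lt_two_pow (lt_of_lt_of_le (key_lt _) h2),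
        Nat.testBit_lt_two_pow (lt_of_lt_of_le (key_lt _) h2)]

theorem kap_add (v w : ↥leechLattice) : kap (v + w) = kap v + kap w := by
  funext j
  simp only [kap, Pi.add_apply, AddSubgroup.coe_add, coord_add v.2 w.2, Int.cast_add]

theorem kap_liftV (x : Fin 24 → ZMod 2) : kap (liftV x) = x := by
  funext j
  have e : ((liftV x : ↥leechLattice) : GolayPt → ℤ) = ∑ k, ((x k).val : ℤ) • bV k := by
    rw [liftV, AddSubgroup.val_finsetSum]
    rfl
  rw [kap, e]
  have h : coord (∑ k, ((x k).val : ℤ) • bV k) j = ((x j).val : ℤ) := coord_bV_sum _ j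
  rw [h, Int.cast_natCast, ZMod.natCast_val, ZMod.cast_id]
where
  coord_bV_sum (a : Fin 24 → ℤ) (j : Fin 24) : coord (∑ k, a k • bV k) j = a j := by
    have hm : ∑ k, a k • bV k ∈ leechLattice := sum_mem fun k _ => zsmul_mem (bV_mem k) _
    have hd : ∀ i j : Fin 24,
        dotL (bL.getD i.val []) (dL.getD j.val []) = if i = j then 8 else 0 := by decide +kernel
    have hl : (∀ i : Fin 24, (bL.getD i.val []).length = 24) ∧
        ∀ i : Fin 24, (dL.getD i.val []).length = 24 := by decide +kernel
    have h : dotInt (∑ k, a k • bV k) (dV j) = ∑ k, a k * dotInt (bV k) (dV j) := by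
      simp only [dotInt, Finset.sum_apply, Pi.smul_apply, smul_eq_mul, Finset.sum_mul,
        Finset.mul_sum, mul_assoc]
      exact Finset.sum_comm
    have e : ∀ k, dotInt (bV k) (dV j) = if k = j then 8 else 0 := fun k => by
      rw [bV, dV, dotInt_vec (hl.1 k) (hl.2 j)]
      exact hd k j
    simp only [e, mul_ite, mul_zero, Finset.sum_ite_eq', Finset.mem_univ, if_true] at h
    have h8 := eight_coord hm j
    omega

theorem isDbl_sub_iff_kap (v w : ↥leechLattice) : IsDbl (v - w) ↔ kap v = kap w :=
  (isDbl_sub_iff v w).trans (key_eq_iff_kap v w)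

/-- the form on coordinates modulo two -/
noncomputable def bilF : LinearMap.BilinForm (ZMod 2) (Fin 24 → ZMod 2) :=
  LinearMap.mk₂ (ZMod 2) (fun x y => bil (liftV x) (liftV y))
    (fun a b y => by
      rw [bil_congr ((isDbl_sub_iff_kap _ (liftV a + liftV b)).2
        (by rw [kap_liftV, kap_add, kap_liftV, kap_liftV])), bil_add_left])
    (fun c a y => by
      rcases (by revert c; decide : c = 0 ∨ c = 1) with rfl | rfl
      · rw [zero_smul, zero_smul, bil_congr ((isDbl_sub_iff_kap _ 0).2 (by
          rw [kap_liftV]; funext j; simp [kap, coord_zero]) : IsDbl (liftV 0 - 0)), bil_zero_left]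
      · rw [one_smul, one_smul])
    (fun x a b => by
      rw [bil_comm, bil_congr ((isDbl_sub_iff_kap _ (liftV a + liftV b)).2
        (by rw [kap_liftV, kap_add, kap_liftV, kap_liftV])), bil_add_left, bil_comm, bil_comm (liftV b)])
    (fun c x a => by
      rcases (by revert c; decide : c = 0 ∨ c = 1) with rfl | rfl
      · rw [zero_smul, zero_smul, bil_comm, bil_congr ((isDbl_sub_iff_kap _ 0).2 (by
          rw [kap_liftV]; funext j; simp [kap, coord_zero]) : IsDbl (liftV 0 - 0)), bil_zero_left]
      · rw [one_smul, one_smul])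

theorem bilF_kap (v w : ↥leechLattice) : bilF (kap v) (kap w) = bil v w := by
  show bil (liftV (kap v)) (liftV (kap w)) = bil v w
  rw [bil_congr ((isDbl_sub_iff_kap _ v).2 (kap_liftV _)), bil_comm,
    bil_congr ((isDbl_sub_iff_kap _ w).2 (kap_liftV _)), bil_comm]

theorem bilF_nondegenerate : bilF.Nondegenerate := by
  have h : ∀ x, (∀ y, bilF x y = 0) → x = 0 := by
    intro x hx
    have hd : IsDbl (liftV x) := isDbl_of_bil_zero fun w => by
      have := hx (kap w)
      rwa [← kap_liftV x, bilF_kap] at this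
    have := (isDbl_sub_iff_kap (liftV x) 0).1 (by rwa [sub_zero])
    rw [kap_liftV] at this
    rw [this]
    funext j
    simp [kap, coord_zero]
  exact ⟨h, fun y hy => h y fun x => by
    have := hy x
    rw [← kap_liftV x, ← kap_liftV y, bilF_kap] at this ⊢
    rwa [bil_comm]⟩

/-- an isotropic subgroup has at most `2 ^ 12` classes -/
theorem isotropic_bound {M : AddSubgroup ↥leechLattice}
    (h : ∀ v ∈ M, ∀ w ∈ M, bil v w = 0) :
    (kap '' (M : Set ↥leechLattice)).ncard ≤ 2 ^ 12 := by
  let κ : ↥leechLattice →+ (Fin 24 → ZMod 2) := AddMonoidHom.mk' kap kap_add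
  let W : Submodule (ZMod 2) (Fin 24 → ZMod 2) := AddSubgroup.toZModSubmodule 2 (M.map κ)
  have hW : W ≤ bilF.orthogonal W := by
    rintro _ ⟨w, hw, rfl⟩
    rw [LinearMap.BilinForm.mem_orthogonal_iff]
    rintro _ ⟨v, hv, rfl⟩
    exact (bilF_kap v w).trans (h v hv w hw)
  have h1 := Submodule.finrank_mono hW
  rw [LinearMap.BilinForm.finrank_orthogonal bilF_nondegenerate,
    Module.finrank_fin_fun] at h1
  have hc : (kap '' (M : Set ↥leechLattice)).ncard = Nat.card W :=
    (Nat.card_coe_set_eq _).symm
  rw [hc, Module.natCard_eq_pow_finrank (K := ZMod 2), Nat.card_zmod]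
  exact Nat.pow_le_pow_right (by norm_num) (by omega)

theorem exists_perp_nonisotropic : ∃ v w : ↥leechLattice, IsPerp v ∧ IsPerp w ∧ bil v w = 1 := by
  by_contra hc
  push Not at hc
  let v : ↥leechLattice := ⟨vecOf Perp.fixK, vecOf_mem _⟩
  obtain ⟨-, -, -, hfb, hf0, hflt, -⟩ := red1_facts
  have hk : key (v : GolayPt → ℤ) = Perp.fixK := key_vecOf hflt
  have hv : IsPerp v := by
    have := comb_buL v
    rw [hk, hfb] at this
    exact (ZMod.val_eq_zero _).1 this.symm
  rcases ud_iff_key.1 (ud_of_orth fun w hw => by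
    have := hc v w hv hw
    revert this
    generalize bil v w = a
    revert a
    decide) with h | h <;> rw [hk] at h
  · exact hf0 h
  · exact absurd h (by decide +kernel)

end CfsgLib.Leech
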