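import Cfsg.Agent.Lib.Leech.Index

/-!
A subgroup between the lattice and twice the lattice on which the quadratic form vanishes modulo 2.
-/

set_option autoImplicit false
set_option maxRecDepth 10000

namespace CfsgLib.Leech

open Cfsg CfsgLib.Golay

attribute [local irreducible] coord

/-- the lattice vectors whose first twelve coordinates in the basis are even -/
def halfSub : AddSubgroup (GolayPt → ℤ) where
  carrier := {x | x ∈ leechLattice ∧ ∀ j : Fin 24, j.val < 12 → coord x j % 2 = 0}
  zero_mem' := ⟨zero_mem _, fun j _ => by rw [coord_zero]; rfl⟩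
  add_mem' := fun {x y} hx hy => ⟨add_mem hx.1 hy.1, fun j hj => by
    have h1 := hx.2 j hj; have h2 := hy.2 j hj
    rw [coord_add hx.1 hy.1]; omega⟩
  neg_mem' := fun {x} hx => ⟨neg_mem hx.1, fun j hj => by
    have h1 := hx.2 j hj
    rw [show -x = (-1 : ℤ) • x by simp, coord_zsmul hx.1]; omega⟩

theorem top_half_data : ∀ j : Fin 24, 12 ≤ j.val →
    (dotL (bL.getD j.val []) (bL.getD j.val []) % 32 = 0 ∧
      ∀ i : Fin 24, (bL.getD j.val []).getD i.val 0 % 4 = 0) := by decide +kernel

/-- coordinates divisible by four and norm divisible by 32 -/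
def QuadZero (y : GolayPt → ℤ) : Prop := (∀ p, y p % 4 = 0) ∧ sqNorm y % 32 = 0

theorem QuadZero.add {u v : GolayPt → ℤ} (hu : QuadZero u) (hv : QuadZero v) :
    QuadZero (u + v) := by
  refine ⟨fun p => by have := hu.1 p; have := hv.1 p; rw [Pi.add_apply]; omega, ?_⟩
  have hd : (16 : ℤ) ∣ dotInt u v := Finset.dvd_sum fun p _ => by
    obtain ⟨a, ha⟩ := Int.dvd_of_emod_eq_zero (hu.1 p)
    obtain ⟨b, hb⟩ := Int.dvd_of_emod_eq_zero (hv.1 p)
    exact ⟨a * b, by rw [ha, hb]; ring⟩
  have := hu.2; have := hv.2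
  rw [sqNorm_add]
  omega

theorem QuadZero.zsmul {u : GolayPt → ℤ} (hu : QuadZero u) (z : ℤ) : QuadZero (z • u) := by
  refine ⟨fun p => ?_, ?_⟩
  · obtain ⟨a, ha⟩ := Int.dvd_of_emod_eq_zero (hu.1 p)
    rw [Pi.smul_apply, smul_eq_mul, ha]
    exact Int.emod_eq_zero_of_dvd ⟨z * a, by ring⟩
  · obtain ⟨a, ha⟩ := Int.dvd_of_emod_eq_zero hu.2
    have e : sqNorm (z • u) = z * z * sqNorm u := by
      simp only [sqNorm, Pi.smul_apply, smul_eq_mul, Finset.mul_sum]
      exact Finset.sum_congr rfl fun p _ => by ring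
    rw [e, ha]
    exact Int.emod_eq_zero_of_dvd ⟨z * z * a, by ring⟩

theorem quadZero_bV {j : Fin 24} (hj : 12 ≤ j.val) : QuadZero (bV j) := by
  obtain ⟨h1, h2⟩ := top_half_data j hj
  refine ⟨fun p => h2 (idxEquiv p), ?_⟩
  rw [bV, sqNorm_vec (data_len.1 j)]
  exact h1

theorem half_norm {x : GolayPt → ℤ} (hx : x ∈ halfSub) : (32 : ℤ) ∣ sqNorm x := by
  classical
  obtain ⟨hxL, hev⟩ := hx
  have hrec : ∑ j, coord x j • bV j = x := by
    have := recon hxL; rwa [bList_eq, linL_ofFn] at this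
  set y : GolayPt → ℤ := ∑ j : Fin 24, if j.val < 12 then 0 else coord x j • bV j with hy
  set z : GolayPt → ℤ := ∑ j : Fin 24, if j.val < 12 then (coord x j / 2) • bV j else 0 with hz
  have hzL : z ∈ leechLattice := sum_mem fun j _ => by
    split
    · exact zsmul_mem (bV_mem j) _
    · exact zero_mem _
  have hxy : x = y + 2 • z := by
    rw [← hrec, hy, hz, Finset.smul_sum, ← Finset.sum_add_distrib]
    refine Finset.sum_congr rfl fun j _ => ?_
    by_cases hj : j.val < 12
    · have := hev j hj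
      rw [if_pos hj, if_pos hj, zero_add, ← natCast_zsmul, smul_smul]
      congr 1
      omega
    · rw [if_neg hj, if_neg hj, smul_zero, add_zero]
  have hq : QuadZero y := by
    refine Finset.sum_induction _ QuadZero (fun a b => QuadZero.add) ⟨fun p => rfl, ?_⟩ fun j _ => ?_
    · rw [sqNorm_zero]; rfl
    · split
      · exact ⟨fun p => rfl, by rw [sqNorm_zero]; rfl⟩
      · exact (quadZero_bV (by omega)).zsmul _
  have hyL : y ∈ leechLattice := sum_mem fun j _ => by
    split
    · exact zero_mem _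
    · exact zsmul_mem (bV_mem j) _
  have hd : dotInt y (2 • z) = 2 * dotInt y z := by
    simp only [dotInt, Pi.smul_apply, nsmul_eq_mul, Finset.mul_sum]
    exact Finset.sum_congr rfl fun p _ => by push_cast; ring
  have h8 := dotInt_dvd hyL hzL
  have h16 := sqNorm_even hzL
  have := hq.2
  rw [hxy, sqNorm_add, hd, sqNorm_two_smul]
  omega

theorem two_smul_mem_half {v : GolayPt → ℤ} (hv : v ∈ leechLattice) : (2 : ℤ) • v ∈ halfSub :=
  ⟨zsmul_mem hv _, fun j _ => by rw [coord_zsmul hv]; omega⟩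

theorem index_half : (halfSub.addSubgroupOf leechLattice).index = 2 ^ 12 := by
  classical
  let ψ : ↥leechLattice →+ (Fin 12 → ZMod 2) :=
    AddMonoidHom.mk' (fun x i => ((coord (x : GolayPt → ℤ) (Fin.castLE (by norm_num) i) : ℤ) : ZMod 2))
      fun x y => funext fun i => by
        simp only [AddSubgroup.coe_add, coord_add x.2 y.2, Pi.add_apply, Int.cast_add]
  have hsurj : Function.Surjective ψ := by
    intro b
    let a : Fin 24 → ℤ := fun j => if h : j.val < 12 then (b ⟨j.val, h⟩).val else 0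
    refine ⟨⟨∑ k, a k • bV k, sum_mem fun k _ => zsmul_mem (bV_mem k) _⟩, funext fun i => ?_⟩
    show ((coord (∑ k, a k • bV k) (Fin.castLE (by norm_num) i) : ℤ) : ZMod 2) = b i
    rw [coord_sum]
    simp [a]
  have hker : halfSub.addSubgroupOf leechLattice = ψ.ker := by
    ext x
    rw [AddSubgroup.mem_addSubgroupOf, AddMonoidHom.mem_ker]
    constructor
    · intro h
      funext i
      exact (ZMod.intCast_zmod_eq_zero_iff_dvd _ 2).2
        (Int.dvd_of_emod_eq_zero (h.2 _ i.isLt))
    · intro h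
      refine ⟨x.2, fun j hj => ?_⟩
      have := congrFun h ⟨j.val, hj⟩
      exact Int.emod_eq_zero_of_dvd ((ZMod.intCast_zmod_eq_zero_iff_dvd _ 2).1 this)
  rw [hker, AddSubgroup.index_ker, AddMonoidHom.range_eq_top.2 hsurj, AddSubgroup.card_top,
    Nat.card_eq_fintype_card, Fintype.card_fun, ZMod.card, Fintype.card_fin]

end CfsgLib.Leech
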