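import Mathlib

/-!
A triangular form of the basis of the rank-24 lattice, with the change of basis and its inverse.
-/

set_option autoImplicit false
set_option maxRecDepth 10000

namespace CfsgLib.Leech

/-- triangular basis -/
def triL : List (List ℤ) :=
  [
   [1, 1, 1, 1, 1, 1, 1, 1, 1, 1, 1, 1, 1, 1, 1, 1, 1, 1, 1, 1, 1, 1, 1, 5],
   [0, 2, 0, 0, 0, 0, 0, 0, 0, 0, 0, 0, 2, 2, 2, 2, 2, 0, 0, 2, 0, 0, 2, 0],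
   [0, 0, 2, 0, 0, 0, 0, 0, 0, 0, 0, 0, 2, 2, 0, 2, 0, 0, 2, 0, 2, 0, 2, 2],
   [0, 0, 0, 2, 0, 0, 0, 0, 0, 0, 0, 0, 2, 2, 0, 0, 0, 2, 2, 2, 0, 2, 2, 0],
   [0, 0, 0, 0, 2, 0, 0, 0, 0, 0, 0, 0, 2, 2, 0, 0, 2, 2, 0, 2, 2, 0, 0, 2],
   [0, 0, 0, 0, 0, 2, 0, 0, 0, 0, 0, 0, 0, 2, 2, 0, 0, 2, 2, 0, 2, 2, 0, 2],
   [0, 0, 0, 0, 0, 0, 2, 0, 0, 0, 0, 0, 0, 0, 2, 2, 0, 0, 2, 2, 0, 2, 2, 2],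
   [0, 0, 0, 0, 0, 0, 0, 2, 0, 0, 0, 0, 2, 0, 2, 2, 0, 2, 2, 2, 2, 0, 0, 0],
   [0, 0, 0, 0, 0, 0, 0, 0, 2, 0, 0, 0, 0, 2, 0, 2, 2, 0, 2, 2, 2, 2, 0, 0],
   [0, 0, 0, 0, 0, 0, 0, 0, 0, 2, 0, 0, 0, 0, 2, 0, 2, 2, 0, 2, 2, 2, 2, 0],
   [0, 0, 0, 0, 0, 0, 0, 0, 0, 0, 2, 0, 2, 0, 2, 2, 2, 0, 0, 0, 2, 2, 0, 2],
   [0, 0, 0, 0, 0, 0, 0, 0, 0, 0, 0, 2, 0, 2, 0, 2, 2, 2, 0, 0, 0, 2, 2, 2],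
   [0, 0, 0, 0, 0, 0, 0, 0, 0, 0, 0, 0, 4, 0, 0, 0, 0, 0, 0, 0, 0, 0, 0, 4],
   [0, 0, 0, 0, 0, 0, 0, 0, 0, 0, 0, 0, 0, 4, 0, 0, 0, 0, 0, 0, 0, 0, 0, 4],
   [0, 0, 0, 0, 0, 0, 0, 0, 0, 0, 0, 0, 0, 0, 4, 0, 0, 0, 0, 0, 0, 0, 0, 4],
   [0, 0, 0, 0, 0, 0, 0, 0, 0, 0, 0, 0, 0, 0, 0, 4, 0, 0, 0, 0, 0, 0, 0, 4],
   [0, 0, 0, 0, 0, 0, 0, 0, 0, 0, 0, 0, 0, 0, 0, 0, 4, 0, 0, 0, 0, 0, 0, 4],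
   [0, 0, 0, 0, 0, 0, 0, 0, 0, 0, 0, 0, 0, 0, 0, 0, 0, 4, 0, 0, 0, 0, 0, 4],
   [0, 0, 0, 0, 0, 0, 0, 0, 0, 0, 0, 0, 0, 0, 0, 0, 0, 0, 4, 0, 0, 0, 0, 4],
   [0, 0, 0, 0, 0, 0, 0, 0, 0, 0, 0, 0, 0, 0, 0, 0, 0, 0, 0, 4, 0, 0, 0, 4],
   [0, 0, 0, 0, 0, 0, 0, 0, 0, 0, 0, 0, 0, 0, 0, 0, 0, 0, 0, 0, 4, 0, 0, 4],
   [0, 0, 0, 0, 0, 0, 0, 0, 0, 0, 0, 0, 0, 0, 0, 0, 0, 0, 0, 0, 0, 4, 0, 4],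
   [0, 0, 0, 0, 0, 0, 0, 0, 0, 0, 0, 0, 0, 0, 0, 0, 0, 0, 0, 0, 0, 0, 4, 4],
   [0, 0, 0, 0, 0, 0, 0, 0, 0, 0, 0, 0, 0, 0, 0, 0, 0, 0, 0, 0, 0, 0, 0, 8]]

/-- change of basis -/
def chgL : List (List ℤ) :=
  [
   [-1, -2, 0, 0, 0, 0, 0, 0, 0, 0, 0, 0, -483, 252, -805, -908, -2, 536, 4, 411, 771, 111, 5, -691],
   [0, -1, 1, 0, 0, 0, 0, 0, 0, 0, 0, 0, 0, 0, 0, 0, 0, 0, 0, 0, 0, 0, 0, 0],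
   [0, 0, 0, 1, 0, 0, 0, 0, 0, 0, 0, 0, 0, 0, 0, 0, 0, 0, 0, 0, 0, 0, 0, 0],
   [-1, 0, 0, 0, 1, 0, 0, 0, 0, 0, 0, 0, 0, 0, 0, 0, 0, 0, 0, 0, 0, 0, 0, 0],
   [0, -1, 0, 0, 0, 1, 0, 0, 0, 0, 0, 0, 0, 0, 0, 0, 0, 0, 0, 0, 0, 0, 0, 0],
   [-1, 0, 0, 0, 0, 0, 1, 0, 0, 0, 0, 0, 0, 0, 0, 0, 0, 0, 0, 0, 0, 0, 0, 0],
   [0, -1, 0, 0, 0, 0, 0, 1, 0, 0, 0, 0, 0, 0, 0, 0, 0, 0, 0, 0, 0, 0, 0, 0],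
   [0, 0, 0, 1, 0, 0, 0, 0, 1, 0, 0, 0, 0, 0, 0, 0, 0, 0, 0, 0, 0, 0, 0, 0],
   [-1, 0, 0, 0, 1, 0, 0, 0, 0, 1, 0, 0, 0, 0, 0, 0, 0, 0, 0, 0, 0, 0, 0, 0],
   [0, -1, 1, 0, 0, 0, 0, 0, 0, 0, 1, 0, 0, 0, 0, 0, 0, 0, 0, 0, 0, 0, 0, 0],
   [0, 0, 0, 1, -1, 0, 1, 0, 0, 0, 0, 1, 0, 0, 0, 0, 0, 0, 0, 0, 0, 0, 0, 0],
   [1, 1, -2, -3, -1, -1, -2, -1, -1, -1, -1, -1, 0, 0, 0, -2, -1, 1, -1, 0, 1, 0, 1, 0],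
   [0, 0, 0, 0, 0, 0, 0, 0, 0, 0, 0, 0, 361, -188, 603, 682, 2, -401, -3, -308, -578, -82, -4, 519],
   [0, 0, 0, 0, 0, 0, 0, 0, 0, 0, 0, 0, -252, 131, -420, -476, -1, 280, 2, 215, 403, 57, 3, -362],
   [0, 0, 0, 0, 0, 0, 0, 0, 0, 0, 0, 0, 8, -4, 14, 17, 0, -9, 0, -7, -14, -1, 0, 13],
   [0, 0, 0, 0, 0, 0, 0, 0, 0, 0, 0, 0, 85, -44, 141, 158, 0, -94, -1, -72, -135, -21, -1, 120],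
   [0, 0, 0, 0, 0, 0, 0, 0, 0, 0, 0, 0, 12, -6, 20, 22, 0, -13, 0, -10, -19, -3, 0, 17],
   [0, 0, 0, 0, 0, 0, 0, 0, 0, 0, 0, 0, 88, -46, 146, 162, 0, -97, -1, -74, -139, -22, -1, 123],
   [0, 0, 0, 0, 0, 0, 0, 0, 0, 0, 0, 0, 15, -8, 26, 30, 0, -17, 0, -13, -25, -3, 0, 23],
   [0, 0, 0, 0, 0, 0, 0, 0, 0, 0, 0, 0, 0, 0, 1, 2, 0, 0, 0, 0, -1, 1, 0, 2],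
   [0, 0, 0, 0, 0, 0, 0, 0, 0, 0, 0, 0, 4, -2, 8, 10, 0, -5, 0, -4, -8, 0, 0, 8],
   [0, 0, 0, 0, 0, 0, 0, 0, 0, 0, 0, 0, 2, -1, 4, 5, 0, -2, 0, -2, -4, 0, 0, 4],
   [0, 0, 0, 0, 0, 0, 0, 0, 0, 0, 0, 0, -1, 0, -1, -2, 0, 1, 0, 1, 1, 0, 0, -1],
   [0, 0, 0, 0, 0, 0, 0, 0, 0, 0, 0, 0, 0, 0, 1, 1, 0, 0, 0, 0, -1, 0, 0, 1]]

/-- inverse change of basis -/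
def chgInvL : List (List ℤ) :=
  [
   [3, -2, -2, -2, -2, -2, -2, -2, -2, -2, -2, -2, 5, 6, 5, 6, 5, 5, 5, 6, 6, 6, 5, -29],
   [-2, 1, 1, 1, 1, 1, 1, 1, 1, 1, 1, 1, -3, -3, -3, -3, -3, -3, -3, -3, -3, -3, -3, 16],
   [-2, 2, 1, 1, 1, 1, 1, 1, 1, 1, 1, 1, -3, -3, -3, -3, -3, -3, -3, -3, -3, -3, -3, 16],
   [0, 0, 1, 0, 0, 0, 0, 0, 0, 0, 0, 0, 0, 0, 0, 0, 0, 0, 0, 0, 0, 0, 0, 0],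
   [3, -2, -2, -1, -2, -2, -2, -2, -2, -2, -2, -2, 5, 6, 5, 6, 5, 5, 5, 6, 6, 6, 5, -29],
   [-2, 1, 1, 1, 2, 1, 1, 1, 1, 1, 1, 1, -3, -3, -3, -3, -3, -3, -3, -3, -3, -3, -3, 16],
   [3, -2, -2, -2, -2, -1, -2, -2, -2, -2, -2, -2, 5, 6, 5, 6, 5, 5, 5, 6, 6, 6, 5, -29],
   [-2, 1, 1, 1, 1, 1, 2, 1, 1, 1, 1, 1, -3, -3, -3, -3, -3, -3, -3, -3, -3, -3, -3, 16],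
   [0, 0, -1, 0, 0, 0, 0, 1, 0, 0, 0, 0, 0, 0, 0, 0, 0, 0, 0, 0, 0, 0, 0, 0],
   [0, 0, 0, -1, 0, 0, 0, 0, 1, 0, 0, 0, 0, 0, 0, 0, 0, 0, 0, 0, 0, 0, 0, 0],
   [0, -1, 0, 0, 0, 0, 0, 0, 0, 1, 0, 0, 0, 0, 0, 0, 0, 0, 0, 0, 0, 0, 0, 0],
   [0, 0, -1, 1, 0, -1, 0, 0, 0, 0, 1, 0, 0, 0, 0, 0, 0, 0, 0, 0, 0, 0, 0, 0],
   [0, 0, 0, 0, 0, 0, 0, 0, 0, 0, 0, 0, 0, 0, 1, 0, 1, 0, -1, 1, -1, 0, 0, -1],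
   [0, 0, 0, 0, 0, 0, 0, 0, 0, 0, 0, 0, 0, 0, 0, 0, 1, 0, -1, 0, 1, -1, -1, 1],
   [0, 0, 0, 0, 0, 0, 0, 0, 0, 0, 0, 0, 0, 0, -1, -1, 0, 1, 0, 0, 1, 0, -1, 1],
   [0, 0, 0, 0, 0, 0, 0, 0, 0, 0, 0, 0, 0, 0, 0, 0, -1, 0, 1, 0, -1, 0, -1, 1],
   [0, 0, 0, 0, 0, 0, 0, 0, 0, 0, 0, 0, 1, 1, 0, 0, 0, -1, -1, 0, -1, -1, 0, 1],
   [0, 0, 0, 0, 0, 0, 0, 0, 0, 0, 0, 0, 0, 0, 0, 0, 0, 0, 0, 0, -1, 2, 0, 0],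
   [0, 0, 0, 0, 0, 0, 0, 0, 0, 0, 0, 0, -1, -2, -1, -2, 2, 0, 1, -2, -1, 0, 0, 3],
   [0, 0, 0, 0, 0, 0, 0, 0, 0, 0, 0, 0, 0, 0, 1, 0, 0, 0, 0, 1, -1, -2, 0, 1],
   [0, 0, 0, 0, 0, 0, 0, 0, 0, 0, 0, 0, 0, 0, -2, 0, 0, 0, 1, 1, 0, 0, -1, 0],
   [0, 0, 0, 0, 0, 0, 0, 0, 0, 0, 0, 0, 0, 0, 1, -1, 0, 1, -1, 0, 1, 0, 0, -1],
   [0, 0, 0, 0, 0, 0, 0, 0, 0, 0, 0, 0, 1, 2, 2, 1, 1, 0, 2, 0, 0, 0, 0, -4],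
   [0, 0, 0, 0, 0, 0, 0, 0, 0, 0, 0, 0, 0, 0, -1, 1, 1, -1, 0, 1, 0, 0, 1, -1]]

end CfsgLib.Leech
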