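import Cfsg.Agent.Lib.Leech.Coord
import Cfsg.Agent.Lib.Leech.IndexData

/-!
The index of the lattice in the integer vectors.
-/

set_option autoImplicit false
set_option maxRecDepth 10000

namespace CfsgLib.Leech

open Cfsg CfsgLib.Golay
open Module

attribute [local irreducible] coord

/-- a list of rows as a matrix -/
def rowsM (l : List (List ℤ)) : Matrix (Fin 24) (Fin 24) ℤ :=
  Matrix.of fun i j => (l.getD i.val []).getD j.val 0

theorem chg_mul : ∀ i j : Fin 24,
    (∑ k : Fin 24, (chgL.getD i.val []).getD k.val 0 * (bL.getD k.val []).getD j.val 0) =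
      (triL.getD i.val []).getD j.val 0 := by decide +kernel

theorem chgInv_mul : ∀ i j : Fin 24,
    (∑ k : Fin 24, (chgInvL.getD i.val []).getD k.val 0 * (chgL.getD k.val []).getD j.val 0) =
      if i = j then 1 else 0 := by decide +kernel

theorem tri_upper : ∀ i j : Fin 24, j < i → (triL.getD i.val []).getD j.val 0 = 0 := by
  decide +kernel

theorem tri_diag_val : ∀ i : Fin 24, (triL.getD i.val []).getD i.val 0 =
    2 ^ ([0, 1, 1, 1, 1, 1, 1, 1, 1, 1, 1, 1, 2, 2, 2, 2, 2, 2, 2, 2, 2, 2, 2, 3].getD i.val 0) := by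
  decide +kernel

theorem tri_diag : (∏ i : Fin 24, (triL.getD i.val []).getD i.val 0) = 2 ^ 36 := by
  simp only [tri_diag_val]
  rw [Finset.prod_pow_eq_pow_sum]
  exact congrArg _ (by decide +kernel)

theorem natAbs_det_of_tri {n : Type*} [Fintype n] [LinearOrder n] {A B C H : Matrix n n ℤ}
    {d : ℤ} (h1 : A * B = 1) (h2 : B * C = H) (hu : H.IsUpperTriangular) (hd : ∏ i, H i i = d) :
    C.det.natAbs = d.natAbs := by
  have h3 : B.det.natAbs = 1 := by
    have h := congrArg (fun M => (Matrix.det M).natAbs) h1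
    simp only [Matrix.det_mul, Int.natAbs_mul, Matrix.det_one, Int.natAbs_one] at h
    exact (mul_eq_one.1 h).2
  rw [← hd, ← Matrix.det_of_isUpperTriangular hu, ← h2, Matrix.det_mul, Int.natAbs_mul, h3, one_mul]

theorem natAbs_det_bL : (rowsM bL).det.natAbs = 2 ^ 36 := by
  have h := natAbs_det_of_tri (A := rowsM chgInvL) (B := rowsM chgL) (C := rowsM bL)
    (H := rowsM triL) (d := 2 ^ 36)
    (Matrix.ext fun i j => by rw [Matrix.mul_apply, Matrix.one_apply]; exact chgInv_mul i j)
    (Matrix.ext fun i j => by rw [Matrix.mul_apply]; exact chg_mul i j)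
    (fun i j (h : j < i) => tri_upper i j h) tri_diag
  rw [h, Int.natAbs_pow]
  rfl

theorem data_dual' : ∀ i j : Fin 24,
    dotL (bL.getD i.val []) (dL.getD j.val []) = if i = j then 8 else 0 := by decide +kernel

theorem data_len : (∀ i : Fin 24, (bL.getD i.val []).length = 24) ∧
    ∀ i : Fin 24, (dL.getD i.val []).length = 24 := by decide +kernel

theorem coord_sum (a : Fin 24 → ℤ) (j : Fin 24) : coord (∑ k, a k • bV k) j = a j := by
  have hm : ∑ k, a k • bV k ∈ leechLattice := sum_mem fun k _ => zsmul_mem (bV_mem k) _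
  have h : dotInt (∑ k, a k • bV k) (dV j) = ∑ k, a k * dotInt (bV k) (dV j) := by
    simp only [dotInt, Finset.sum_apply, Pi.smul_apply, smul_eq_mul, Finset.sum_mul,
      Finset.mul_sum, mul_assoc]
    exact Finset.sum_comm
  have e : ∀ k, dotInt (bV k) (dV j) = if k = j then 8 else 0 := fun k => by
    rw [bV, dV, dotInt_vec (data_len.1 k) (data_len.2 j)]
    exact data_dual' k j
  simp only [e, mul_ite, mul_zero, Finset.sum_ite_eq', Finset.mem_univ, if_true] at h
  have h8 := eight_coord hm j
  omega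

/-- coordinates as a linear equivalence -/
def coordEquiv : ↥leechLattice ≃ₗ[ℤ] (Fin 24 → ℤ) where
  toFun x := coord (x : GolayPt → ℤ)
  map_add' x y := funext fun j => coord_add x.2 y.2 j
  map_smul' z x := funext fun j => coord_zsmul x.2 z j
  invFun a := ⟨∑ j, a j • bV j, sum_mem fun j _ => zsmul_mem (bV_mem j) _⟩
  left_inv x := Subtype.ext (by
    have h := recon x.2
    rw [bList_eq, linL_ofFn] at h
    exact h)
  right_inv a := funext fun j => coord_sum a j

theorem leech_index' : leechLattice.index = 2 ^ 36 := by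
  rw [AddSubgroup.index_eq_natAbs_det ((Pi.basisFun ℤ GolayPt).reindex idxEquiv) leechLattice
    (Basis.ofEquivFun coordEquiv), Module.Basis.det_apply, ← natAbs_det_bL,
    ← Matrix.det_transpose]
  congr 2
  ext i j
  simp only [Matrix.transpose_apply, Module.Basis.toMatrix_apply, Module.Basis.coe_ofEquivFun,
    Module.Basis.repr_reindex_apply, Pi.basisFun_repr]
  rw [show ((coordEquiv.symm (Pi.single i 1) : ↥leechLattice) : GolayPt → ℤ) =
    ∑ k, (Pi.single i (1 : ℤ) : Fin 24 → ℤ) k • bV k from rfl, Finset.sum_apply]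
  rw [Finset.sum_eq_single i]
  · simp only [Pi.single_eq_same, one_smul, bV, vec, rowsM, Matrix.of_apply]
    rw [show idx (idxEquiv.symm j) = j.val from congrArg Fin.val (idxEquiv.apply_symm_apply j)]
  · intro k _ hk; simp [hk]
  · simp

end CfsgLib.Leech
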