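import Cfsg.Prelude.Def_Spor_Conway
import Cfsg.Agent.Lib.Leech.Co0

/-!
The action on the lattice modulo thirteen and the representation of degree 23.
-/

set_option autoImplicit false
set_option maxRecDepth 10000
set_option maxHeartbeats 400000

namespace CfsgLib.Leech

open Cfsg CfsgLib.Golay Matrix

attribute [local irreducible] dL bL key keyL coord packB linL

instance fact_prime_13 : Fact (Nat.Prime 13) := ⟨by norm_num⟩

/-- reduction modulo thirteen -/
def red13 (v : ↥leechLattice) : GolayPt → ZMod 13 := fun i => ((v : GolayPt → ℤ) i : ZMod 13)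

theorem red13_add (v w : ↥leechLattice) : red13 (v + w) = red13 v + red13 w := by
  funext i; simp [red13]

/-- the matrix of an automorphism modulo thirteen -/
def mat13 (g : ↥Co0) : Matrix GolayPt GolayPt (ZMod 13) := fun i p => 5 * red13 (g • eightL p) i

theorem eight_smul_sum (v : ↥leechLattice) :
    (8 : ℤ) • v = ∑ p, (v : GolayPt → ℤ) p • eightL p := by
  apply Subtype.ext
  rw [AddSubgroup.coe_zsmul, AddSubgroup.val_finsetSum]
  funext i
  simp [eightL, eight, Pi.single_apply, Finset.sum_apply, mul_comm]

/-- an automorphism as an additive map -/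
noncomputable def addHom (g : ↥Co0) : ↥leechLattice →+ ↥leechLattice :=
  AddMonoidHom.mk' (fun v => g • v) (smul_add' g)

theorem mat13_mulVec (g : ↥Co0) (v : ↥leechLattice) : mat13 g *ᵥ red13 v = red13 (g • v) := by
  let R : ↥leechLattice →+ (GolayPt → ZMod 13) := AddMonoidHom.mk' red13 red13_add
  have h : (8 : ℤ) • red13 (g • v) =
      ∑ p, (v : GolayPt → ℤ) p • red13 (g • eightL p) := by
    have := congrArg (fun w => R (addHom g w)) (eight_smul_sum v)
    simp only [map_zsmul, map_sum] at this
    exact this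
  funext i
  have hi := congrFun h i
  simp only [Pi.smul_apply, Finset.sum_apply, zsmul_eq_mul, Pi.mul_apply, Pi.intCast_apply] at hi
  rw [mulVec, dotProduct]
  simp only [mat13]
  calc ∑ p, 5 * red13 (g • eightL p) i * red13 v p
      = 5 * ∑ p, ((v : GolayPt → ℤ) p : ZMod 13) * red13 (g • eightL p) i := by
        rw [Finset.mul_sum]
        refine Finset.sum_congr rfl fun p _ => ?_
        show 5 * red13 (g • eightL p) i * ((v : GolayPt → ℤ) p : ZMod 13) = _
        ring
    _ = 5 * (((8 : ℤ) : ZMod 13) * red13 (g • v) i) := by rw [hi]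
    _ = red13 (g • v) i := by rw [← mul_assoc, show (5 : ZMod 13) * ((8 : ℤ) : ZMod 13) = 1 from rfl, one_mul]

theorem red13_spans {M : Matrix GolayPt GolayPt (ZMod 13)} (h : ∀ p, M *ᵥ red13 (eightL p) = 0) :
    M = 0 := by
  ext i p
  have := congrFun (h p) i
  rw [mulVec, dotProduct, Finset.sum_eq_single p (fun q _ hq => by
      simp [red13, eightL, eight, hq]) (fun h => absurd (Finset.mem_univ p) h)] at this
  simp only [red13, eightL, eight, Pi.single_eq_same, Pi.zero_apply] at this
  have h8 : ((8 : ℤ) : ZMod 13) ≠ 0 := by decide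
  simpa using (mul_eq_zero.1 this).resolve_right h8

theorem mat13_one : mat13 1 = 1 := by
  refine sub_eq_zero.1 (red13_spans fun p => ?_)
  rw [sub_mulVec, mat13_mulVec, one_smul, one_mulVec, sub_self]

theorem mat13_mul (g h : ↥Co0) : mat13 (g * h) = mat13 g * mat13 h := by
  refine sub_eq_zero.1 (red13_spans fun p => ?_)
  rw [sub_mulVec, ← mulVec_mulVec, mat13_mulVec, mat13_mulVec, mat13_mulVec, mul_smul, sub_self]

theorem eq_one_of_mat13 {g : ↥Co0} (hg : mat13 g = 1) : g = 1 := by
  have h8 : ∀ p, g • eightL p = eightL p := by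
    intro p
    have h := mat13_mulVec g (eightL p)
    rw [hg, one_mulVec] at h
    set w := g • eightL p with hw
    have hd : ∀ i, (13 : ℤ) ∣ (w : GolayPt → ℤ) i - (eightL p : GolayPt → ℤ) i := fun i => by
      have := congrFun h i
      exact Int.modEq_iff_dvd.1 ((ZMod.intCast_eq_intCast_iff _ _ 13).1 this)
    have hn : sqNorm (w : GolayPt → ℤ) = 64 := (sqNorm_smul g _).trans (sqNorm_eight p)
    have hle : ∀ i, (w : GolayPt → ℤ) i ^ 2 ≤ 64 := fun i => by
      rw [← hn]
      exact Finset.single_le_sum (f := fun q => (w : GolayPt → ℤ) q ^ 2) (fun q _ => sq_nonneg _)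
        (Finset.mem_univ i)
    have hoff : ∀ i, i ≠ p → (w : GolayPt → ℤ) i = 0 := fun i hi => by
      have hd' := hd i
      simp only [eightL, eight, ne_eq, hi, not_false_eq_true, Pi.single_eq_of_ne, sub_zero] at hd'
      obtain ⟨c, hc⟩ := hd'
      have := hle i
      rw [hc] at this ⊢
      have : c = 0 := by nlinarith
      rw [this, mul_zero]
    have hp : (w : GolayPt → ℤ) p = 8 := by
      rw [sqNorm, Finset.sum_eq_single p (fun i _ hi => by rw [hoff i hi]; norm_num)
        (fun h => absurd (Finset.mem_univ p) h)] at hn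
      have := hd p
      simp only [eightL, eight, Pi.single_eq_same] at this
      have hs : (w : GolayPt → ℤ) p = 8 ∨ (w : GolayPt → ℤ) p = -8 := sq_eq_sq_iff_eq_or_eq_neg.1 (by rw [hn]; norm_num)
      omega
    refine Subtype.ext (funext fun i => ?_)
    by_cases hi : i = p
    · subst hi; simp [hp, eightL, eight]
    · rw [hoff i hi]; simp [eightL, eight, hi]
  refine aut_ext fun v => ?_
  rw [one_smul]
  have h := congrArg (addHom g) (eight_smul_sum v)
  rw [map_zsmul, map_sum] at h
  simp only [map_zsmul, show ∀ p, addHom g (eightL p) = eightL p from h8] at h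
  rw [← eight_smul_sum v] at h
  apply Subtype.ext
  funext i
  have := congrFun (congrArg Subtype.val h) i
  simp only [AddSubgroup.coe_zsmul, Pi.smul_apply, smul_eq_mul] at this
  exact mul_left_cancel₀ (by norm_num : (8 : ℤ) ≠ 0) this

/-! ### The stabilizer of the short vector -/

/-- the scalar product with the short vector, up to a factor -/
def pairForm (x : GolayPt → ZMod 13) : ZMod 13 := x none + x (some 0)

/-- extension of a vector to the orthogonal of the short vector -/
def ext13 (y : ZMod 23 → ZMod 13) : GolayPt → ZMod 13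
  | none => -y 0
  | some a => y a

theorem mat13_pair {g : ↥Co0} (hg : g • Spor.leechU = Spor.leechU) (x : GolayPt → ZMod 13) :
    pairForm (mat13 g *ᵥ x) = pairForm x := by
  have hdot : ∀ v : ↥leechLattice,
      (dotInt (v : GolayPt → ℤ) (Spor.leechU : GolayPt → ℤ) : ZMod 13) = 4 * pairForm (red13 v) := by
    intro v
    show ((dotInt (v : GolayPt → ℤ) Spor.vecU : ℤ) : ZMod 13) = _
    rw [dotInt, Fintype.sum_option, Finset.sum_eq_single (0 : ZMod 23) (fun a _ ha => by simp [Spor.vecU, ha])
      (fun h => absurd (Finset.mem_univ _) h)]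
    simp [Spor.vecU, pairForm, red13]
    ring
  have hbase : ∀ p, pairForm (mat13 g *ᵥ red13 (eightL p)) = pairForm (red13 (eightL p)) := fun p => by
    have h4 : (4 : ZMod 13) ≠ 0 := by decide
    refine mul_left_cancel₀ h4 ?_
    rw [mat13_mulVec, ← hdot, ← hdot]
    conv_lhs => rw [← hg]
    rw [dotInt_smul]
  have hsum : x = ∑ p, (5 * x p) • red13 (eightL p) := by
    funext i
    rw [Finset.sum_apply, Finset.sum_eq_single i (fun q _ hq => by
      simp [red13, eightL, eight, Ne.symm hq]) (fun h => absurd (Finset.mem_univ i) h)]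
    simp only [Pi.smul_apply, red13, eightL, eight, Pi.single_eq_same, smul_eq_mul]
    rw [mul_comm (5 : ZMod 13), mul_assoc, show (5 : ZMod 13) * ((8 : ℤ) : ZMod 13) = 1 from rfl, mul_one]
  let L : (GolayPt → ZMod 13) →ₗ[ZMod 13] ZMod 13 :=
    LinearMap.proj (R := ZMod 13) (φ := fun _ : GolayPt => ZMod 13) none + LinearMap.proj (R := ZMod 13) (φ := fun _ : GolayPt => ZMod 13) (some 0)
  have hL : ∀ z, pairForm z = L z := fun z => rfl
  rw [hL, hL]
  conv_lhs => rw [hsum, Matrix.mulVec_sum, map_sum]
  conv_rhs => rw [hsum, map_sum]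
  refine Finset.sum_congr rfl fun p _ => ?_
  rw [mulVec_smul, map_smul, map_smul, ← hL, ← hL, hbase]

/-- the linear map in degree 23 -/
def lin23 (g : ↥Co0) : (ZMod 23 → ZMod 13) →ₗ[ZMod 13] (ZMod 23 → ZMod 13) where
  toFun y a := (mat13 g *ᵥ ext13 y) (some a)
  map_add' y z := by
    funext a
    have : ext13 (y + z) = ext13 y + ext13 z := by
      funext i; cases i <;> simp [ext13, add_comm]
    simp [this, mulVec_add]
  map_smul' c y := by
    funext a
    have : ext13 (c • y) = c • ext13 y := by funext i; cases i <;> simp [ext13]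
    simp [this, mulVec_smul]

theorem ext13_lin23 {g : ↥Co0} (hg : g • Spor.leechU = Spor.leechU) (y : ZMod 23 → ZMod 13) :
    ext13 (lin23 g y) = mat13 g *ᵥ ext13 y := by
  have h := mat13_pair hg (ext13 y)
  simp only [pairForm, ext13, neg_add_cancel] at h
  funext i
  cases i with
  | none =>
    show -((mat13 g *ᵥ ext13 y) (some 0)) = _
    linear_combination -h
  | some a => rfl

/-- the second group inside the isometry group -/
def co2Emb : ↥Spor.Co2 →* ↥Co0 := Subgroup.inclusion (show Spor.Co2 ≤ Co0 from inf_le_left)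

theorem mem_co2 (g : ↥Spor.Co2) : co2Emb g • Spor.leechU = Spor.leechU :=
  (Subgroup.mem_inf.1 g.2).2

/-- the monoid map to matrices of degree 23 -/
noncomputable def mon23 : ↥Spor.Co2 →* Matrix (Fin 23) (Fin 23) (ZMod 13) where
  toFun g := LinearMap.toMatrix' (lin23 (co2Emb g))
  map_one' := by
    rw [map_one, show lin23 1 = LinearMap.id from ?_]
    · exact LinearMap.toMatrix'_id
    · apply LinearMap.ext; intro y; funext a
      show (mat13 1 *ᵥ ext13 y) (some a) = y a
      rw [mat13_one, one_mulVec]; rfl
  map_mul' g h := by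
    rw [map_mul, show lin23 (co2Emb g * co2Emb h) = (lin23 (co2Emb g)).comp (lin23 (co2Emb h)) from ?_]
    · exact LinearMap.toMatrix'_comp _ _
    · apply LinearMap.ext; intro y; funext a
      show (mat13 (co2Emb g * co2Emb h) *ᵥ ext13 y) (some a) =
        (mat13 (co2Emb g) *ᵥ ext13 (lin23 (co2Emb h) y)) (some a)
      rw [mat13_mul, ← mulVec_mulVec, ext13_lin23 (mem_co2 h)]

/-- the representation of degree 23 -/
noncomputable def rep23 : ↥Spor.Co2 →* GL (Fin 23) (ZMod 13) := mon23.toHomUnits

theorem rep23_val (g : ↥Spor.Co2) :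
    ((rep23 g : GL (Fin 23) (ZMod 13)) : Matrix (Fin 23) (Fin 23) (ZMod 13)) = mon23 g := rfl

theorem rep23_injective : Function.Injective rep23 := by
  rw [injective_iff_map_eq_one]
  intro g hg
  set g0 : ↥Co0 := co2Emb g with hg0
  have h1 : lin23 g0 = LinearMap.id := by
    apply LinearMap.toMatrix'.injective
    have h := congrArg Units.val hg
    rw [rep23_val, Units.val_one] at h
    exact h.trans LinearMap.toMatrix'_id.symm
  have hfix : ∀ x, mat13 g0 *ᵥ x = x := by
    intro x
    set c : ZMod 13 := 5 * pairForm x with hc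
    set y : ZMod 23 → ZMod 13 := fun a => (x - c • red13 Spor.leechU) (some a) with hy
    have hu : red13 Spor.leechU none = 4 ∧ red13 Spor.leechU (some 0) = 4 :=
      ⟨by simp [red13, Spor.leechU, Spor.vecU], by simp [red13, Spor.leechU, Spor.vecU]⟩
    have he : ext13 y = x - c • red13 Spor.leechU := by
      funext i
      cases i with
      | none =>
        simp only [ext13, hy, Pi.sub_apply, Pi.smul_apply, smul_eq_mul, hu.1, hu.2, hc, pairForm]
        have h40 : (40 : ZMod 13) = 1 := by decide
        linear_combination (x none + x (some 0)) * h40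
      | some a => rfl
    have h2 : mat13 g0 *ᵥ ext13 y = ext13 y := by
      rw [← ext13_lin23 (mem_co2 g), h1]; rfl
    rw [he, mulVec_sub, mulVec_smul, mat13_mulVec, hg0, mem_co2 g, sub_left_inj] at h2
    exact h2
  have : mat13 g0 = 1 := by
    refine sub_eq_zero.1 (red13_spans fun p => ?_)
    rw [sub_mulVec, hfix, one_mulVec, sub_self]
  have h3 : g0 = 1 := eq_one_of_mat13 this
  exact Subtype.ext (show g.1 = 1 from congrArg Subtype.val h3)

end CfsgLib.Leech
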