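import Cfsg.Agent.Lib.Leech.Lattice

/-!
The shapes of the lattice vectors of the second shell.
-/

set_option autoImplicit false
set_option maxRecDepth 20000

namespace CfsgLib.Leech.Norm48

open Cfsg CfsgLib.Golay

attribute [local irreducible] codeList

/-- membership from the residue set -/
theorem mem_of_residue {x : GolayPt → ℤ} (m r : ℤ) (hm : ∀ i, (x i - m) % 2 = 0) (hr : (r - m) % 2 = 0)
    (hs : ((∑ i, x i) - 4 * m) % 8 = 0) {c : Finset GolayPt} (hc : c ∈ CS)
    (hcc : ∀ i, i ∈ c ↔ (x i - r) % 4 = 0) : x ∈ leechLattice := by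
  rw [mem_leechLattice]
  refine ⟨m, fun i => ?_, ?_, fun k => ?_⟩
  · have := hm i; rw [Int.ModEq]; omega
  · rw [Int.ModEq]; omega
  · by_cases h0 : (k - r) % 4 = 0
    · convert hc using 1
      ext i
      rw [Finset.mem_filter, Int.ModEq, hcc]
      simp only [Finset.mem_univ, true_and]
      omega
    · by_cases h2 : (k - r) % 4 = 2
      · convert compl_mem_supports hc using 1
        ext i
        rw [Finset.mem_filter, Finset.mem_compl, Int.ModEq, hcc]
        simp only [Finset.mem_univ, true_and]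
        have := hm i
        omega
      · convert empty_mem_CS using 1
        ext i
        rw [Finset.mem_filter, Int.ModEq]
        simp only [Finset.mem_univ, true_and, Finset.notMem_empty, iff_false]
        have := hm i
        omega

theorem residue_mem {x : GolayPt → ℤ} (hx : x ∈ leechLattice) (r : ℤ) :
    (Finset.univ.filter fun i => x i % 4 = r % 4) ∈ CS := by
  rw [mem_leechLattice] at hx
  obtain ⟨m, -, -, hres⟩ := hx
  exact hres r

theorem parity {x : GolayPt → ℤ} (hx : x ∈ leechLattice) :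
    ∃ m : ℤ, (∀ i, (x i - m) % 2 = 0) ∧ ((∑ i, x i) - 4 * m) % 8 = 0 := by
  rw [mem_leechLattice] at hx
  obtain ⟨m, hm, hs, -⟩ := hx
  rw [Int.ModEq] at hs
  exact ⟨m, fun i => by have := hm i; rw [Int.ModEq] at this; omega, by omega⟩

theorem sum_split (c : Finset GolayPt) (f : GolayPt → ℤ) (a b : ℤ) (ha : ∀ i ∈ c, f i = a)
    (hb : ∀ i ∉ c, f i = b) : ∑ i, f i = (c.card : ℤ) * a + (24 - (c.card : ℤ)) * b := by
  rw [← Finset.sum_add_sum_compl c, Finset.sum_congr rfl ha,
    Finset.sum_congr rfl fun i hi => hb i (Finset.mem_compl.1 hi), Finset.sum_const, Finset.sum_const,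
    Finset.card_compl, card_pt, nsmul_eq_mul, nsmul_eq_mul, Nat.cast_sub]
  · simp
  · exact card_pt ▸ Finset.card_le_univ c

theorem le_sum_term (f : GolayPt → ℤ) (hf : ∀ i, 0 ≤ f i) (T : Finset GolayPt) : ∑ i ∈ T, f i ≤ ∑ i, f i :=
  Finset.sum_le_sum_of_subset_of_nonneg (Finset.subset_univ T) fun i _ _ => hf i

theorem card_parity_subsets (c : Finset GolayPt) (hc : c.Nonempty) (j : ℕ) (hj : j < 2) :
    (c.powerset.filter fun N => N.card % 2 = j).card = 2 ^ (c.card - 1) := by
  classical
  obtain ⟨a, ha⟩ := hc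
  have h1 : (c.powerset.filter fun N => N.card % 2 = j).card = (c.erase a).powerset.card := by
    refine Finset.card_bij' (fun N _ => N.erase a)
      (fun M _ => if M.card % 2 = j then M else insert a M) ?_ ?_ ?_ ?_
    · intro N hN
      simp only [Finset.mem_filter, Finset.mem_powerset] at hN
      exact Finset.mem_powerset.2 (Finset.erase_subset_erase a hN.1)
    · intro M hM
      rw [Finset.mem_powerset] at hM
      have haM : a ∉ M := fun h => Finset.notMem_erase a c (hM h)
      have hMc : M ⊆ c := hM.trans (Finset.erase_subset a c)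
      simp only [Finset.mem_filter, Finset.mem_powerset]
      split
      · next h => exact ⟨hMc, h⟩
      · next h =>
        refine ⟨Finset.insert_subset ha hMc, ?_⟩
        rw [Finset.card_insert_of_notMem haM]
        omega
    · intro N hN
      simp only [Finset.mem_filter, Finset.mem_powerset] at hN
      by_cases h : a ∈ N
      · have h2 := Finset.card_erase_add_one h
        rw [if_neg (by omega)]
        exact Finset.insert_erase h
      · rw [Finset.erase_eq_of_notMem h, if_pos hN.2]
    · intro M hM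
      rw [Finset.mem_powerset] at hM
      have haM : a ∉ M := fun h => Finset.notMem_erase a c (hM h)
      split
      · exact Finset.erase_eq_of_notMem haM
      · exact Finset.erase_insert haM
  rw [h1, Finset.card_powerset, Finset.card_erase_of_mem ha]

/-- an odd vector with a larger entry on `T` -/
def oddVec (a : ℤ) (T c : Finset GolayPt) (i : GolayPt) : ℤ :=
  if i ∈ T then (if i ∈ c then a else -a) else (if i ∈ c then -1 else 1)

theorem sum_oddVec (a : ℤ) (T c : Finset GolayPt) :
    ∑ i, oddVec a T c i = (24 - 2 * (c.card : ℤ)) + (2 * ((T ∩ c).card : ℤ) - T.card) * a +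
      (2 * ((T ∩ c).card : ℤ) - T.card) := by
  have h : ∀ i, oddVec a T c i = 1 + (-2) * ind c i + (2 * a + 2) * ind (T ∩ c) i + (-(a + 1)) * ind T i := by
    intro i
    by_cases h1 : i ∈ T <;> by_cases h2 : i ∈ c <;> simp [oddVec, ind, h1, h2] <;> ring
  simp only [h, Finset.sum_add_distrib, ← Finset.mul_sum, sum_ind, Finset.sum_const, Finset.card_univ,
    card_pt, nsmul_eq_mul]
  push_cast
  ring

theorem sq_oddVec (a : ℤ) (T c : Finset GolayPt) (i : GolayPt) :
    oddVec a T c i ^ 2 = if i ∈ T then a ^ 2 else 1 := by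
  unfold oddVec
  split <;> split <;> ring

/-- odd vectors with entries `±a` on `k` points and `±1` elsewhere -/
theorem odd_shape (a s : ℤ) (k : ℕ) (ha : a = 3 ∧ s = 3 ∧ k = 3 ∨ a = 5 ∧ s = -5 ∧ k = 1) :
    {x : GolayPt → ℤ | x ∈ leechLattice ∧ ∃ T : Finset GolayPt, T.card = k ∧ (∀ i ∈ T, |x i| = a) ∧
      ∀ i ∉ T, |x i| = 1}.ncard = (Nat.choose 24 k) * 4096 := by
  classical
  have hset : {x : GolayPt → ℤ | x ∈ leechLattice ∧ ∃ T : Finset GolayPt, T.card = k ∧ (∀ i ∈ T, |x i| = a) ∧
      ∀ i ∉ T, |x i| = 1} = (fun p : Finset GolayPt × Finset GolayPt => oddVec s p.1 p.2) ''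
        {p | p.1.card = k ∧ p.2 ∈ CS ∧ True} := by
    ext x
    simp only [Set.mem_ofPred_eq, Set.mem_image, Prod.exists, and_true]
    constructor
    · rintro ⟨hx, T, hT, hTa, hT1⟩
      obtain ⟨c, hc, hceq⟩ : ∃ c ∈ CS, ∀ i, i ∈ c ↔ x i % 4 = 3 := by
        refine ⟨_, residue_mem hx 3, fun i => ?_⟩
        simp
      refine ⟨T, c, ⟨hT, hc⟩, funext fun i => ?_⟩
      have hc' := hceq i
      unfold oddVec
      by_cases hi : i ∈ T
      · rw [if_pos hi]
        have := hTa i hi
        rcases abs_choice (x i) with e | e <;> rw [e] at this <;> split <;> simp_all <;> omega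
      · rw [if_neg hi]
        have := hT1 i hi
        rcases abs_choice (x i) with e | e <;> rw [e] at this <;> split <;> simp_all <;> omega
    · rintro ⟨T, c, ⟨hT, hc⟩, rfl⟩
      refine ⟨mem_of_residue 1 3 (fun i => ?_) (by norm_num) ?_ hc (fun i => ?_), T, hT, fun i hi => ?_,
        fun i hi => ?_⟩
      · unfold oddVec
        rcases ha with ⟨-, rfl, -⟩ | ⟨-, rfl, -⟩ <;> split <;> split <;> omega
      · have := card_mod_four hc
        rw [sum_oddVec, hT]
        rcases ha with ⟨-, rfl, rfl⟩ | ⟨-, rfl, rfl⟩ <;> push_cast <;> omega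
      · unfold oddVec
        rcases ha with ⟨-, rfl, -⟩ | ⟨-, rfl, -⟩ <;>
          by_cases h1 : i ∈ T <;> by_cases h2 : i ∈ c <;> simp [h1, h2]
      · unfold oddVec
        rw [if_pos hi]
        rcases ha with ⟨rfl, rfl, -⟩ | ⟨rfl, rfl, -⟩ <;> split <;> norm_num
      · unfold oddVec; rw [if_neg hi]; split <;> simp
  rw [hset, Set.InjOn.ncard_image]
  · have hp : {p : Finset GolayPt × Finset GolayPt | p.1.card = k ∧ p.2 ∈ CS ∧ True} =
        (↑((Finset.univ : Finset GolayPt).powersetCard k) : Set (Finset GolayPt)) ×ˢ (CS : Set (Finset GolayPt)) := by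
      ext p; simp
    have hCS : (CS : Set (Finset GolayPt)).ncard = 4096 := by
      have he : (CS : Set (Finset GolayPt)) = dec '' {m | m ∈ codeList} := by
        ext s; exact mem_supports_codeList
      rw [he, Set.InjOn.ncard_image (s := {m | m ∈ codeList}) fun u hu v hv e => dec_inj (codeList_lt hu) (codeList_lt hv) e,
        ← codeList_length, ← List.toFinset_card_of_nodup codeList_nodup, ← Set.ncard_coe_finset]
      congr 1; ext; simp
    rw [hp, Set.ncard_prod, Set.ncard_coe_finset, Finset.card_powersetCard, Finset.card_univ, card_pt, hCS]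
  · rintro ⟨T, c⟩ ⟨hT, -⟩ ⟨T', c'⟩ ⟨hT', -⟩ e
    have h : ∀ i, oddVec s T c i = oddVec s T' c' i := fun i => congrFun e i
    have hTT : T = T' := by
      ext i
      have := h i
      unfold oddVec at this
      by_cases h1 : i ∈ T <;> by_cases h2 : i ∈ T' <;> by_cases h3 : i ∈ c <;> by_cases h4 : i ∈ c' <;>
        simp only [h1, h2, h3, h4, if_true, if_false] at this ⊢ <;> omega
    subst hTT
    refine Prod.ext rfl ?_
    ext i
    have := h i
    unfold oddVec at this
    by_cases h1 : i ∈ T <;> by_cases h3 : i ∈ c <;> by_cases h4 : i ∈ c' <;>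
      simp only [h1, h3, h4, if_true, if_false] at this ⊢ <;> omega

theorem odd_entries {x : GolayPt → ℤ} (hx : x ∈ leechLattice) (a : ℤ) (T : Finset GolayPt) (ha : Odd a)
    (hT : T.Nonempty) (hTa : ∀ i ∈ T, |x i| = a) (hn : sqNorm x = 48)
    (hk : (T.card : ℤ) * a ^ 2 + (24 - (T.card : ℤ)) = 48) : ∀ i ∉ T, |x i| = 1 := by
  intro i hi
  obtain ⟨m, hm, -⟩ := parity hx
  obtain ⟨t, ht⟩ := hT
  have hodd : ∀ j, x j % 2 ≠ 0 := by
    intro j
    have h1 := hm t; have h2 := hm j
    obtain ⟨b, hb⟩ := ha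
    have := hTa t ht
    rcases abs_choice (x t) with e | e <;> rw [e] at this <;> omega
  have hsq : ∀ j, 1 ≤ x j ^ 2 := fun j => by
    have : x j ≠ 0 := fun e => hodd j (by rw [e]; rfl)
    nlinarith [Int.one_le_abs this, sq_abs (x j), abs_nonneg (x j)]
  by_contra hne
  have hlt : ∑ j, (if j ∈ T then a ^ 2 else 1) < ∑ j, x j ^ 2 := by
    refine Finset.sum_lt_sum (fun j _ => ?_) ⟨i, Finset.mem_univ _, ?_⟩
    · split
      · next h => rw [← hTa j h, sq_abs]
      · exact hsq j
    · rw [if_neg hi]
      have h2 : 2 ≤ |x i| := by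
        rcases lt_trichotomy |x i| 1 with h | h | h
        · have : x i = 0 := abs_eq_zero.1 (by have := abs_nonneg (x i); omega)
          exact absurd (by rw [this]; rfl) (hodd i)
        · exact absurd h hne
        · omega
      nlinarith [sq_abs (x i)]
  rw [sum_split T _ (a ^ 2) 1 (fun j hj => if_pos hj) (fun j hj => if_neg hj), show ∑ j, x j ^ 2 = 48 from hn,
    mul_one, hk] at hlt
  exact lt_irrefl _ hlt

theorem sqNorm_oddShape {x : GolayPt → ℤ} (a : ℤ) (T : Finset GolayPt) (hTa : ∀ i ∈ T, |x i| = a)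
    (hT1 : ∀ i ∉ T, |x i| = 1) : sqNorm x = (T.card : ℤ) * a ^ 2 + (24 - (T.card : ℤ)) * 1 :=
  sum_split T _ _ _ (fun i hi => by rw [← hTa i hi, sq_abs]) (fun i hi => by rw [← sq_abs, hT1 i hi, one_pow])

theorem three_count : {x : GolayPt → ℤ | x ∈ leechLattice ∧ sqNorm x = 48 ∧
    ∃ i j k, i ≠ j ∧ j ≠ k ∧ i ≠ k ∧ |x i| = 3 ∧ |x j| = 3 ∧ |x k| = 3}.ncard = 8290304 := by
  have h := odd_shape 3 3 3 (Or.inl ⟨rfl, rfl, rfl⟩)
  rw [show Nat.choose 24 3 * 4096 = 8290304 by decide +kernel] at h
  refine Eq.trans (congrArg Set.ncard ?_) h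
  ext x
  simp only [Set.mem_ofPred_eq]
  constructor
  · rintro ⟨hx, hn, i, j, k, hij, hjk, hik, hi, hj, hk⟩
    have hT : ({i, j, k} : Finset GolayPt).card = 3 := Finset.card_eq_three.2 ⟨i, j, k, hij, hik, hjk, rfl⟩
    have hTa : ∀ p ∈ ({i, j, k} : Finset GolayPt), |x p| = 3 := by
      intro p hp
      simp only [Finset.mem_insert, Finset.mem_singleton] at hp
      rcases hp with rfl | rfl | rfl <;> assumption
    exact ⟨hx, _, hT, hTa, odd_entries hx 3 _ (by decide) ⟨i, by simp⟩ hTa hn (by rw [hT]; norm_num)⟩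
  · rintro ⟨hx, T, hT, hTa, hT1⟩
    refine ⟨hx, by rw [sqNorm_oddShape 3 T hTa hT1, hT]; norm_num, ?_⟩
    obtain ⟨i, j, k, hij, hik, hjk, rfl⟩ := Finset.card_eq_three.1 hT
    exact ⟨i, j, k, hij, hjk, hik, hTa i (by simp), hTa j (by simp), hTa k (by simp)⟩

theorem five_count : {x : GolayPt → ℤ | x ∈ leechLattice ∧ sqNorm x = 48 ∧ ∃ i, |x i| = 5}.ncard = 98304 := by
  have h := odd_shape 5 (-5) 1 (Or.inr ⟨rfl, rfl, rfl⟩)
  rw [show Nat.choose 24 1 * 4096 = 98304 by decide +kernel] at h
  refine Eq.trans (congrArg Set.ncard ?_) h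
  ext x
  simp only [Set.mem_ofPred_eq]
  constructor
  · rintro ⟨hx, hn, i, hi⟩
    have hTa : ∀ p ∈ ({i} : Finset GolayPt), |x p| = 5 := by
      intro p hp; rw [Finset.mem_singleton.1 hp]; exact hi
    exact ⟨hx, _, Finset.card_singleton i, hTa,
      odd_entries hx 5 _ (by decide) ⟨i, by simp⟩ hTa hn (by rw [Finset.card_singleton]; norm_num)⟩
  · rintro ⟨hx, T, hT, hTa, hT1⟩
    refine ⟨hx, by rw [sqNorm_oddShape 5 T hTa hT1, hT]; norm_num, ?_⟩
    obtain ⟨i, rfl⟩ := Finset.card_eq_one.1 hT
    exact ⟨i, hTa i (by simp)⟩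

/-- entries `±2` on `c`, the sign given by `N` -/
def twoVec (c N : Finset GolayPt) (i : GolayPt) : ℤ := if i ∈ c then (if i ∈ N then -2 else 2) else 0

theorem twoVec_eq {c N : Finset GolayPt} (hN : N ⊆ c) (i : GolayPt) :
    twoVec c N i = 2 * ind c i + (-4) * ind N i := by
  by_cases h1 : i ∈ c <;> by_cases h2 : i ∈ N
  · simp [twoVec, ind, h1, h2]
  · simp [twoVec, ind, h1, h2]
  · exact absurd (hN h2) h1
  · simp [twoVec, ind, h1, h2]

theorem sum_twoVec {c N : Finset GolayPt} (hN : N ⊆ c) :
    ∑ i, twoVec c N i = 2 * (c.card : ℤ) - 4 * (N.card : ℤ) := by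
  simp only [twoVec_eq hN, Finset.sum_add_distrib, ← Finset.mul_sum, sum_ind]
  ring

theorem sq_twoVec (c N : Finset GolayPt) : ∑ i, twoVec c N i ^ 2 = 4 * (c.card : ℤ) := by
  rw [sum_split c _ 4 0 (fun i hi => by unfold twoVec; rw [if_pos hi]; split <;> norm_num)
    (fun i hi => by simp [twoVec, hi])]
  ring

theorem twoVec_inj {c c' N N' : Finset GolayPt} (hN : N ⊆ c) (hN' : N' ⊆ c')
    (h : ∀ i, twoVec c N i = twoVec c' N' i) : c = c' ∧ N = N' := by
  have hc : c = c' := by
    ext i
    have := h i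
    unfold twoVec at this
    by_cases h1 : i ∈ c <;> by_cases h2 : i ∈ c' <;> by_cases h3 : i ∈ N <;> by_cases h4 : i ∈ N' <;>
      simp only [h1, h2, h3, h4, if_true, if_false] at this ⊢ <;> omega
  subst hc
  refine ⟨rfl, ?_⟩
  ext i
  have := h i
  unfold twoVec at this
  by_cases h1 : i ∈ c
  · by_cases h3 : i ∈ N <;> by_cases h4 : i ∈ N' <;> simp only [h1, h3, h4, if_true, if_false] at this ⊢ <;> omega
  · exact iff_of_false (fun h3 => h1 (hN h3)) (fun h4 => h1 (hN' h4))

theorem two_count : {x : GolayPt → ℤ | x ∈ leechLattice ∧ sqNorm x = 48 ∧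
    ∀ i, x i = 0 ∨ x i = 2 ∨ x i = -2}.ncard = 5275648 := by
  classical
  let D : Finset (Finset GolayPt) := (Set.toFinite dodecads).toFinset
  let S : Finset (Σ _c : Finset GolayPt, Finset GolayPt) :=
    D.sigma fun c => c.powerset.filter fun N => N.card % 2 = 0
  have hS : S.card = 5275648 := by
    rw [Finset.card_sigma, Finset.sum_congr rfl (g := fun _ => 2048) fun c hc => ?_, Finset.sum_const,
      smul_eq_mul, ← Set.ncard_eq_toFinset_card dodecads (Set.toFinite _), ncard_dodecads]
    have h12 : c.card = 12 := ((Set.toFinite dodecads).mem_toFinset.1 hc).2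
    rw [card_parity_subsets c (Finset.card_pos.1 (by omega)) 0 (by norm_num), h12]
    norm_num
  have hmem : ∀ p, p ∈ S ↔ p.1 ∈ dodecads ∧ p.2 ⊆ p.1 ∧ p.2.card % 2 = 0 := fun p => by simp [S, D]
  rw [← hS, ← Set.ncard_coe_finset, ← Set.InjOn.ncard_image (f := fun p : Σ _c : Finset GolayPt, Finset GolayPt =>
    twoVec p.1 p.2)]
  · congr 1
    ext x
    simp only [Set.mem_ofPred_eq, Set.mem_image, Finset.mem_coe, hmem, Sigma.exists]
    constructor
    · rintro ⟨hx, hn, hv⟩
      set c := Finset.univ.filter fun i => x i ≠ 0 with hc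
      set N := Finset.univ.filter fun i => x i = -2 with hN
      have hNc : N ⊆ c := fun i hi => by
        rw [hN, Finset.mem_filter] at hi
        rw [hc, Finset.mem_filter]
        exact ⟨Finset.mem_univ _, by omega⟩
      have hxe : ∀ i, x i = twoVec c N i := fun i => by
        rcases hv i with e | e | e <;> simp [twoVec, hc, hN, e]
      have hcs : c ∈ CS := by
        convert residue_mem hx 2 using 1
        ext i
        simp only [hc, Finset.mem_filter, Finset.mem_univ, true_and]
        rcases hv i with e | e | e <;> simp [e]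
      have h12 : c.card = 12 := by
        have : ∑ i, x i ^ 2 = 48 := hn
        rw [Finset.sum_congr rfl fun i _ => by rw [hxe i], sq_twoVec] at this
        omega
      obtain ⟨m, hm, hs⟩ := parity hx
      have hm0 : m % 2 = 0 := by
        have h1 := hm none
        rcases hv none with e | e | e <;> omega
      rw [Finset.sum_congr rfl fun i _ => hxe i, sum_twoVec hNc] at hs
      exact ⟨c, N, ⟨⟨hcs, h12⟩, hNc, by omega⟩, funext fun i => (hxe i).symm⟩
    · rintro ⟨c, N, ⟨hc, hN, h2⟩, rfl⟩
      refine ⟨mem_of_residue 0 2 (fun i => ?_) (by norm_num) ?_ hc.1 (fun i => ?_), ?_, fun i => ?_⟩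
      · unfold twoVec; split <;> (try split) <;> norm_num
      · rw [sum_twoVec hN, hc.2]; push_cast; omega
      · unfold twoVec
        by_cases h1 : i ∈ c <;> by_cases h3 : i ∈ N <;> simp [h1, h3]
      · show ∑ i, twoVec c N i ^ 2 = 48
        rw [sq_twoVec, hc.2]; norm_num
      · unfold twoVec; split <;> (try split) <;> simp
  · rintro ⟨c, N⟩ hp ⟨c', N'⟩ hp' e
    rw [Finset.mem_coe, hmem] at hp hp'
    obtain ⟨rfl, rfl⟩ := twoVec_inj hp.2.1 hp'.2.1 (congrFun e)
    rfl

/-- an octad vector with one entry `±4` outside -/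
def fourVec (c N : Finset GolayPt) (p : GolayPt) (s : Bool) (i : GolayPt) : ℤ :=
  if i = p then (if s then 4 else -4) else twoVec c N i

theorem four_count : {x : GolayPt → ℤ | x ∈ leechLattice ∧ sqNorm x = 48 ∧ ∃ i, |x i| = 4}.ncard = 3108864 := by
  classical
  let D : Finset (Finset GolayPt) := (Set.toFinite octads).toFinset
  let S : Finset (Σ _c : Finset GolayPt, Finset GolayPt × GolayPt × Bool) :=
    D.sigma fun c => (c.powerset.filter fun N => N.card % 2 = 1) ×ˢ cᶜ ×ˢ (Finset.univ : Finset Bool)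
  have hS : S.card = 3108864 := by
    rw [Finset.card_sigma, Finset.sum_congr rfl (g := fun _ => 4096) fun c hc => ?_, Finset.sum_const,
      smul_eq_mul, ← Set.ncard_eq_toFinset_card octads (Set.toFinite _), ncard_octads]
    have h8 : c.card = 8 := ((Set.toFinite octads).mem_toFinset.1 hc).2
    rw [Finset.card_product, Finset.card_product, card_parity_subsets c (Finset.card_pos.1 (by omega)) 1 (by norm_num),
      Finset.card_compl, card_pt, h8, Finset.card_univ, Fintype.card_bool]
    rfl
  have hmem : ∀ q, q ∈ S ↔ q.1 ∈ octads ∧ (q.2.1 ⊆ q.1 ∧ q.2.1.card % 2 = 1) ∧ q.2.2.1 ∉ q.1 := fun q => by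
    simp [S, D]
  rw [← hS, ← Set.ncard_coe_finset, ← Set.InjOn.ncard_image
    (f := fun q : Σ _c : Finset GolayPt, Finset GolayPt × GolayPt × Bool => fourVec q.1 q.2.1 q.2.2.1 q.2.2.2)]
  · congr 1
    ext x
    simp only [Set.mem_ofPred_eq, Set.mem_image, Finset.mem_coe, hmem, Sigma.exists, Prod.exists]
    constructor
    · rintro ⟨hx, hn, p, hp⟩
      obtain ⟨m, hm, hs⟩ := parity hx
      have hp4 : x p = 4 ∨ x p = -4 := by rcases abs_choice (x p) with e | e <;> rw [e] at hp <;> omega
      have hm0 : m % 2 = 0 := by have := hm p; omega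
      set c := Finset.univ.filter fun i => x i % 4 = 2 with hc
      have hcs : c ∈ CS := residue_mem hx 2
      have hev : ∀ i, x i % 2 = 0 := fun i => by have := hm i; omega
      have hc0 : ∀ i ∉ c, x i % 4 = 0 := fun i hi => by
        rw [hc, Finset.mem_filter] at hi
        simp only [Finset.mem_univ, true_and] at hi
        have := hev i; omega
      have hc4 : ∀ i ∈ c, 4 ≤ x i ^ 2 := fun i hi => by
        rw [hc, Finset.mem_filter] at hi
        have : x i ≤ -2 ∨ 2 ≤ x i := by omega
        rcases this with h | h <;> nlinarith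
      have hpc : p ∉ c := fun h => by rw [hc, Finset.mem_filter] at h; rcases hp4 with e | e <;> omega
      have hbound : ∀ T : Finset GolayPt, ∑ i ∈ T, x i ^ 2 ≤ 48 :=
        fun T => hn ▸ le_sum_term (fun i => x i ^ 2) (fun i => sq_nonneg _) T
      have hp2 : x p ^ 2 = 16 := by rw [← sq_abs, hp]; norm_num
      have hcle : 4 * (c.card : ℤ) + 16 ≤ 48 := by
        have h := hbound (insert p c)
        rw [Finset.sum_insert hpc, hp2] at h
        have : (c.card : ℤ) * 4 ≤ ∑ i ∈ c, x i ^ 2 := by
          have := Finset.sum_le_sum (f := fun _ => (4 : ℤ)) (g := fun i => x i ^ 2) (s := c) hc4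
          simpa using this
        omega
      have hcard : c.card = 0 ∨ c.card = 8 := by rcases card_supports hcs with h | h | h | h | h <;> omega
      rcases hcard with hc0' | h8
      · exfalso
        have hall : ∀ i, x i % 4 = 0 := fun i => hc0 i (by rw [Finset.card_eq_zero.1 hc0']; simp)
        have h1 : ∀ i, (x i / 4) ^ 2 % 2 = (x i / 4) % 2 := fun i => by
          rcases Int.emod_two_eq (x i / 4) with h | h
          · have : ∃ t, x i / 4 = 2 * t := ⟨x i / 4 / 2, by omega⟩
            obtain ⟨t, ht⟩ := this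
            rw [ht, show (2 * t) ^ 2 = 2 * (2 * (t * t)) by ring]; omega
          · have : ∃ t, x i / 4 = 2 * t + 1 := ⟨x i / 4 / 2, by omega⟩
            obtain ⟨t, ht⟩ := this
            rw [ht, show (2 * t + 1) ^ 2 = 2 * (2 * (t * t) + 2 * t) + 1 by ring]; omega
        have hx4 : ∀ i, x i = 4 * (x i / 4) := fun i => by have := hall i; omega
        have hsum : ∑ i, x i = 4 * ∑ i, x i / 4 := by rw [Finset.mul_sum]; exact Finset.sum_congr rfl fun i _ => hx4 i
        have hsq : (48 : ℤ) = 16 * ∑ i, (x i / 4) ^ 2 := by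
          rw [← hn, Finset.mul_sum]
          exact Finset.sum_congr rfl fun i _ => by rw [show x i ^ 2 = (4 * (x i / 4)) ^ 2 by rw [← hx4 i]]; ring
        have hpar : (∑ i, (x i / 4) ^ 2) % 2 = (∑ i, x i / 4) % 2 := by
          rw [Finset.sum_int_mod, Finset.sum_congr rfl fun i _ => h1 i, ← Finset.sum_int_mod]
        omega
      have hrest : ∀ i, i ∉ c → i ≠ p → x i = 0 := fun i hi hip => by
        by_contra hne
        have h := hbound (insert i (insert p c))
        rw [Finset.sum_insert (by simp [hi, hip]), Finset.sum_insert hpc, hp2] at h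
        have h2 : (c.card : ℤ) * 4 ≤ ∑ j ∈ c, x j ^ 2 := by
          have := Finset.sum_le_sum (f := fun _ => (4 : ℤ)) (g := fun j => x j ^ 2) (s := c) hc4
          simpa using this
        have : x i ≤ -4 ∨ 4 ≤ x i := by have := hc0 i hi; omega
        rcases this with h' | h' <;> nlinarith
      have hval : ∀ i ∈ c, x i = 2 ∨ x i = -2 := fun i hi => by
        have h := hbound (insert p c)
        rw [Finset.sum_insert hpc, hp2, ← Finset.add_sum_erase c _ hi] at h
        have h2 : ((c.erase i).card : ℤ) * 4 ≤ ∑ j ∈ c.erase i, x j ^ 2 := by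
          have := Finset.sum_le_sum (f := fun _ => (4 : ℤ)) (g := fun j => x j ^ 2) (s := c.erase i)
            (fun j hj => hc4 j (Finset.mem_of_mem_erase hj))
          simpa using this
        rw [Finset.card_erase_of_mem hi, h8] at h2
        have h4 : x i ^ 2 ≤ 4 := by push_cast at h2; omega
        have : -2 ≤ x i ∧ x i ≤ 2 := ⟨by nlinarith, by nlinarith⟩
        rw [hc, Finset.mem_filter] at hi
        omega
      set N := c.filter fun i => x i = -2 with hN
      have hNc : N ⊆ c := Finset.filter_subset _ _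
      have hxe : ∀ i, x i = fourVec c N p (decide (x p = 4)) i := fun i => by
        unfold fourVec twoVec
        by_cases hip : i = p
        · subst hip; rcases hp4 with e | e <;> simp [e]
        · rw [if_neg hip]
          by_cases hic : i ∈ c
          · rcases hval i hic with e | e <;> simp [hN, hic, e]
          · simp [hic, hrest i hic hip]
      have hsum : ∑ i, x i = x p + (2 * 8 - 4 * (N.card : ℤ)) := by
        have h1 : ∑ i, twoVec c N i = 2 * 8 - 4 * (N.card : ℤ) := by rw [sum_twoVec hNc, h8]; norm_num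
        rw [← Finset.add_sum_erase Finset.univ _ (Finset.mem_univ p), ← h1,
          ← Finset.add_sum_erase Finset.univ (twoVec c N) (Finset.mem_univ p),
          show twoVec c N p = 0 by simp [twoVec, hpc], zero_add]
        congr 1
        refine Finset.sum_congr rfl fun i hi => ?_
        conv_lhs => rw [hxe i]
        simp [fourVec, Finset.ne_of_mem_erase hi]
      exact ⟨c, N, p, decide (x p = 4), ⟨⟨hcs, h8⟩, ⟨hNc, by omega⟩, hpc⟩, funext fun i => (hxe i).symm⟩
    · rintro ⟨c, N, p, s, ⟨hc, ⟨hN, h2⟩, hp⟩, rfl⟩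
      have htp : twoVec c N p = 0 := by simp [twoVec, hp]
      have hsum : ∀ f : ℤ → ℤ, f 0 = 0 → ∑ i, f (fourVec c N p s i) = f (fourVec c N p s p) + ∑ i, f (twoVec c N i) := by
        intro f hf
        rw [← Finset.add_sum_erase Finset.univ _ (Finset.mem_univ p),
          ← Finset.add_sum_erase Finset.univ (fun i => f (twoVec c N i)) (Finset.mem_univ p), htp, hf, zero_add]
        congr 1
        exact Finset.sum_congr rfl fun i hi => by simp [fourVec, Finset.ne_of_mem_erase hi]
      have hpv : fourVec c N p s p = 4 ∨ fourVec c N p s p = -4 := by cases s <;> simp [fourVec]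
      refine ⟨mem_of_residue 0 2 (fun i => ?_) (by norm_num) ?_ hc.1 (fun i => ?_), ?_, p, ?_⟩
      · unfold fourVec twoVec; split <;> split <;> (try split) <;> norm_num
      · have h := hsum (fun v => v) rfl
        rw [sum_twoVec hN, hc.2] at h
        rw [h]
        rcases hpv with e | e <;> rw [e] <;> push_cast <;> omega
      · unfold fourVec twoVec
        by_cases hip : i = p
        · subst hip; cases s <;> simp [hp]
        · by_cases h1 : i ∈ c <;> by_cases h3 : i ∈ N <;> simp [hip, h1, h3]
      · show ∑ i, fourVec c N p s i ^ 2 = 48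
        rw [hsum (fun v => v ^ 2) (by norm_num), sq_twoVec, hc.2]
        rcases hpv with e | e <;> rw [e] <;> norm_num
      · rcases hpv with e | e <;> rw [e] <;> norm_num
  · rintro ⟨c, N, p, s⟩ hq ⟨c', N', p', s'⟩ hq' e
    rw [Finset.mem_coe, hmem] at hq hq'
    have h : ∀ i, fourVec c N p s i = fourVec c' N' p' s' i := congrFun e
    have hpp : p = p' := by
      by_contra hne
      have h1 := h p
      unfold fourVec twoVec at h1
      rw [if_pos rfl, if_neg hne] at h1
      cases s <;> simp only [Bool.false_eq_true, if_false, if_true] at h1 <;> split at h1 <;> (try split at h1) <;> norm_num at h1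
    subst hpp
    have hss : s = s' := by
      have h1 := h p
      unfold fourVec at h1
      cases s <;> cases s' <;> simp at h1 ⊢
    subst hss
    obtain ⟨rfl, rfl⟩ := twoVec_inj hq.2.1.1 hq'.2.1.1 fun i => by
      by_cases hip : i = p
      · subst hip; simp [twoVec, hq.2.2, hq'.2.2]
      · have := h i; simpa [fourVec, hip] using this
    rfl

end CfsgLib.Leech.Norm48
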