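import Cfsg.Agent.Lib.Leech.ModTwo
import Cfsg.Agent.Lib.Leech.BitLin
import Cfsg.Agent.Lib.Leech.PerpData
import Cfsg.Prelude.Def_Spor_Conway

/-!
The stabilizer of the standard short vector acting on the orthogonal section of the lattice modulo two.
-/

set_option autoImplicit false
set_option maxRecDepth 10000

namespace CfsgLib.Leech

open Cfsg CfsgLib.Golay

attribute [local irreducible] dL bL key keyL coord packB linL

/-- the standard short vector -/
abbrev uV : ↥leechLattice := Spor.leechU

theorem vecU_eq : Spor.vecU = mainV 1 := by funext p; revert p; decide +kernel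

theorem sqNorm_uV : sqNorm ((uV : ↥leechLattice) : GolayPt → ℤ) = 32 := by
  show sqNorm Spor.vecU = 32
  rw [vecU_eq]; exact mainV_norm (t := 1) (by norm_num)

theorem key_uV : key ((uV : ↥leechLattice) : GolayPt → ℤ) = Perp.uK := by
  show key Spor.vecU = _
  rw [vecU_eq, show key (mainV 1) = mainK 1 from rfl, mainK_eq (by norm_num)]
  decide +kernel

/-- zero or the short vector modulo two -/
def UD (v : ↥leechLattice) : Prop := IsDbl v ∨ IsDbl (v - uV)

theorem ud_iff_key {v : ↥leechLattice} :
    UD v ↔ key (v : GolayPt → ℤ) = 0 ∨ key (v : GolayPt → ℤ) = Perp.uK := by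
  rw [UD, isDbl_iff_key, isDbl_sub_iff, key_uV]

/-- orthogonal to the short vector modulo two -/
def IsPerp (v : ↥leechLattice) : Prop := bil v uV = 0

theorem bil_self (v : ↥leechLattice) : bil v v = 0 := by
  rw [bil, ← sqNorm_eq_dotInt, ← ZMod.intCast_mod _ 2, show ((2 : ℕ) : ℤ) = 2 from rfl]
  have := sqNorm_even v.2
  rw [show sqNorm (v : GolayPt → ℤ) / 8 % 2 = 0 by omega]
  simp

theorem isPerp_uV : IsPerp uV := bil_self uV

theorem bil_uV_of_UD {x w : ↥leechLattice} (hx : UD x) (hw : IsPerp w) : bil x w = 0 := by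
  rcases hx with h | h
  · exact bil_of_isDbl h w
  · rw [bil_congr h, bil_comm]; exact hw

theorem UD.perp {x : ↥leechLattice} (hx : UD x) : IsPerp x := bil_uV_of_UD hx isPerp_uV

/-- the stabilizer of the class of the short vector -/
def uStab : Subgroup ↥Co0 where
  carrier := {g | IsDbl (g • uV - uV)}
  one_mem' := by
    show IsDbl ((1 : ↥Co0) • uV - uV)
    rw [one_smul, sub_self]; exact isDbl_zero
  mul_mem' := fun {a b} (ha : IsDbl (a • uV - uV)) (hb : IsDbl (b • uV - uV)) => by
    have h := (hb.smul a).add ha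
    show IsDbl ((a * b) • uV - uV)
    convert h using 1
    rw [mul_smul, sub_eq_add_neg (b • uV) uV, smul_add', smul_neg']
    abel
  inv_mem' := fun {a} (ha : IsDbl (a • uV - uV)) => by
    have h := (ha.smul a⁻¹).neg
    show IsDbl (a⁻¹ • uV - uV)
    convert h using 1
    rw [sub_eq_add_neg (a • uV) uV, smul_add', smul_neg', inv_smul_smul]
    abel

theorem mem_uStab {g : ↥Co0} : g ∈ uStab ↔ IsDbl (g • uV - uV) := Iff.rfl

theorem mem_uStab_iff_act {g : ↥Co0} : g ∈ uStab ↔ act g Perp.uK = Perp.uK := by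
  rw [mem_uStab, isDbl_sub_iff, ← key_uV, act_key]

theorem smul_sub' (g : ↥Co0) (v w : ↥leechLattice) : g • (v - w) = g • v - g • w := by
  rw [sub_eq_add_neg, smul_add', smul_neg', ← sub_eq_add_neg]

theorem UD.smul {g : ↥Co0} (hg : g ∈ uStab) {v : ↥leechLattice} (hv : UD v) : UD (g • v) := by
  rcases hv with h | h
  · exact Or.inl (h.smul g)
  · refine Or.inr ?_
    have h' := (h.smul g).add (mem_uStab.1 hg)
    rwa [smul_sub', sub_add_sub_cancel] at h'

theorem IsPerp.smul {g : ↥Co0} (hg : g ∈ uStab) {v : ↥leechLattice} (hv : IsPerp v) :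
    IsPerp (g • v) := by
  rw [IsPerp, bil_comm]
  rw [← bil_congr (mem_uStab.1 hg), bil_smul, bil_comm]
  exact hv

theorem UD.add {v w : ↥leechLattice} (hv : UD v) (hw : UD w) : UD (v + w) := by
  rcases hv with h | h <;> rcases hw with h' | h'
  · exact Or.inl (h.add h')
  · exact Or.inr (by convert h.add h' using 1; abel)
  · exact Or.inr (by convert h.add h' using 1; abel)
  · exact Or.inl (by convert (h.add h').add (isDbl_double uV) using 1; abel)

theorem ud_zero : UD 0 := Or.inl isDbl_zero

/-! ### Tables -/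

/-- the mask of the scalar product with the short vector -/
def parF (v : ↥leechLattice) : ℕ := (bil v uV).val

theorem val_add_xor : ∀ a b : ZMod 2, (a + b).val = a.val ^^^ b.val := by decide

theorem bu_table : (List.ofFn fun j : Fin 24 =>
    ((dotL (bL.getD j.val []) (mains.getD 1 []) / 8) % 2).toNat) = Perp.buL := by decide +kernel

theorem bil_bV_val {l : List ℤ} (hl : inL l = true) (j : Fin 24) :
    (bil ⟨bV j, bV_mem j⟩ ⟨vec l, vec_mem hl⟩).val =
      ((dotL (bL.getD j.val []) l / 8) % 2).toNat := by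
  rw [bil]
  have hb : (bL.getD j.val []).length = 24 := by
    refine bL_length ?_
    rw [List.getD_eq_getElem _ _ (by rw [data_length.1]; exact j.isLt)]
    exact List.getElem_mem _
  show ((dotInt (bV j) (vec l) / 8 : ℤ) : ZMod 2).val = _
  rw [bV, dotInt_vec hb (inL_length hl)]
  rw [← ZMod.intCast_mod _ 2, show ((2 : ℕ) : ℤ) = 2 from rfl]
  rcases Int.emod_two_eq_zero_or_one (dotL (bL.getD j.val []) l / 8) with h | h <;> rw [h] <;> rfl

theorem uV_eq : uV = ⟨vec (mains.getD 1 []), vec_mem (main_inL (t := 1) (by norm_num))⟩ :=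
  Subtype.ext vecU_eq

theorem comb_buL (v : ↥leechLattice) :
    comb Perp.buL (key (v : GolayPt → ℤ)) = (bil v uV).val := by
  have h := hom_eq_comb parF (fun a b => by rw [parF, parF, parF, bil_add_left, val_add_xor]) v
  rw [parF] at h
  rw [h, ← bu_table]
  refine congrArg (fun l => comb l _) (congrArg List.ofFn (funext fun j => ?_))
  rw [parF, uV_eq, bil_bV_val (main_inL (t := 1) (by norm_num))]

/-- the table of a two-element list -/
def chkClosed (S : List ℕ) : Bool := S.contains 0 && S.all fun a => S.all fun b => S.contains (a ^^^ b)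

/-- differences from the identity lie in a list -/
def chkDiff (S l : List ℕ) : Bool := (xorL pow2L l).all fun a => S.contains a

theorem mem_of_checks {S l : List ℕ} (h1 : chkClosed S = true) (h2 : chkDiff S l = true) {k : ℕ}
    (hk : k < 2 ^ 24) (h : comb l k = 0) : k ∈ S := by
  simp only [chkClosed, chkDiff, Bool.and_eq_true, List.all_eq_true, List.contains_iff_mem] at h1 h2
  exact mem_of_comb_eq_zero h1.1 h1.2 h2 hk h

theorem proj_table : xorL pow2L Perp.projL =
    Perp.buL.map (comb [(xorL pow2L Perp.projL).foldl max 0]) := by decide +kernel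

theorem comb_proj {v : ↥leechLattice} (hv : IsPerp v) :
    comb Perp.projL (key (v : GolayPt → ℤ)) = key (v : GolayPt → ℤ) := by
  have h := congrArg (fun l => comb l (key (v : GolayPt → ℤ))) proj_table
  simp only [comb_xorL, comb_pow2 (key_lt _), comb_comb, comb_buL, show bil v uV = 0 from hv,
    ZMod.val_zero, comb_zero_right] at h
  exact (xor_eq_zero_imp h).symm
where
  xor_eq_zero_imp {a b : ℕ} (h : a ^^^ b = 0) : a = b := Nat.xor_eq_zero_iff.1 h

theorem mem_of_key_comb {M : AddSubgroup ↥leechLattice} (hdbl : ∀ v, IsDbl v → v ∈ M) :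
    ∀ (l : List ℕ), (∀ a ∈ l, ∃ w ∈ M, key (w : GolayPt → ℤ) = a) →
      ∀ (c : ℕ) (v : ↥leechLattice), key (v : GolayPt → ℤ) = comb l c → v ∈ M := by
  intro l
  induction l with
  | nil => intro _ c v hv; exact hdbl v ((isDbl_iff_key v).2 hv)
  | cons r rs ih =>
    intro h c v hv
    simp only [List.mem_cons, forall_eq_or_imp] at h
    rw [comb] at hv
    by_cases hc : c % 2 = 1
    · rw [if_pos hc] at hv
      obtain ⟨w, hw, hwk⟩ := h.1
      have hk : key ((v - w : ↥leechLattice) : GolayPt → ℤ) = comb rs (c / 2) := by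
        rw [AddSubgroup.coe_sub, sub_eq_add_neg, key_add v.2 (neg_mem w.2), key_neg w.2, hv, hwk,
          Nat.xor_comm r, Nat.xor_assoc, Nat.xor_self, Nat.xor_zero]
      have := M.add_mem (ih h.2 _ _ hk) hw
      simpa using this
    · rw [if_neg hc, Nat.zero_xor] at hv
      exact ih h.2 _ v hv

/-! ### Orthogonal short vectors -/

/-- check of an orthogonal short vector -/
def orthOK (l : List ℤ) : Bool :=
  inL l && dotL l l == 32 && dotL l (mains.getD 1 []) == 0

theorem orth_all : Perp.orthV.all orthOK = true := by decide +kernel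

theorem orth_table : Perp.orthC.map (comb (Perp.uK :: Perp.orthV.map keyL)) = Perp.projL := by
  decide +kernel

theorem orth_spec {l : List ℤ} (h : l ∈ Perp.orthV) : ∃ w : ↥leechLattice,
    (w : GolayPt → ℤ) = vec l ∧ sqNorm (w : GolayPt → ℤ) = 32 ∧
      dotInt (w : GolayPt → ℤ) ((uV : ↥leechLattice) : GolayPt → ℤ) = 0 ∧
      key (w : GolayPt → ℤ) = keyL l := by
  have hl := List.all_eq_true.1 orth_all l h
  simp only [orthOK, Bool.and_eq_true, beq_iff_eq] at hl
  refine ⟨⟨vec l, vec_mem hl.1.1⟩, rfl, ?_, ?_, keyL_eq (inL_length hl.1.1)⟩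
  · rw [sqNorm_vec (inL_length hl.1.1)]; exact hl.1.2
  · rw [uV_eq]
    show dotInt (vec l) (vec _) = 0
    rw [dotInt_vec (inL_length hl.1.1) (inL_length (main_inL (t := 1) (by norm_num)))]
    exact hl.2

theorem perp_le_of_orth {M : AddSubgroup ↥leechLattice} (hdbl : ∀ v, IsDbl v → v ∈ M) (hu : uV ∈ M)
    (ho : ∀ w : ↥leechLattice, sqNorm (w : GolayPt → ℤ) = 32 →
      dotInt (w : GolayPt → ℤ) ((uV : ↥leechLattice) : GolayPt → ℤ) = 0 → w ∈ M)
    {v : ↥leechLattice} (hv : IsPerp v) : v ∈ M := by
  refine mem_of_key_comb hdbl (Perp.uK :: Perp.orthV.map keyL) ?_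
    (comb Perp.orthC (key (v : GolayPt → ℤ))) v ?_
  · intro a ha
    rcases List.mem_cons.1 ha with rfl | ha
    · exact ⟨uV, hu, key_uV⟩
    · obtain ⟨l, hl, rfl⟩ := List.mem_map.1 ha
      obtain ⟨w, -, hn, hd, hk⟩ := orth_spec hl
      exact ⟨w, ho w hn hd, hk⟩
  · rw [← comb_comb, orth_table, comb_proj hv]

/-- the scalar products with the short vector and the orthogonal ones, as tables -/
def orthTables : List (List ℕ × List ℕ) :=
  ((mains.getD 1 [] :: Perp.orthV).zip Perp.orthR).map fun p =>
    (List.ofFn (fun j : Fin 24 => ((dotL (bL.getD j.val []) p.1 / 8) % 2).toNat), [p.2])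

theorem orth_inverse : combine orthTables = Perp.red1 := by decide +kernel

theorem red1_ok : chkClosed [0, Perp.uK] = true ∧ chkDiff [0, Perp.uK] Perp.red1 = true ∧
    comb Perp.red1 Perp.uK = 0 := by decide +kernel

theorem ud_of_orth {x : ↥leechLattice} (h : ∀ w, IsPerp w → bil x w = 0) : UD x := by
  refine ud_iff_key.2 ?_
  have h0 : comb (combine orthTables) (key (x : GolayPt → ℤ)) = 0 := by
    refine comb_combine_eq_zero _ _ fun p hp => ?_
    obtain ⟨⟨l, r⟩, hlr, rfl⟩ := List.mem_map.1 hp
    have hl := (List.of_mem_zip hlr).1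
    obtain ⟨hin, hperp⟩ : ∃ hin : inL l = true, IsPerp (⟨vec l, vec_mem hin⟩ : ↥leechLattice) := by
      rcases List.mem_cons.1 hl with rfl | hl
      · exact ⟨main_inL (t := 1) (by norm_num), uV_eq ▸ isPerp_uV⟩
      · have hl' := List.all_eq_true.1 orth_all l hl
        simp only [orthOK, Bool.and_eq_true, beq_iff_eq] at hl'
        refine ⟨hl'.1.1, ?_⟩
        rw [IsPerp, bil, uV_eq]
        show ((dotInt (vec l) (vec _) / 8 : ℤ) : ZMod 2) = 0
        rw [dotInt_vec (inL_length hl'.1.1) (inL_length (main_inL (t := 1) (by norm_num))), hl'.2]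
        simp
    have he := hom_eq_comb (fun v => (bil v ⟨vec l, vec_mem hin⟩).val)
      (fun a b => by rw [bil_add_left, val_add_xor]) x
    rw [h _ hperp, ZMod.val_zero] at he
    rw [he]
    exact congrArg (fun t => comb t _) (congrArg List.ofFn (funext fun j => (bil_bV_val hin j).symm))
  rw [orth_inverse] at h0
  have := mem_of_checks red1_ok.1 red1_ok.2.1 (key_lt _) h0
  simpa using this

/-! ### Faithfulness on the section -/

theorem odd_ok : inL Perp.oddW = true ∧ dotL Perp.oddW Perp.oddW = 32 ∧
    dotL Perp.oddW (mains.getD 1 []) = 8 := by decide +kernel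

/-- a short vector with odd scalar product -/
def oddV : ↥leechLattice := ⟨vec Perp.oddW, vec_mem odd_ok.1⟩

theorem dotInt_oddV : dotInt ((oddV : ↥leechLattice) : GolayPt → ℤ) ((uV : ↥leechLattice) : GolayPt → ℤ) = 8 := by
  rw [uV_eq]
  show dotInt (vec _) (vec _) = 8
  rw [dotInt_vec (inL_length odd_ok.1) (inL_length (main_inL (t := 1) (by norm_num)))]
  exact odd_ok.2.2

theorem isDbl_of_small {a b : ↥leechLattice} (h : IsDbl (a - b))
    (ha : sqNorm (a : GolayPt → ℤ) = 32) : sqNorm (b : GolayPt → ℤ) ≤ 64 →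
    sqNorm (b : GolayPt → ℤ) = 32 := by
  intro hb
  rcases eq_or_neg_of_key (by omega) hb ((isDbl_sub_iff a b).1 h) with e | e
  · rw [e, ha]
  · rw [e, AddSubgroup.coe_neg, sqNorm_neg, ha]

theorem faithful_perp {g : ↥Co0} (h : ∀ v, IsPerp v → UD (g • v - v)) :
    g ∈ Subgroup.center ↥Co0 := by
  have hg : g ∈ uStab := by
    rcases h uV isPerp_uV with e | e
    · exact e
    · exfalso
      have h2 : IsDbl (g • uV) := by convert e.add (isDbl_double uV) using 1; abel
      have h3 := h2.smul g⁻¹
      rw [inv_smul_smul, isDbl_iff_key, key_uV] at h3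
      exact absurd h3 (by decide +kernel)
  let M : AddSubgroup ↥leechLattice :=
    { carrier := {v | IsDbl (g • v - v)}
      zero_mem' := by
        show IsDbl (g • (0 : ↥leechLattice) - 0)
        rw [smul_zero', sub_self]; exact isDbl_zero
      add_mem' := fun {a b} (ha : IsDbl (g • a - a)) (hb : IsDbl (g • b - b)) => by
        show IsDbl (g • (a + b) - (a + b))
        rw [smul_add']; convert ha.add hb using 1; abel
      neg_mem' := fun {a} (ha : IsDbl (g • a - a)) => by
        show IsDbl (g • -a - -a)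
        rw [smul_neg']; convert ha.neg using 1; abel }
  have hperp : ∀ v, IsPerp v → v ∈ M := fun v hv => by
    refine perp_le_of_orth (M := M) (fun w hw => (hw.smul g).sub hw) hg (fun w hn hd => ?_) hv
    have hw : IsPerp w := by rw [IsPerp, bil, hd]; simp
    rcases h w hw with e | e
    · exact e
    · exfalso
      have hn2 : sqNorm ((w + uV : ↥leechLattice) : GolayPt → ℤ) = 64 := by
        rw [AddSubgroup.coe_add, sqNorm_add, hn, hd, sqNorm_uV]; norm_num
      have := isDbl_of_small (a := g • w) (b := w + uV) (by rw [← sub_sub]; exact e)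
        ((sqNorm_smul g w).trans hn) hn2.le
      omega
  have hodd : oddV ∈ M := by
    have hx : UD (g • oddV - oddV) := by
      refine ud_of_orth fun w hw => ?_
      rw [bil_sub_left]
      have hb : bil (g • oddV) (g • w) = bil (g • oddV) w := by
        rw [bil_comm, bil_congr (hperp w hw), bil_comm]
      rw [← hb, bil_smul, CharTwo.add_self_eq_zero]
    rcases hx with e | e
    · exact e
    · exfalso
      have hn : sqNorm ((oddV : ↥leechLattice) : GolayPt → ℤ) = 32 :=
        (sqNorm_vec (inL_length odd_ok.1)).trans odd_ok.2.1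
      have hn2 : sqNorm ((oddV - uV : ↥leechLattice) : GolayPt → ℤ) = 48 := by
        rw [AddSubgroup.coe_sub, sqNorm_sub, hn, dotInt_oddV, sqNorm_uV]; norm_num
      have := isDbl_of_small (a := g • oddV) (b := oddV - uV)
        (by convert e.add (isDbl_double uV) using 1; abel)
        ((sqNorm_smul g _).trans hn) (by omega)
      omega
  refine trivial_mod_two fun v => ?_
  show v ∈ M
  by_cases hv : IsPerp v
  · exact hperp v hv
  · have hb : IsPerp (v - oddV) := by
      rw [IsPerp, bil_sub_left]
      have h1 : bil v uV = 1 := Fin.eq_one_of_ne_zero _ hv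
      have h2 : bil oddV uV = 1 := by rw [bil, dotInt_oddV]; decide
      rw [h1, h2]; decide
    have := M.add_mem (hperp _ hb) hodd
    simpa using this

end CfsgLib.Leech
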