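import Cfsg.Agent.Lib.Leech.Co0

/-!
The invariant quadratic form on the lattice modulo two.
-/

set_option autoImplicit false
set_option maxRecDepth 10000

namespace CfsgLib.Leech

open Cfsg CfsgLib.Golay

attribute [local irreducible] dL bL key keyL coord packB linL bits

/-- six short vectors -/
def testL : List (List ℤ) :=
  [[4, 4, 0, 0, 0, 0, 0, 0, 0, 0, 0, 0, 0, 0, 0, 0, 0, 0, 0, 0, 0, 0, 0, 0],
   [0, -4, 4, 0, 0, 0, 0, 0, 0, 0, 0, 0, 0, 0, 0, 0, 0, 0, 0, 0, 0, 0, 0, 0],
   [0, 0, -4, 4, 0, 0, 0, 0, 0, 0, 0, 0, 0, 0, 0, 0, 0, 0, 0, 0, 0, 0, 0, 0],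
   [2, 0, 2, 0, 0, 0, 0, 0, 0, 0, 0, 0, 0, 2, 2, 2, 2, 2, 0, 0, 2, 0, 0, 0]]

theorem testL_inL : testL.all inL = true := by decide +kernel

/-- the test vectors in the lattice -/
def testV (i : Fin 4) : ↥leechLattice :=
  ⟨vec (testL.getD i.val []), by
    have h := List.all_eq_true.1 testL_inL
    refine vec_mem (h _ ?_)
    rw [List.getD_eq_getElem?_getD,
      List.getElem?_eq_getElem (show i.val < testL.length from i.isLt), Option.getD_some]
    exact List.getElem_mem _⟩

theorem sqNorm_lin (a : Fin 4 → ℤ) :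
    sqNorm ((∑ i, a i • testV i : ↥leechLattice) : GolayPt → ℤ) =
      ∑ i : Fin 4, ∑ j : Fin 4, a i * a j * dotL (testL.getD i.val []) (testL.getD j.val []) := by
  have hl : ∀ i : Fin 4, (testL.getD i.val []).length = 24 := by decide
  rw [sqNorm_eq_dotInt, AddSubgroup.val_finset_sum]
  simp only [AddSubgroup.coe_zsmul]
  have e : ∀ i j : Fin 4, dotInt ((testV i : ↥leechLattice) : GolayPt → ℤ)
      ((testV j : ↥leechLattice) : GolayPt → ℤ) =
      dotL (testL.getD i.val []) (testL.getD j.val []) := fun i j => dotInt_vec (hl i) (hl j)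
  simp only [← e]
  simp only [dotInt, Finset.sum_apply, Pi.smul_apply, smul_eq_mul, Finset.sum_mul, Finset.mul_sum]
  rw [Finset.sum_comm]
  refine Finset.sum_congr rfl fun i _ => ?_
  rw [Finset.sum_comm]
  exact Finset.sum_congr rfl fun j _ => Finset.sum_congr rfl fun p _ => by ring

theorem quad_unique (Q : ↥leechLattice → ZMod 2) (hcoset : ∀ v w : ↥leechLattice, Q (v + (w + w)) = Q v)
    (hquad : ∀ u v w : ↥leechLattice,
      Q (u + v + w) + Q u + Q v + Q w = Q (u + v) + Q (u + w) + Q (v + w))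
    (hinv : ∀ (g : ↥Co0) (v : ↥leechLattice), Q (g • v) = Q v)
    (hne : ∃ v : ↥leechLattice, Q v ≠ 0) (v : ↥leechLattice) :
    Q v = ((sqNorm (v : GolayPt → ℤ) / 16 : ℤ) : ZMod 2) := by
  have two : ∀ a : ZMod 2, a + a = 0 := by decide
  have h0 : Q 0 = 0 := by
    have h := hquad 0 0 0
    simp only [add_zero] at h
    have := two (Q 0)
    linear_combination h
  set c : ℕ → ZMod 2 := fun t => if ht : t < 4 then Q (mainL ht) else 0 with hc
  have hct : ∀ (t : ℕ) (ht : t < 4) (w : ↥leechLattice),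
      sqNorm (w : GolayPt → ℤ) = typeNorm t → Q w = c t := by
    intro t ht w hw
    have hm : sqNorm ((mainL ht : ↥leechLattice) : GolayPt → ℤ) = typeNorm t := mainV_norm ht
    simp only [hc, dif_pos ht]
    by_cases h3 : t = 3
    · subst h3
      obtain ⟨g, hg⟩ := transitive_64 hm hw
      rw [← hg, hinv]
    · obtain ⟨g, hg⟩ := transitive_small (show t < 3 by omega) hm hw
      rw [← hg, hinv]
  have hsub : ∀ x y : ↥leechLattice, Q (x + y) = Q (x - y) := fun x y => by
    rw [show x + y = (x - y) + (y + y) by abel, hcoset]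
  have hn : ∀ (a : Fin 4 → ℤ) (t : ℕ) (ht : t < 4),
      (∑ i : Fin 4, ∑ j : Fin 4, a i * a j * dotL (testL.getD i.val []) (testL.getD j.val [])) =
        typeNorm t → Q (∑ i, a i • testV i) = c t :=
    fun a t ht h => hct t ht _ ((sqNorm_lin a).trans h)
  have t0 : Q (testV 0) = c 1 := by
    simpa [Fin.sum_univ_four] using hn ![1, 0, 0, 0] 1 (by norm_num) (by decide +kernel)
  have t1 : Q (testV 1) = c 1 := by
    simpa [Fin.sum_univ_four] using hn ![0, 1, 0, 0] 1 (by norm_num) (by decide +kernel)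
  have t2 : Q (testV 2) = c 1 := by
    simpa [Fin.sum_univ_four] using hn ![0, 0, 1, 0] 1 (by norm_num) (by decide +kernel)
  have t3 : Q (testV 3) = c 1 := by
    simpa [Fin.sum_univ_four] using hn ![0, 0, 0, 1] 1 (by norm_num) (by decide +kernel)
  have c3 : c 3 = 0 := by
    have h := hquad (testV 0) (testV 1) (testV 2)
    have a1 : Q (testV 0 + testV 1 + testV 2) = c 1 := by
      simpa [Fin.sum_univ_four] using hn ![1, 1, 1, 0] 1 (by norm_num) (by decide +kernel)
    have a2 : Q (testV 0 + testV 1) = c 1 := by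
      simpa [Fin.sum_univ_four] using hn ![1, 1, 0, 0] 1 (by norm_num) (by decide +kernel)
    have a3 : Q (testV 0 + testV 2) = c 3 := by
      simpa [Fin.sum_univ_four] using hn ![1, 0, 1, 0] 3 (by norm_num) (by decide +kernel)
    have a4 : Q (testV 1 + testV 2) = c 1 := by
      simpa [Fin.sum_univ_four] using hn ![0, 1, 1, 0] 1 (by norm_num) (by decide +kernel)
    rw [t0, t1, t2, a1, a2, a3, a4] at h
    have := two (c 1)
    linear_combination (-1 : ZMod 2) * h + this
  have c1 : c 1 = 0 := by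
    have h := hquad (testV 3) (testV 0) (testV 1)
    have a1 : Q (testV 3 + testV 0 + testV 1) = c 1 := by
      rw [add_assoc, hsub]
      simpa [Fin.sum_univ_four, sub_eq_add_neg, add_comm, add_left_comm] using
        hn ![-1, -1, 0, 1] 1 (by norm_num) (by decide +kernel)
    have a2 : Q (testV 3 + testV 0) = c 2 := by
      rw [hsub]
      simpa [Fin.sum_univ_four, sub_eq_add_neg, add_comm] using
        hn ![-1, 0, 0, 1] 2 (by norm_num) (by decide +kernel)
    have a3 : Q (testV 3 + testV 1) = c 2 := by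
      rw [hsub]
      simpa [Fin.sum_univ_four, sub_eq_add_neg, add_comm] using
        hn ![0, -1, 0, 1] 2 (by norm_num) (by decide +kernel)
    have a4 : Q (testV 0 + testV 1) = c 1 := by
      simpa [Fin.sum_univ_four] using hn ![1, 1, 0, 0] 1 (by norm_num) (by decide +kernel)
    rw [t3, t0, t1, a1, a2, a3, a4] at h
    have := two (c 2)
    have := two (c 1)
    linear_combination h + two (c 2) - two (c 1)
  have hc0 : c 0 = 0 := by
    rw [← h0]
    exact (hct 0 (by norm_num) 0 sqNorm_zero).symm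
  have hkey : ∀ u : ↥leechLattice, ∃ t, t < 4 ∧ Q u = c t ∧
      (sqNorm (u : GolayPt → ℤ) / 16) % 2 = (typeNorm t / 16) % 2 := by
    intro u
    obtain ⟨t, ht, hT⟩ := exists_typ u
    obtain ⟨w, hw, hk⟩ := hT.exists_vec ht
    obtain ⟨z, hz, hz'⟩ := (key_eq_iff u.2 w.2).1 hk.symm
    have hu : u = w + ((⟨z, hz⟩ : ↥leechLattice) + ⟨z, hz⟩) := Subtype.ext (by
      simp only [AddSubgroup.coe_add]
      rw [← two_nsmul, ← hz']
      abel)
    refine ⟨t, ht, by rw [hu, hcoset, hct t ht w hw], ?_⟩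
    have e : (u : GolayPt → ℤ) = (w : GolayPt → ℤ) + 2 • z := by rw [← hz']; abel
    have hd : dotInt (w : GolayPt → ℤ) (2 • z) = 2 * dotInt (w : GolayPt → ℤ) z := by
      simp only [dotInt, Pi.smul_apply, nsmul_eq_mul, Finset.mul_sum]
      exact Finset.sum_congr rfl fun p _ => by push_cast; ring
    have h8 := dotInt_dvd w.2 hz
    have h16 := sqNorm_even hz
    rw [e, sqNorm_add, hd, sqNorm_two_smul, hw]
    omega
  have c2 : c 2 = 1 := by
    obtain ⟨u, hu⟩ := hne
    obtain ⟨t, ht, hq, -⟩ := hkey u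
    rw [hq] at hu
    interval_cases t
    · exact absurd hc0 hu
    · exact absurd c1 hu
    · exact (Fin.eq_one_of_ne_zero _ hu)
    · exact absurd c3 hu
  obtain ⟨t, ht, hq, hpar⟩ := hkey v
  rw [hq, ← ZMod.intCast_mod _ 2, show ((2 : ℕ) : ℤ) = 2 from rfl, hpar]
  interval_cases t
  · rw [hc0]; simp [typeNorm]
  · rw [c1]; simp [typeNorm]
  · rw [c2]; simp [typeNorm]
  · rw [c3]; simp [typeNorm]

end CfsgLib.Leech
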