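import Cfsg.Agent.Lib.Leech.Aut

/-!
Certified walks in the classes modulo twice the lattice.

A class is split into its twelve low bits and its twelve high bits.  The monomial group respects
this splitting, so its orbits are certified on the low bits, and then on the fibre over one class of
low bits for the stabilizer of that class.
-/

set_option autoImplicit false

namespace CfsgLib.Leech

open Cfsg CfsgLib.Golay

/-- one orbit in a fibre: type, representative, walk length, walk, expected bits -/
structure OrbCert where
  /-- index of the standard vector -/
  typ : ℕ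
  /-- representative class -/
  rep : ℕ
  /-- length of the walk -/
  fuel : ℕ
  /-- the walk -/
  code : ℕ
  /-- the high parts met -/
  acc : ℕ

/-- one orbit on low parts with the fibre orbits over its representative -/
structure FibreCert where
  /-- the low part of the base -/
  low : ℕ
  /-- length of the base walk -/
  fuel : ℕ
  /-- the base walk -/
  code : ℕ
  /-- the low parts met -/
  acc : ℕ
  /-- signed permutations fixing the low part -/
  gens : List (ℕ × ℕ × List ℕ)
  /-- the orbits in the fibre -/
  orbs : List OrbCert

/-- low part of a class -/
def lo (k : ℕ) : ℕ := k &&& 4095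

/-- high part of a class -/
def hi (k : ℕ) : ℕ := k >>> 12

/-- the marks met by a walk over linear maps -/
def walkC (gens : List (List ℕ)) (f : ℕ → ℕ) (ok : ℕ → Bool) : ℕ → ℕ → List ℕ → ℕ → Option ℕ
  | 0, _, _, acc => some acc
  | _ + 1, _, [], acc => some acc
  | n + 1, c, k :: st, acc =>
    if c &&& 7 = 0 then walkC gens f ok n (c >>> 3) st acc
    else
      if (c &&& 7) - 1 < gens.length then
        let k' := comb (gens.getD ((c &&& 7) - 1) []) k
        if ok k' then walkC gens f ok n (c >>> 3) (k' :: k :: st) (acc ||| (1 <<< f k')) else none
      else none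

theorem walkC_sound {R : ↥Co0 → Prop} {gens : List (List ℕ)} {f : ℕ → ℕ} {ok : ℕ → Bool} {r : ℕ}
    (hmul : ∀ g h, R g → R h → R (g * h))
    (hgens : ∀ cols ∈ gens, ∃ g, R g ∧ ∀ k, k < 2 ^ 24 → act g k = comb cols k) :
    ∀ n c st acc res, walkC gens f ok n c st acc = some res →
      (∀ k ∈ st, ∃ g, R g ∧ act g r = k) →
      (∀ b, acc.testBit b = true → ∃ g, R g ∧ f (act g r) = b ∧ ok (act g r) = true) →
      ∀ b, res.testBit b = true → ∃ g, R g ∧ f (act g r) = b ∧ ok (act g r) = true := by
  intro n
  induction n with
  | zero =>
    intro c st acc res h _ hacc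
    simp only [walkC, Option.some.injEq] at h
    exact h ▸ hacc
  | succ n ih =>
    intro c st acc res h hst hacc
    cases st with
    | nil => simp only [walkC, Option.some.injEq] at h; exact h ▸ hacc
    | cons k st =>
      simp only [List.mem_cons, forall_eq_or_imp] at hst
      rw [walkC] at h
      split at h
      · exact ih _ _ _ _ h hst.2 hacc
      · split at h
        · next hlt =>
          dsimp only at h
          split at h
          · next hok =>
            set cols := gens.getD ((c &&& 7) - 1) [] with hcols
            have hmem : cols ∈ gens := by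
              rw [hcols, List.getD_eq_getElem?_getD, List.getElem?_eq_getElem hlt]
              exact List.getElem_mem hlt
            obtain ⟨g, hg, hgk⟩ := hst.1
            obtain ⟨s, hs, hsact⟩ := hgens cols hmem
            have hk' : R (s * g) ∧ act (s * g) r = comb cols k :=
              ⟨hmul _ _ hs hg, by rw [act_mul, hsact _ (act_lt g r), hgk]⟩
            refine ih _ _ _ _ h (by
              simp only [List.mem_cons, forall_eq_or_imp]
              exact ⟨⟨_, hk'⟩, hst.1, hst.2⟩) fun b hb => ?_
            rw [Nat.testBit_or, Bool.or_eq_true, Nat.one_shiftLeft, Nat.testBit_two_pow,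
              decide_eq_true_eq] at hb
            rcases hb with hb | hb
            · exact hacc b hb
            · exact ⟨s * g, hk'.1, by rw [hk'.2]; exact hb, by rw [hk'.2]; exact hok⟩
          · exact absurd h (by simp)
        · exact absurd h (by simp)

/-- check of a generator entry: a signed permutation with the given matrix, splitting low parts -/
def genOK (g : ℕ × ℕ × List ℕ) : Bool :=
  inM24 g.1 && inC g.2.1 && (bL.map fun l => keyL (monoL g.1 g.2.1 l)) == g.2.2 &&
    (g.2.2.drop 12).all fun c => lo c == 0

/-- checks of the walk on low parts -/
def baseOK (N : List (ℕ × ℕ × List ℕ)) (F : FibreCert) : Bool :=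
  decide (F.low < 4096) && N.all genOK &&
    walkC (N.map fun g => g.2.2) lo (fun _ => true) F.fuel F.code [F.low] (1 <<< F.low) == some F.acc

/-- checks of one walk in the fibre -/
def orbOK' (F : FibreCert) (O : OrbCert) : Bool :=
  decide (O.typ < 4) && decide (O.rep < 16777216) && lo O.rep == F.low &&
    walkC (F.gens.map fun g => g.2.2) hi (fun k => lo k == F.low) O.fuel O.code [O.rep]
      (1 <<< hi O.rep) == some O.acc

/-- union of the high parts of the orbits of one type -/
def typeAcc (t : ℕ) : List OrbCert → ℕ
  | [] => 0
  | O :: Os => (if O.typ = t then O.acc else 0) ||| typeAcc t Os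

/-- union of all high parts -/
def allAcc : List OrbCert → ℕ
  | [] => 0
  | O :: Os => O.acc ||| allAcc Os

/-- checks of a fibre -/
def fibreOK (F : FibreCert) : Bool :=
  F.gens.all genOK && F.orbs.all (orbOK' F) && allAcc F.orbs == 2 ^ 4096 - 1

end CfsgLib.Leech
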